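import Cfsg.Agent.Spor.J2.ChainCheck

/-!
The group of order 604800 on the 315 lines.
-/

set_option autoImplicit false
set_option maxRecDepth 100000
set_option maxHeartbeats 2000000

namespace Cfsg.Lib.J2

open Cfsg.Lib.PermCert MulAction

/-- the group generated by the four reflections on the lines -/
def lineGroup : Subgroup (Equiv.Perm (Fin 315)) := Subgroup.closure {g | ∃ s ∈ genPP, perm 315 s = g}

/-- check of a derivation of stabiliser generators -/
def derivOK (own : List PP) (tr : List (ℕ × PP × ℕ × ℕ)) (d : List (PP × ℕ × ℕ × ℕ)) : Bool :=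
  d.all fun e => match tr[e.2.1]?, own[e.2.2.1]?, tr[e.2.2.2]? with
    | some a, some s, some b => valid 315 e.1 && isId 315 [pinv e.1, pinv a.2.1, s, b.2.1]
    | _, _, _ => false

theorem deriv_ok : derivOK own0 tr0 deriv1 = true ∧ derivOK own1 tr1 deriv2 = true := by decide +kernel

theorem deriv_lists : deriv1.map (·.1) = own1 ∧ deriv2.map (·.1) = own2 ∧ gens0 = own0 ++ own1 ++ own2 ∧
    own0 = genPP ∧ gens1 = own1 ++ own2 := by decide +kernel

theorem valid_all : ∀ s ∈ gens0, valid 315 s = true := by decide +kernel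

theorem deriv_mem {own : List PP} {tr : List (ℕ × PP × ℕ × ℕ)} {b : ℕ} {d : List (PP × ℕ × ℕ × ℕ)}
    (hv : ∀ s ∈ own, valid 315 s = true) (ht : checkTree 315 ⟨b, own, tr⟩ = true)
    (hd : derivOK own tr d = true) (G : Subgroup (Equiv.Perm (Fin 315))) (hG : ∀ s ∈ own, perm 315 s ∈ G) :
    ∀ s ∈ d.map (·.1), perm 315 s ∈ G := by
  intro s hs
  obtain ⟨e, he, rfl⟩ := List.mem_map.1 hs
  have h := List.all_eq_true.1 hd e he
  split at h
  · next a t c ha ht' hc =>
    rw [Bool.and_eq_true] at h
    have hta := tree_mem (L := ⟨b, own, tr⟩) ht hv G hG a (List.mem_of_getElem? ha)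
    have htc := tree_mem (L := ⟨b, own, tr⟩) ht hv G hG c (List.mem_of_getElem? hc)
    have va := (tree_entry (L := ⟨b, own, tr⟩) ht (List.mem_of_getElem? ha)).1
    have vc := (tree_entry (L := ⟨b, own, tr⟩) ht (List.mem_of_getElem? hc)).1
    have hw := isId_sound (n := 315) (w := [pinv e.1, pinv a.2.1, t, c.2.1]) (by
      intro g hg
      simp only [List.mem_cons, List.not_mem_nil, or_false] at hg
      rcases hg with rfl | rfl | rfl | rfl
      · exact valid_pinv h.1
      · exact valid_pinv va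
      · exact hv _ (List.mem_of_getElem? ht')
      · exact vc) h.2
    simp only [wperm_cons, wperm_nil, mul_one, perm_pinv h.1, perm_pinv va] at hw
    rw [inv_mul_eq_one] at hw
    rw [hw]
    exact G.mul_mem (G.inv_mem hta) (G.mul_mem (hG t (List.mem_of_getElem? ht')) htc)
  · cases h

theorem gens_mem : ∀ s ∈ gens0, perm 315 s ∈ lineGroup := by
  obtain ⟨h1, h2, h3, h4, h5⟩ := deriv_lists
  have m0 : ∀ s ∈ own0, perm 315 s ∈ lineGroup := fun s hs => Subgroup.subset_closure ⟨s, h4 ▸ hs, rfl⟩
  have m1 : ∀ s ∈ own1, perm 315 s ∈ lineGroup := h1 ▸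
    deriv_mem (fun s hs => valid_all s (by simp [h3, hs])) tree0_ok deriv_ok.1 lineGroup m0
  have m2 : ∀ s ∈ own2, perm 315 s ∈ lineGroup := h2 ▸
    deriv_mem (fun s hs => valid_all s (by simp [h3, hs])) tree1_ok deriv_ok.2 lineGroup m1
  intro s hs
  simp only [h3, List.mem_append] at hs
  rcases hs with (hs | hs) | hs
  exacts [m0 s hs, m1 s hs, m2 s hs]

/-- elements fixing the frame are trivial -/
def FrameFaithful : Prop :=
  ∀ g ∈ lineGroup, (∀ x : Fin 315, (x : ℕ) ∈ frame → g x = x) → g = 1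

/-- products of transversal elements -/
def tset : List (ℕ × List (ℕ × PP × ℕ × ℕ)) → Set (Equiv.Perm (Fin 315))
  | [] => {1}
  | (_, tr) :: r => {g | ∃ e ∈ tr, ∃ v ∈ tset r, g = perm 315 e.2.1 * v}

theorem tr_valid : ∀ p ∈ [(lev0.b, tr0), (lev1.b, tr1), (lev2.b, tr2)], ∀ e ∈ p.2,
    valid 315 e.2.1 = true ∧ perm 315 e.2.1 ∈ lineGroup := by
  obtain ⟨h1, h2, h3, h4, h5⟩ := deriv_lists
  intro p hp e he
  simp only [List.mem_cons, List.not_mem_nil, or_false] at hp
  rcases hp with rfl | rfl | rfl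
  · exact ⟨(tree_entry (L := ⟨lev0.b, own0, tr0⟩) tree0_ok he).1, tree_mem (L := ⟨lev0.b, own0, tr0⟩) tree0_ok
      (fun s hs => valid_all s (by simp [h3, hs])) _ (fun s hs => gens_mem s (by simp [h3, hs])) e he⟩
  · exact ⟨(tree_entry (L := ⟨lev1.b, own1, tr1⟩) tree1_ok he).1, tree_mem (L := ⟨lev1.b, own1, tr1⟩) tree1_ok
      (fun s hs => valid_all s (by simp [h3, hs])) _ (fun s hs => gens_mem s (by simp [h3, hs])) e he⟩
  · exact ⟨(tree_entry (L := ⟨lev2.b, own2, tr2⟩) tree2_ok he).1, tree_mem (L := ⟨lev2.b, own2, tr2⟩) tree2_ok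
      (fun s hs => valid_all s (by simp [h3, hs])) _ (fun s hs => gens_mem s (by simp [h3, hs])) e he⟩

theorem fsift_sound (hF : FrameFaithful) : ∀ {c : List (ℕ × List (ℕ × PP × ℕ × ℕ))},
    (∀ p ∈ c, ∀ e ∈ p.2, valid 315 e.2.1 = true ∧ perm 315 e.2.1 ∈ lineGroup) → ∀ {w : List PP},
    (∀ g ∈ w, valid 315 g = true) → wperm 315 w ∈ lineGroup → fsift c w = true → wperm 315 w ∈ tset c := by
  intro c
  induction c with
  | nil =>
    intro _ w hw hm h
    simp only [fsift, List.all_eq_true, beq_iff_eq] at h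
    refine Set.mem_singleton_iff.2 (hF _ hm fun x hx => Fin.ext ?_)
    rw [wperm_apply hw]; exact h x hx
  | cons p r ih =>
    intro hc w hw hm h
    obtain ⟨b, tr⟩ := p
    simp only [fsift] at h
    split at h
    · next e he =>
      have hm' := List.mem_of_find?_eq_some he
      obtain ⟨hv, hg⟩ := hc _ (List.mem_cons_self ..) e hm'
      have := ih (fun q hq => hc q (List.mem_cons_of_mem _ hq)) (w := pinv e.2.1 :: w) (by
        intro g hg; rcases List.mem_cons.mp hg with rfl | hg
        · exact valid_pinv hv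
        · exact hw g hg) (by rw [wperm_cons, perm_pinv hv]; exact mul_mem (inv_mem hg) hm) h
      refine ⟨e, hm', _, this, ?_⟩
      rw [wperm_cons, perm_pinv hv]; group
    · cases h

theorem level_spec {own : List PP} {tr : List (ℕ × PP × ℕ × ℕ)} {b : ℕ}
    {r : List (ℕ × List (ℕ × PP × ℕ × ℕ))} (hb : b < 315) (hnd : (tr.map (·.1)).Nodup)
    (ht : checkTree 315 ⟨b, own, tr⟩ = true) (hpos : 0 < tr.length)
    (hown : ∀ s ∈ own, valid 315 s = true ∧ perm 315 s ∈ lineGroup) (hF : FrameFaithful)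
    (hrv : ∀ p ∈ r, ∀ e ∈ p.2, valid 315 e.2.1 = true ∧ perm 315 e.2.1 ∈ lineGroup)
    (hrows : ∀ s ∈ own, schreierRow tr r s = true)
    (H : Subgroup (Equiv.Perm (Fin 315))) (hHset : tset r = (H : Set (Equiv.Perm (Fin 315))))
    (hHle : H ≤ Subgroup.closure {g | ∃ s ∈ own, perm 315 s = g})
    (hHfix : ∀ v ∈ H, v ⟨b, hb⟩ = ⟨b, hb⟩) :
    tset ((b, tr) :: r) = (Subgroup.closure {g | ∃ s ∈ own, perm 315 s = g} : Set (Equiv.Perm (Fin 315))) ∧
      Nat.card (Subgroup.closure {g | ∃ s ∈ own, perm 315 s = g}) = tr.length * Nat.card H := by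
  set K := Subgroup.closure {g | ∃ s ∈ own, perm 315 s = g} with hK
  have hgen : ∀ s ∈ own, perm 315 s ∈ K := fun s hs => Subgroup.subset_closure ⟨s, hs, rfl⟩
  have hv : ∀ s ∈ own, valid 315 s = true := fun s hs => (hown s hs).1
  have hKle : K ≤ lineGroup := (Subgroup.closure_le _).2 (by rintro _ ⟨s, hs, rfl⟩; exact (hown s hs).2)
  have htm : ∀ e ∈ tr, perm 315 e.2.1 ∈ K := tree_mem (L := ⟨b, own, tr⟩) ht hv K hgen
  have h0 := List.all_eq_true.mp ht 0 (List.mem_range.mpr hpos)
  rw [List.getElem?_eq_getElem hpos] at h0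
  simp only [Bool.and_eq_true, beq_iff_eq, if_pos] at h0
  have hone := isId_sound (n := 315) (w := [(tr[0]'hpos).2.1]) (by simpa using h0.1.1) h0.2.2
  simp only [wperm_cons, wperm_nil, mul_one] at hone
  have hset : tset ((b, tr) :: r) = (K : Set (Equiv.Perm (Fin 315))) := by
    apply Set.Subset.antisymm
    · rintro g ⟨e, he, v, hv', rfl⟩
      rw [hHset] at hv'
      exact K.mul_mem (htm e he) (hHle hv')
    · intro g hg
      change g ∈ K.toSubmonoid at hg
      simp only [K, Subgroup.closure_toSubmonoid_of_finite] at hg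
      induction hg using Submonoid.closure_induction_left with
      | one => exact ⟨tr[0]'hpos, List.getElem_mem _, 1, hHset ▸ one_mem H, by rw [hone, mul_one]⟩
      | mul_left x hx y hy ihy =>
        obtain ⟨s, hs, rfl⟩ := hx
        obtain ⟨e, he, v, hv', rfl⟩ := ihy
        have hr := List.all_eq_true.1 (hrows s hs) e he
        split at hr
        · next e' he' =>
          have hem := List.mem_of_find?_eq_some he'
          have hev := (tree_entry (L := ⟨b, own, tr⟩) ht hem).1
          have := fsift_sound hF hrv (w := [pinv e'.2.1, s, e.2.1]) (by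
            intro g hg
            simp only [List.mem_cons, List.not_mem_nil, or_false] at hg
            rcases hg with h' | h' | h'
            · rw [h']; exact valid_pinv hev
            · rw [h']; exact hv s hs
            · rw [h']; exact (tree_entry (L := ⟨b, own, tr⟩) ht he).1) (by
            simp only [wperm_cons, wperm_nil, mul_one, perm_pinv hev]
            exact mul_mem (inv_mem (hKle (htm e' hem))) (mul_mem (hown s hs).2 (hKle (htm e he)))) hr
          rw [hHset] at this hv'
          refine ⟨e', hem, wperm 315 [pinv e'.2.1, s, e.2.1] * v, ?_, ?_⟩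
          · rw [hHset]; exact mul_mem this hv'
          · simp only [wperm_cons, wperm_nil, mul_one, perm_pinv hev]; group
        · cases hr
  refine ⟨hset, ?_⟩
  let f : {e // e ∈ tr} × ↥H → ↥K := fun p => ⟨perm 315 p.1.1.2.1 * p.2, K.mul_mem (htm _ p.1.2) (hHle p.2.2)⟩
  have hf : Function.Bijective f := by
    constructor
    · rintro ⟨⟨e, he⟩, v⟩ ⟨⟨e', he'⟩, v'⟩ h
      have h' : perm 315 e.2.1 * (v : Equiv.Perm (Fin 315)) = perm 315 e'.2.1 * v' := Subtype.ext_iff.mp h
      have hb' := congrArg (fun g : Equiv.Perm (Fin 315) => (g ⟨b, hb⟩ : ℕ)) h'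
      simp only [Equiv.Perm.mul_apply, hHfix _ v.2, hHfix _ v'.2,
        perm_apply (tree_entry (L := ⟨b, own, tr⟩) ht he).1, perm_apply (tree_entry (L := ⟨b, own, tr⟩) ht he').1,
        (tree_entry (L := ⟨b, own, tr⟩) ht he).2, (tree_entry (L := ⟨b, own, tr⟩) ht he').2] at hb'
      have : e = e' := List.inj_on_of_nodup_map hnd he he' hb'
      subst this
      simp only [mul_right_inj] at h'
      simp [Subtype.ext_iff, h']
    · rintro ⟨g, hg⟩
      have hg' : g ∈ tset ((b, tr) :: r) := by rw [hset]; exact hg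
      obtain ⟨e, he, v, hv', rfl⟩ := hg'
      rw [hHset] at hv'
      exact ⟨⟨⟨e, he⟩, ⟨v, hv'⟩⟩, rfl⟩
  rw [← Nat.card_eq_of_bijective f hf, Nat.card_prod]
  congr 1
  rw [Nat.card_eq_fintype_card, Fintype.card_of_subtype tr.toFinset (by simp),
    List.toFinset_card_of_nodup (List.Nodup.of_map _ hnd)]

theorem levels_misc : (tr0.map (·.1)).Nodup ∧ (tr1.map (·.1)).Nodup ∧ (tr2.map (·.1)).Nodup ∧
    tr0.length = 315 ∧ tr1.length = 160 ∧ tr2.length = 12 ∧
    (∀ s ∈ own1 ++ own2, ap s.1 lev0.b = lev0.b) ∧ (∀ s ∈ own2, ap s.1 lev1.b = lev1.b) := by decide +kernel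

theorem lev_misc : lev0.b = 0 ∧ lev1.b < 315 ∧ lev2.b < 315 ∧ deriv1 ≠ [] ∧
    (∀ s ∈ own1, valid 315 s = true) ∧ (∀ s ∈ own2, valid 315 s = true) := by decide +kernel

theorem card_lineGroup (hF : FrameFaithful) : Nat.card lineGroup = 604800 := by
  obtain ⟨h1, h2, h3, h4, h5⟩ := deriv_lists
  obtain ⟨n0, n1, n2, l0, l1, l2, f0, f1⟩ := levels_misc
  obtain ⟨b0, b1, b2, -, v1, v2⟩ := lev_misc
  have hown : ∀ s ∈ gens0, valid 315 s = true ∧ perm 315 s ∈ lineGroup := fun s hs => ⟨valid_all s hs, gens_mem s hs⟩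
  have htv := tr_valid
  set K1 := Subgroup.closure {g | ∃ s ∈ own1, perm 315 s = g} with hK1
  set K2 := Subgroup.closure {g | ∃ s ∈ own2, perm 315 s = g} with hK2
  have hfix : ∀ (own : List PP) (b : ℕ) (hb : b < 315), (∀ s ∈ own, valid 315 s = true) →
      (∀ s ∈ own, ap s.1 b = b) → ∀ v ∈ Subgroup.closure {g | ∃ s ∈ own, perm 315 s = g}, v ⟨b, hb⟩ = ⟨b, hb⟩ := by
    intro own b hb hv hf v hv'
    have : Subgroup.closure {g | ∃ s ∈ own, perm 315 s = g} ≤
        stabilizer (Equiv.Perm (Fin 315)) (⟨b, hb⟩ : Fin 315) := by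
      refine (Subgroup.closure_le _).2 ?_
      rintro g ⟨s, hs, rfl⟩
      simp only [SetLike.mem_coe, mem_stabilizer_iff, Equiv.Perm.smul_def]
      exact Fin.ext (by rw [perm_apply (hv s hs)]; exact hf s hs)
    exact mem_stabilizer_iff.1 (this hv')
  have hle21 : K2 ≤ K1 := by
    refine (Subgroup.closure_le _).2 ?_
    rintro g ⟨s, hs, rfl⟩
    exact (h2 ▸ deriv_mem v1 tree1_ok deriv_ok.2 K1 (fun s hs => Subgroup.subset_closure ⟨s, hs, rfl⟩)) s hs
  have hle10 : K1 ≤ lineGroup := (Subgroup.closure_le _).2 (by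
    rintro g ⟨s, hs, rfl⟩; exact gens_mem s (by simp [h3, hs]))
  obtain ⟨s2, c2⟩ := level_spec (r := []) (b := lev2.b) b2 n2 tree2_ok (by omega)
    (fun s hs => hown s (by simp [h3, hs])) hF (by simp)
    (fun s hs => by
      simp only [own2, List.mem_cons, List.not_mem_nil, or_false] at hs
      rcases hs with rfl | rfl
      exacts [rows_c.2.2.1, rows_c.2.2.2])
    ⊥ (by simp [tset]) bot_le (fun v hv => by rw [Subgroup.mem_bot.1 hv]; rfl)
  obtain ⟨s1, c1⟩ := level_spec (r := below1) (b := lev1.b) b1 n1 tree1_ok (by omega)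
    (fun s hs => hown s (by simp [h3, hs])) hF (fun p hp => htv p (List.mem_cons_of_mem _ (List.mem_cons_of_mem _ hp)))
    (fun s hs => by
      simp only [own1, List.mem_cons, List.not_mem_nil, or_false] at hs
      rcases hs with rfl | rfl
      exacts [rows_c.1, rows_c.2.1])
    K2 s2 hle21 (hfix own2 lev1.b b1 v2 f1)
  obtain ⟨s0, c0⟩ := level_spec (r := below0) (b := lev0.b) (b0 ▸ by norm_num) n0 tree0_ok (by omega)
    (fun s hs => hown s (by simp [h3, hs])) hF (fun p hp => htv p (List.mem_cons_of_mem _ hp))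
    (fun s hs => by
      simp only [own0, List.mem_cons, List.not_mem_nil, or_false] at hs
      rcases hs with rfl | rfl | rfl | rfl
      exacts [rows_a.1, rows_a.2, rows_b.1, rows_b.2])
    K1 s1 (h4 ▸ hle10) (hfix own1 lev0.b (b0 ▸ by norm_num) v1 (fun s hs => f0 s (List.mem_append_left _ hs)))
  rw [h4] at c0
  show Nat.card ↥(Subgroup.closure {g | ∃ s ∈ genPP, perm 315 s = g}) = 604800
  rw [c0, c1, c2, l0, l1, l2, Subgroup.card_bot]

theorem lineGroup_move (x : Fin 315) : ∃ g ∈ lineGroup, g 0 = x := by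
  have hp : ∀ y : Fin 315, ∃ e ∈ tr0, (y : ℕ) = e.1 := by decide +kernel
  obtain ⟨e, he, hex⟩ := hp x
  obtain ⟨hv, hm⟩ := tr_valid _ (List.mem_cons_self ..) e he
  have := (tree_entry (L := ⟨lev0.b, own0, tr0⟩) tree0_ok he).2
  refine ⟨_, hm, Fin.ext ?_⟩
  rw [perm_apply hv, hex]
  exact this

/-- check of an orbit list: (point, generator index, parent index) -/
def reachOK (gens : List PP) (root : ℕ) (t : List (ℕ × ℕ × ℕ)) : Bool :=
  (List.range t.length).all fun i => match t[i]? with
    | none => false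
    | some e => if i = 0 then e.1 == root else
      match t[e.2.2]?, gens[e.2.1]? with
      | some p, some g => decide (e.2.2 < i) && valid 315 g && (ap g.1 p.1 == e.1)
      | _, _ => false

theorem reach_sound {gens : List PP} {root : ℕ} {t : List (ℕ × ℕ × ℕ)} (h : reachOK gens root t = true)
    (hr : root < 315) (B : Set (Fin 315)) (hB : (⟨root, hr⟩ : Fin 315) ∈ B)
    (hinv : ∀ g ∈ gens, ∀ y ∈ B, perm 315 g y ∈ B) {x : Fin 315} (hx : (x : ℕ) ∈ t.map (·.1)) : x ∈ B := by
  suffices H : ∀ i : ℕ, ∀ e : ℕ × ℕ × ℕ, t[i]? = some e → ∀ y : Fin 315, (y : ℕ) = e.1 → y ∈ B by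
    obtain ⟨e, he, hex⟩ := List.mem_map.1 hx
    obtain ⟨i, hi⟩ := List.getElem?_of_mem he
    exact H i e hi x hex.symm
  intro i
  induction i using Nat.strong_induction_on with
  | _ i ih =>
    intro e he y hy
    have hlt : i < t.length := (List.getElem?_eq_some_iff.1 he).1
    have h0 := List.all_eq_true.1 h i (List.mem_range.2 hlt)
    rw [he] at h0
    by_cases hz : i = 0
    · simp only [hz, if_true, beq_iff_eq] at h0
      have : y = ⟨root, hr⟩ := Fin.ext (hy.trans h0)
      exact this ▸ hB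
    · simp only [hz, if_false] at h0
      split at h0
      · next p g hp hg =>
        simp only [Bool.and_eq_true, decide_eq_true_eq, beq_iff_eq] at h0
        obtain ⟨⟨hlt', hv⟩, hap⟩ := h0
        by_cases hp' : p.1 < 315
        · have := hinv g (List.mem_of_getElem? hg) _ (ih _ hlt' p hp ⟨p.1, hp'⟩ rfl)
          have e' : perm 315 g ⟨p.1, hp'⟩ = y := Fin.ext (by rw [perm_apply hv, hy]; exact hap)
          exact e' ▸ this
        · exfalso
          have hall : ∀ j : ℕ, ∀ e' : ℕ × ℕ × ℕ, t[j]? = some e' → e'.1 < 315 := by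
            intro j
            induction j using Nat.strong_induction_on with
            | _ j ihj =>
              intro e' he'
              have hj : j < t.length := (List.getElem?_eq_some_iff.1 he').1
              have hj0 := List.all_eq_true.1 h j (List.mem_range.2 hj)
              rw [he'] at hj0
              by_cases hzj : j = 0
              · simp only [hzj, if_true, beq_iff_eq] at hj0
                omega
              · simp only [hzj, if_false] at hj0
                split at hj0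
                · next p' g' hp'' hg' =>
                  simp only [Bool.and_eq_true, decide_eq_true_eq, beq_iff_eq] at hj0
                  rw [← hj0.2]
                  exact valid_lt hj0.1.2 (ihj _ hj0.1.1 p' hp'')
                · cases hj0
          exact hp' (hall _ p hp)
      · cases h0

/-- the transversal element of a point -/
def transOf (j : ℕ) : PP := (tr0.getD j (0, ((0 : ℕ), (0 : ℕ)), 0, 0)).2.1

theorem subs_ok : (∀ y : Fin 315, y = 0 ∨ ∃ s ∈ subs, (y : ℕ) ∈ s.2.1.map (·.1)) ∧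
    ∀ s ∈ subs, s.1 < tr0.length ∧ reachOK own1 (tr0.getD s.1 (0, ((0 : ℕ), (0 : ℕ)), 0, 0)).1 s.2.1 = true ∧
      reachOK (own1 ++ [transOf s.1]) 0 s.2.2 = true ∧ ∀ y : Fin 315, (y : ℕ) ∈ s.2.2.map (·.1) := by
  decide +kernel

theorem own1_fix : ∀ s ∈ own1, valid 315 s = true ∧ ap s.1 0 = 0 := by decide +kernel

theorem lineGroup_preprimitive : IsPreprimitive lineGroup (Fin 315) := by
  have htrans : IsPretransitive lineGroup (Fin 315) := by
    rw [isPretransitive_iff_base (0 : Fin 315)]
    intro x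
    obtain ⟨g, hg, hgx⟩ := lineGroup_move x
    exact ⟨⟨g, hg⟩, hgx⟩
  refine IsPreprimitive.of_isTrivialBlock_base 0 fun {B} hB hb => ?_
  by_cases hne : ∃ y ∈ B, y ≠ (0 : Fin 315)
  swap
  · push Not at hne
    exact Or.inl fun a ha b hb' => (hne a ha).trans (hne b hb').symm
  right
  obtain ⟨y, hy, hy0⟩ := hne
  obtain ⟨s, hs, hys⟩ := (subs_ok.1 y).resolve_left hy0
  obtain ⟨hj, h1, h2, h3⟩ := subs_ok.2 s hs
  set e := tr0.getD s.1 (0, ((0 : ℕ), (0 : ℕ)), 0, 0) with hedef
  have he : e ∈ tr0 := by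
    rw [hedef, List.getD_eq_getElem?_getD, List.getElem?_eq_getElem hj]
    exact List.getElem_mem hj
  obtain ⟨hev, hea⟩ := tree_entry (L := ⟨lev0.b, own0, tr0⟩) tree0_ok he
  have hx : e.1 < 315 := hea ▸ valid_lt hev (by decide +kernel)
  -- stabiliser generators preserve the block
  have hst : ∀ g ∈ own1, ∀ z ∈ B, perm 315 g z ∈ B := by
    intro g hg z hz
    obtain ⟨hv, h0⟩ := own1_fix g hg
    have hmem : perm 315 g ∈ lineGroup := by
      exact gens_mem g (by simp [deriv_lists.2.2.1, hg])
    have hg0 : (⟨_, hmem⟩ : lineGroup) • (0 : Fin 315) = 0 := Fin.ext (by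
      show (perm 315 g 0 : ℕ) = 0
      rw [perm_apply hv]; exact h0)
    have := hb.smul_eq_of_mem hB (g := ⟨_, hmem⟩) (hg0.symm ▸ hB)
    exact this ▸ Set.smul_mem_smul_set (a := (⟨_, hmem⟩ : lineGroup)) hz
  -- the root of the suborbit lies in the block
  have hxB : (⟨e.1, hx⟩ : Fin 315) ∈ B := by
    by_contra hcon
    exact reach_sound h1 hx {z | z ∉ B} hcon (fun g hg z hz hgz => hz (by
      obtain ⟨hv, -⟩ := own1_fix g hg
      have hfin : (perm 315 g) '' B = B := by
        refine Set.eq_of_subset_of_ncard_le ?_ ?_ (Set.toFinite _)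
        · rintro _ ⟨w, hw, rfl⟩; exact hst g hg w hw
        · rw [Set.ncard_image_of_injective _ (perm 315 g).injective]
      rw [← hfin] at hgz
      obtain ⟨w, hw, hwe⟩ := hgz
      exact (perm 315 g).injective hwe ▸ hw)) hys hy
  have ht : ∀ g ∈ own1 ++ [transOf s.1], ∀ z ∈ B, perm 315 g z ∈ B := by
    intro g hg z hz
    rcases List.mem_append.1 hg with hg | hg
    · exact hst g hg z hz
    · obtain rfl := List.mem_singleton.1 hg
      have hmem : perm 315 (transOf s.1) ∈ lineGroup := by
        exact (tr_valid _ (List.mem_cons_self ..) e he).2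
      have hg0 : (⟨_, hmem⟩ : lineGroup) • (0 : Fin 315) = ⟨e.1, hx⟩ := Fin.ext (by
        show (perm 315 (transOf s.1) 0 : ℕ) = e.1
        rw [show transOf s.1 = e.2.1 from rfl, perm_apply hev]; exact hea)
      have := hb.smul_eq_of_mem hB (g := ⟨_, hmem⟩) (hg0.symm ▸ hxB)
      exact this ▸ Set.smul_mem_smul_set (a := (⟨_, hmem⟩ : lineGroup)) hz
  exact Set.eq_univ_of_forall fun z => reach_sound h2 (by norm_num) B hB ht (h3 z)

/-- the word in the generators -/
def wordOf (w : List ℕ) : List PP := w.map fun i => genPP.getD i (genPP.getD 0 (0, 0))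

/-- the frame sees the identity -/
def frameId (w : List PP) : Bool := frame.all fun x => evalWord w x == x

theorem genPP_getD : ∀ i, i < 4 → genPP.getD i (genPP.getD 0 (0, 0)) ∈ genPP := by decide +kernel

theorem sevens_ok : sevens.length = genPP.length ∧ ∀ p ∈ genPP.zip sevens,
    (∀ i ∈ p.2, i < 4) ∧ frameId (List.replicate 7 (wordOf p.2)).flatten = true ∧
      frameId (List.replicate 7 ((wordOf p.2).reverse.map pinv ++ [p.1])).flatten = true := by
  decide +kernel

theorem genPP_valid {s : PP} (hs : s ∈ genPP) : valid 315 s = true :=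
  valid_all _ (by
    rw [deriv_lists.2.2.1, deriv_lists.2.2.2.1]
    exact List.mem_append_left _ (List.mem_append_left _ hs))

theorem wperm_append (a b : List PP) : wperm 315 (a ++ b) = wperm 315 a * wperm 315 b := by
  simp [wperm]

theorem wperm_flatten (n : ℕ) (a : List PP) : wperm 315 (List.replicate n a).flatten = wperm 315 a ^ n := by
  induction n with
  | zero => simp [wperm]
  | succ n ih => rw [List.replicate_succ, List.flatten_cons, wperm_append, ih, pow_succ']

theorem wperm_inv : ∀ a : List PP, (∀ g ∈ a, valid 315 g = true) →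
    wperm 315 (a.reverse.map pinv) = (wperm 315 a)⁻¹
  | [], _ => by simp [wperm]
  | g :: a, h => by
    rw [List.reverse_cons, List.map_append, wperm_append, wperm_inv a (fun c hc => h c (by simp [hc])), wperm_cons,
      mul_inv_rev, List.map_cons, List.map_nil, wperm_cons, wperm_nil, mul_one, perm_pinv (h g (by simp))]

theorem wperm_mem : ∀ a : List PP, (∀ g ∈ a, perm 315 g ∈ lineGroup) → wperm 315 a ∈ lineGroup
  | [], _ => by simp [wperm]
  | g :: a, h => by
    rw [wperm_cons]; exact mul_mem (h g (by simp)) (wperm_mem a fun c hc => h c (by simp [hc]))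

theorem lineGroup_simple (hF : FrameFaithful) : IsSimpleGroup lineGroup := by
  have := lineGroup_preprimitive
  have : Nontrivial lineGroup := Finite.one_lt_card_iff_nontrivial.1 (by rw [card_lineGroup hF]; norm_num)
  refine Simplicity.isSimpleGroup_of_prime_degree_divisor (α := Fin 315) (p := 7) (by norm_num)
    (by rw [Nat.card_fin]; norm_num) (by rw [card_lineGroup hF]; norm_num) ?_
  set C := Subgroup.closure {g : lineGroup | g ^ 7 = 1}
  have key : ∀ g : Equiv.Perm (Fin 315), g ∈ lineGroup → g ∈ C.map lineGroup.subtype := by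
    intro g hg
    refine (Subgroup.closure_le _).2 ?_ hg
    rintro _ ⟨s, hs, rfl⟩
    obtain ⟨hlen, hall⟩ := sevens_ok
    obtain ⟨i, hi, rfl⟩ := List.getElem_of_mem hs
    have hi' : i < sevens.length := hlen ▸ hi
    have hz : (genPP[i], sevens[i]) ∈ genPP.zip sevens :=
      List.mem_iff_getElem.2 ⟨i, by simp [hi, hi'], List.getElem_zip⟩
    obtain ⟨hw, o1, o2⟩ := hall _ hz
    set a := wordOf sevens[i] with ha
    have amem : ∀ g ∈ a, g ∈ genPP := by
      intro g hg
      obtain ⟨j, hj, rfl⟩ := List.mem_map.1 hg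
      exact genPP_getD j (hw j hj)
    have pw : ∀ b : List PP, (∀ g ∈ b, valid 315 g = true) → wperm 315 b ∈ lineGroup →
        frameId (List.replicate 7 b).flatten = true → wperm 315 b ∈ C.map lineGroup.subtype := by
      intro b hv hm ho
      have h7 : wperm 315 b ^ 7 = 1 := hF _ (pow_mem hm 7) fun x hx => Fin.ext (by
        rw [← wperm_flatten, wperm_apply (by
          intro g hg
          obtain ⟨l, hl, hgl⟩ := List.mem_flatten.1 hg
          exact hv g ((List.mem_replicate.1 hl).2 ▸ hgl))]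
        simp only [frameId, List.all_eq_true, beq_iff_eq] at ho
        exact ho _ hx)
      exact ⟨⟨_, hm⟩, Subgroup.subset_closure (Subtype.ext (by simpa using h7)), rfl⟩
    have va : ∀ g ∈ a, valid 315 g = true := fun g hg => genPP_valid (amem g hg)
    have ma : wperm 315 a ∈ lineGroup := wperm_mem a fun g hg => Subgroup.subset_closure ⟨g, amem g hg, rfl⟩
    have vb : ∀ g ∈ a.reverse.map pinv ++ [genPP[i]], valid 315 g = true := by
      intro g hg
      rcases List.mem_append.1 hg with hg | hg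
      · obtain ⟨c, hc, rfl⟩ := List.mem_map.1 hg
        exact valid_pinv (va c (List.mem_reverse.1 hc))
      · exact List.mem_singleton.1 hg ▸ genPP_valid (List.getElem_mem hi)
    have eb : wperm 315 (a.reverse.map pinv ++ [genPP[i]]) = (wperm 315 a)⁻¹ * perm 315 genPP[i] := by
      rw [wperm_append, wperm_inv a va, wperm_cons, wperm_nil, mul_one]
    have h1 := pw a va ma o1
    have h2 := pw _ vb (eb ▸ mul_mem (inv_mem ma) (Subgroup.subset_closure ⟨_, List.getElem_mem hi, rfl⟩)) o2
    show perm 315 genPP[i] ∈ C.map lineGroup.subtype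
    have := mul_mem h1 h2
    rwa [eb, mul_inv_cancel_left] at this
  rw [eq_top_iff]
  intro g _
  obtain ⟨c, hc, e⟩ := key g g.2
  exact (Subtype.ext e : c = g) ▸ hc

theorem lineGroup_noncomm : ∃ a b : lineGroup, a * b ≠ b * a := by
  have h : isId 315 [pinv (genPP.getD 0 (0, 0)), pinv (genPP.getD 1 (0, 0)), genPP.getD 0 (0, 0),
      genPP.getD 1 (0, 0)] = false := by decide +kernel
  have hlen : ∀ i, i < 2 → genPP.getD i (0, 0) ∈ genPP := by decide +kernel
  refine ⟨⟨_, Subgroup.subset_closure ⟨_, hlen 0 (by norm_num), rfl⟩⟩,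
    ⟨_, Subgroup.subset_closure ⟨_, hlen 1 (by norm_num), rfl⟩⟩, fun hc => ?_⟩
  have hc' := congrArg (Subgroup.subtype lineGroup) hc
  simp only [map_mul, Subgroup.coe_subtype] at hc'
  have hv : ∀ i, i < 2 → valid 315 (genPP.getD i (0, 0)) = true := fun i hi =>
    valid_all _ (by rw [deriv_lists.2.2.1, deriv_lists.2.2.2.1]; exact List.mem_append_left _ (List.mem_append_left _ (hlen i hi)))
  have hall : isId 315 [pinv (genPP.getD 0 (0, 0)), pinv (genPP.getD 1 (0, 0)), genPP.getD 0 (0, 0),
      genPP.getD 1 (0, 0)] = true := by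
    rw [isId, List.all_eq_true]
    intro x hx
    have hx' := List.mem_range.1 hx
    have hw := wperm_apply (n := 315) (w := [pinv (genPP.getD 0 (0, 0)), pinv (genPP.getD 1 (0, 0)),
      genPP.getD 0 (0, 0), genPP.getD 1 (0, 0)]) (by
      intro g hg
      simp only [List.mem_cons, List.not_mem_nil, or_false] at hg
      rcases hg with rfl | rfl | rfl | rfl
      exacts [valid_pinv (hv 0 (by norm_num)), valid_pinv (hv 1 (by norm_num)), hv 0 (by norm_num),
        hv 1 (by norm_num)]) ⟨x, hx'⟩
    simp only [wperm_cons, wperm_nil, mul_one, perm_pinv (hv 0 (by norm_num)), perm_pinv (hv 1 (by norm_num))] at hw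
    rw [hc', inv_mul_cancel_left, inv_mul_cancel] at hw
    rw [beq_iff_eq, ← hw]
    rfl
  rw [h] at hall
  exact Bool.noConfusion hall

end Cfsg.Lib.J2
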