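import Cfsg.Agent.Spor.J2.MinVec
import Cfsg.Agent.Spor.J2.LineGroup

/-!
The reflection group of the icosian Leech lattice and its action on the 315 lines.
-/

set_option autoImplicit false
set_option linter.style.haveILetI false
set_option maxRecDepth 100000
set_option maxHeartbeats 2000000
set_option Elab.async false

noncomputable section

namespace Cfsg.Lib.J2

open Quaternion Cfsg.Spor Cfsg.Lib.PermCert

/-- the chosen vector on a line -/
def LV (i : Fin 315) : Vec := vv (line i)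

theorem LV_mem (i : Fin 315) : LV i ∈ icoLeech ∧ qip (LV i) (LV i) = 4 := by
  obtain ⟨h1, h2⟩ := lines_ok i (List.mem_range.2 i.2)
  exact ⟨(inL_iff _).1 h1, (norm4_iff _).2 h2⟩

/-- the chosen vector as a lattice element -/
def LL (i : Fin 315) : icoLeech := ⟨LV i, (LV_mem i).1⟩

/-- a unit-invariant of a vector -/
def gram (v : V3) : List IQ :=
  [IQ.mul (IQ.conj v.x) v.x, IQ.mul (IQ.conj v.x) v.y, IQ.mul (IQ.conj v.x) v.z,
    IQ.mul (IQ.conj v.y) v.y, IQ.mul (IQ.conj v.y) v.z, IQ.mul (IQ.conj v.z) v.z]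

/-- a hash of the invariant -/
def gramHash (v : V3) : ℤ :=
  ((gram v).flatMap fun d => [d.w0, d.w1, d.x0, d.x1, d.y0, d.y1, d.z0, d.z1]).foldl (fun h c => h * 67 + c) 0

theorem gramHash_nodup : ((List.range 315).map fun i => gramHash (line i)).Nodup := by decide +kernel

theorem normSq_of_scale {q : ℍ[ℝ]} {v w : Vec} (hv : qip v v = 4) (hw : qip w w = 4) (h : w = q • v) :
    star q * q = 1 := by
  subst h
  rw [qip_smul_left, qip_smul_right, hv, ← mul_assoc, mul_four, smul_mul_assoc, self_mul_star] at hw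
  have e : (4 : ℍ[ℝ]) = ((4 : ℝ) : ℍ[ℝ]) := rfl
  rw [e, ← coe_mul_eq_smul, ← coe_mul] at hw
  have h2 : normSq q = 1 := by linarith [coe_injective hw]
  rw [star_mul_self, h2, coe_one]

theorem line_inj {i j : Fin 315} {q : ℍ[ℝ]} (h : LV j = q • LV i) : i = j := by
  have hq := normSq_of_scale (LV_mem i).2 (LV_mem j).2 h
  have hi := line_allMem i.2
  have hj := line_allMem j.2
  simp only [V3.allMem, Bool.and_eq_true] at hi hj
  have key : ∀ a b c d : IQ, IQ.mem a = true → IQ.mem b = true → IQ.mem c = true → IQ.mem d = true →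
      val c = q * val a → val d = q * val b → IQ.mul (IQ.conj a) b = IQ.mul (IQ.conj c) d := by
    intro a b c d ha hb hc hd e1 e2
    apply val_inj
    rw [(mem_mul (mem_conj ha) hb).2, (mem_mul (mem_conj hc) hd).2, val_conj, val_conj, e1, e2, star_mul,
      mul_assoc, ← mul_assoc (star q), hq, one_mul]
  have h0 : val (line j).x = q * val (line i).x := by simpa [LV] using congrFun h 0
  have h1 : val (line j).y = q * val (line i).y := by simpa [LV] using congrFun h 1
  have h2 : val (line j).z = q * val (line i).z := by simpa [LV] using congrFun h 2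
  have hg : gramHash (line i) = gramHash (line j) := by
    unfold gramHash gram
    rw [key _ _ _ _ hi.1.1 hi.1.1 hj.1.1 hj.1.1 h0 h0, key _ _ _ _ hi.1.1 hi.1.2 hj.1.1 hj.1.2 h0 h1,
      key _ _ _ _ hi.1.1 hi.2 hj.1.1 hj.2 h0 h2, key _ _ _ _ hi.1.2 hi.1.2 hj.1.2 hj.1.2 h1 h1,
      key _ _ _ _ hi.1.2 hi.2 hj.1.2 hj.2 h1 h2, key _ _ _ _ hi.2 hi.2 hj.2 hj.2 h2 h2]
  exact Fin.ext (List.inj_on_of_nodup_map gramHash_nodup (List.mem_range.2 i.2) (List.mem_range.2 j.2) hg)

theorem min_eq {v : Vec} (hv : v ∈ icoLeech) (hn : qip v v = 4) :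
    ∃ u ∈ units, ∃ i : Fin 315, v = val u • LV i := by
  obtain ⟨c, hc, rfl⟩ := exists_coords hv
  obtain ⟨i, hi, u, hu, rfl⟩ := good_of_min ⟨hc, (norm4_iff _).1 hn⟩
  exact ⟨u, hu, ⟨i, hi⟩, (vv_lmul (mem_of_units hu) (line_allMem hi)).2⟩

/-- the lattice automorphisms induced by linear isometries -/
def isoSub : Subgroup (Equiv.Perm icoLeech) where
  carrier := {g | ∃ φ : Vec ≃ₗ[ℍ[ℝ]] Vec, (∀ x y, qip (φ x) (φ y) = qip x y) ∧
    ∀ x : icoLeech, ((g x : icoLeech) : Vec) = φ x}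
  one_mem' := ⟨LinearEquiv.refl _ _, fun _ _ => rfl, fun _ => rfl⟩
  mul_mem' := by
    rintro g h ⟨a, ha, hg⟩ ⟨b, hb, hh⟩
    refine ⟨b.trans a, fun x y => ?_, fun x => ?_⟩
    · simp [ha, hb]
    · simp [hg, hh]
  inv_mem' := by
    rintro g ⟨a, ha, hg⟩
    refine ⟨a.symm, fun x y => ?_, fun x => ?_⟩
    · conv_rhs => rw [← a.apply_symm_apply x, ← a.apply_symm_apply y]
      rw [ha]
    · apply a.injective
      rw [a.apply_symm_apply, ← hg]
      simp

theorem isIcoReflection_mem {f : Equiv.Perm icoLeech} (hf : IsIcoReflection f) : f ∈ isoSub := by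
  obtain ⟨r, hr, hf⟩ := hf
  exact ⟨LinearEquiv.ofInvolutive (phi r) (phi_self hr), fun x y => qip_phi hr x y, fun x => hf x⟩

theorem exists_line (g : isoSub) (i : Fin 315) :
    ∃ j : Fin 315, ∃ q : ℍ[ℝ], (((g : Equiv.Perm icoLeech) (LL i) : icoLeech) : Vec) = q • LV j := by
  obtain ⟨φ, hφ, hg⟩ := g.2
  obtain ⟨u, -, j, hj⟩ := min_eq ((g : Equiv.Perm icoLeech) (LL i)).2 (by
    rw [hg, hφ]; exact (LV_mem i).2)
  exact ⟨j, _, hj⟩

/-- the image of a line -/
def lineMap (g : isoSub) (i : Fin 315) : Fin 315 := (exists_line g i).choose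

theorem scalar_unique {v : Vec} {i j : Fin 315} {p q : ℍ[ℝ]} (hv : qip v v = 4) (h1 : v = p • LV i)
    (h2 : v = q • LV j) : i = j := by
  refine line_inj (q := star q * p) ?_
  rw [mul_smul, ← h1, h2, ← mul_smul, normSq_of_scale (LV_mem j).2 hv h2, one_smul]

theorem lineMap_eq (g : isoSub) {i j : Fin 315} {q : ℍ[ℝ]}
    (h : (((g : Equiv.Perm icoLeech) (LL i) : icoLeech) : Vec) = q • LV j) : lineMap g i = j := by
  obtain ⟨p, hp⟩ := (exists_line g i).choose_spec
  obtain ⟨φ, hφ, hg⟩ := g.2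
  exact scalar_unique (by rw [hg, hφ]; exact (LV_mem i).2) hp h

theorem lineMap_mul (g h : isoSub) (i : Fin 315) : lineMap (g * h) i = lineMap g (lineMap h i) := by
  obtain ⟨p, hp⟩ := (exists_line h i).choose_spec
  obtain ⟨q, hq⟩ := (exists_line g (lineMap h i)).choose_spec
  obtain ⟨φ, hφ, hg⟩ := g.2
  refine lineMap_eq (g * h) (q := p * q) ?_
  change (((g : Equiv.Perm icoLeech) ((h : Equiv.Perm icoLeech) (LL i)) : icoLeech) : Vec) = _
  rw [hg, hp, LinearEquiv.map_smul, mul_smul]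
  congr 1
  change φ (LV (lineMap h i)) = q • LV (lineMap g (lineMap h i))
  exact (hg (LL (lineMap h i))).symm.trans hq

theorem lineMap_one (i : Fin 315) : lineMap 1 i = i := lineMap_eq 1 (q := 1) (one_smul _ _).symm

/-- the action on the lines -/
def rho : isoSub →* Equiv.Perm (Fin 315) where
  toFun g :=
    { toFun := lineMap g
      invFun := lineMap g⁻¹
      left_inv := fun i => by rw [← lineMap_mul, inv_mul_cancel, lineMap_one]
      right_inv := fun i => by rw [← lineMap_mul, mul_inv_cancel, lineMap_one] }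
  map_one' := Equiv.ext lineMap_one
  map_mul' g h := Equiv.ext fun i => lineMap_mul g h i

theorem genIdx_ok : genIdx.length = 4 ∧ genPP.length = 4 ∧
    ∀ c : Fin 4, genIdx.getD c 0 < 315 ∧
      ∀ w ∈ [lat1, lat2, lat3], reflOK (line (genIdx.getD c 0)) w = true ∧
        V3.inL (reflI (line (genIdx.getD c 0)) w) = true := by decide +kernel

/-- the generating line -/
def gi (c : Fin 4) : Fin 315 := ⟨genIdx.getD c 0, (genIdx_ok.2.2 c).1⟩

theorem phi_gi_stable (c : Fin 4) {v : Vec} (hv : v ∈ icoLeech) : phi (LV (gi c)) v ∈ icoLeech :=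
  phi_stable (genIdx_ok.2.2 c).2 hv

/-- the generating reflections -/
def sC (c : Fin 4) : Equiv.Perm icoLeech :=
  Function.Involutive.toPerm (fun x => ⟨phi (LV (gi c)) x, phi_gi_stable c x.2⟩)
    fun x => Subtype.ext (phi_self (LV_mem _).2 _)

theorem sC_refl (c : Fin 4) : IsIcoReflection (sC c) := ⟨LL (gi c), (LV_mem _).2, fun _ => rfl⟩

/-- the generator on the lines -/
def genP (c : Fin 4) : PP := genPP.getD c (0, 0)

/-- the image of a line under a generator, as data -/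
def genImg (c : Fin 4) (i : ℕ) : IQ × ℕ :=
  (units.getD ((genUnits.getD c []).getD i 0) IQ.zero, ap (genP c).1 i)

theorem gen_action0 : ∀ i ∈ List.range 315,
    reflOK (line (genIdx.getD 0 0)) (line i) = true ∧ (genImg 0 i).1 ∈ units ∧
      reflI (line (genIdx.getD 0 0)) (line i) = V3.lmul (genImg 0 i).1 (line (genImg 0 i).2) := by
  decide +kernel

theorem gen_action1 : ∀ i ∈ List.range 315,
    reflOK (line (genIdx.getD 1 0)) (line i) = true ∧ (genImg 1 i).1 ∈ units ∧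
      reflI (line (genIdx.getD 1 0)) (line i) = V3.lmul (genImg 1 i).1 (line (genImg 1 i).2) := by
  decide +kernel

theorem gen_action2 : ∀ i ∈ List.range 315,
    reflOK (line (genIdx.getD 2 0)) (line i) = true ∧ (genImg 2 i).1 ∈ units ∧
      reflI (line (genIdx.getD 2 0)) (line i) = V3.lmul (genImg 2 i).1 (line (genImg 2 i).2) := by
  decide +kernel

theorem gen_action3 : ∀ i ∈ List.range 315,
    reflOK (line (genIdx.getD 3 0)) (line i) = true ∧ (genImg 3 i).1 ∈ units ∧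
      reflI (line (genIdx.getD 3 0)) (line i) = V3.lmul (genImg 3 i).1 (line (genImg 3 i).2) := by
  decide +kernel

theorem gen_valid : ∀ c : Fin 4, valid 315 (genP c) = true := by decide +kernel

theorem gen_action (c : Fin 4) : valid 315 (genP c) = true ∧ ∀ i ∈ List.range 315,
    reflOK (line (genIdx.getD c 0)) (line i) = true ∧ (genImg c i).1 ∈ units ∧
      reflI (line (genIdx.getD c 0)) (line i) = V3.lmul (genImg c i).1 (line (genImg c i).2) := by
  refine ⟨gen_valid c, ?_⟩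
  fin_cases c
  exacts [gen_action0, gen_action1, gen_action2, gen_action3]

theorem rho_sC (c : Fin 4) : rho ⟨sC c, isIcoReflection_mem (sC_refl c)⟩ = perm 315 (genP c) := by
  obtain ⟨hv, hall⟩ := gen_action c
  refine Equiv.ext fun i => ?_
  obtain ⟨h1, h2, h3⟩ := hall i (List.mem_range.2 i.2)
  change lineMap _ i = _
  refine lineMap_eq _ (q := val (genImg c i).1) ?_
  show phi (LV (gi c)) (LV i) = _
  have e : LV (perm 315 (genP c) i) = vv (line (genImg c i).2) := by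
    simp [LV, genImg, perm_apply hv]
  rw [e, show phi (LV (gi c)) (LV i) = vv (reflI (line (genIdx.getD c 0)) (line i)) from (vv_reflI h1).symm,
    h3, (vv_lmul (mem_of_units h2) (line_allMem (i := (genImg c i).2) (valid_lt hv i.2))).2]

/-- the group generated by the four reflections -/
def fourGen : Subgroup isoSub :=
  Subgroup.closure (Set.range fun c : Fin 4 => (⟨sC c, isIcoReflection_mem (sC_refl c)⟩ : isoSub))

theorem map_fourGen : fourGen.map rho = lineGroup := by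
  rw [fourGen, MonoidHom.map_closure, lineGroup]
  congr 1
  ext g
  simp only [← Set.range_comp, Set.mem_range, Function.comp_apply, rho_sC, Set.mem_setOf_eq]
  constructor
  · rintro ⟨c, rfl⟩
    refine ⟨_, ?_, rfl⟩
    unfold genP
    rw [List.getD_eq_getElem?_getD, List.getElem?_eq_getElem (by rw [genIdx_ok.2.1]; exact c.2)]
    exact List.getElem_mem _
  · rintro ⟨s, hs, rfl⟩
    obtain ⟨i, hi, rfl⟩ := List.getElem_of_mem hs
    refine ⟨⟨i, genIdx_ok.2.1 ▸ hi⟩, ?_⟩
    simp [genP, List.getD_eq_getElem?_getD, List.getElem?_eq_getElem hi]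

/-- the three axes and four further frame vectors -/
theorem frame_vals :
    line 0 = ⟨IQ.smul 2 IQ.one, IQ.zero, IQ.zero⟩ ∧ line 1 = ⟨IQ.zero, IQ.smul 2 IQ.one, IQ.zero⟩ ∧
    line 2 = ⟨IQ.zero, IQ.zero, IQ.smul 2 IQ.one⟩ ∧
    line 3 = ⟨⟨-2, 0, -2, 0, 0, 0, 0, 0⟩, ⟨-2, 0, -2, 0, 0, 0, 0, 0⟩, IQ.zero⟩ ∧
    line 4 = ⟨⟨-2, 0, -2, 0, 0, 0, 0, 0⟩, ⟨-2, 0, 2, 0, 0, 0, 0, 0⟩, IQ.zero⟩ ∧
    line 5 = ⟨⟨-2, 0, -2, 0, 0, 0, 0, 0⟩, ⟨0, 0, 0, 0, -2, 0, -2, 0⟩, IQ.zero⟩ ∧
    line 7 = ⟨⟨-2, 0, -2, 0, 0, 0, 0, 0⟩, IQ.zero, ⟨-2, 0, -2, 0, 0, 0, 0, 0⟩⟩ := by decide +kernel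

theorem val_two : val (IQ.smul 2 IQ.one) = ((2 : ℝ) : ℍ[ℝ]) := by
  apply Quaternion.ext <;> simp [val, IQ.smul, IQ.one] <;> norm_num

theorem axis_vals : vv (line 0) = ![((2 : ℝ) : ℍ[ℝ]), 0, 0] ∧ vv (line 1) = ![0, ((2 : ℝ) : ℍ[ℝ]), 0] ∧
    vv (line 2) = ![0, 0, ((2 : ℝ) : ℍ[ℝ])] := by
  obtain ⟨f0, f1, f2, -⟩ := frame_vals
  simp [f0, f1, f2, vv, val_two, val_zero]

theorem frame_scalar {g : isoSub} (hfix : ∀ x : Fin 315, (x : ℕ) ∈ frame → rho g x = x) :
    (g : Equiv.Perm icoLeech) = 1 ∨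
      ∀ x : icoLeech, (((g : Equiv.Perm icoLeech) x : icoLeech) : Vec) = -(x : Vec) := by
  obtain ⟨φ, hφ, hg⟩ := g.2
  have hl : ∀ i : Fin 315, (i : ℕ) ∈ frame → ∃ q : ℍ[ℝ], φ (LV i) = q • LV i := by
    intro i hi
    obtain ⟨q, hq⟩ := (exists_line g i).choose_spec
    refine ⟨q, ?_⟩
    have e : lineMap g i = i := hfix i hi
    exact (hg (LL i)).symm.trans (hq.trans (by rw [show (exists_line g i).choose = i from e]))
  obtain ⟨a0, a1, a2⟩ := axis_vals
  obtain ⟨q0, h0⟩ := hl 0 (by decide)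
  obtain ⟨q1, h1⟩ := hl 1 (by decide)
  obtain ⟨q2, h2⟩ := hl 2 (by decide)
  simp only [LV] at h0 h1 h2
  rw [show ((0 : Fin 315) : ℕ) = 0 from rfl, a0] at h0
  rw [show ((1 : Fin 315) : ℕ) = 1 from rfl, a1] at h1
  rw [show ((2 : Fin 315) : ℕ) = 2 from rfl, a2] at h2
  have hx : ∀ x : Vec, φ x = ![x 0 * q0, x 1 * q1, x 2 * q2] := by
    intro x
    have hd : x = ((1 / 2 : ℝ) • x 0) • ![((2 : ℝ) : ℍ[ℝ]), 0, 0] + ((1 / 2 : ℝ) • x 1) • ![0, ((2 : ℝ) : ℍ[ℝ]), 0]
        + ((1 / 2 : ℝ) • x 2) • ![0, 0, ((2 : ℝ) : ℍ[ℝ])] := by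
      funext t; fin_cases t <;> simp [mul_coe_eq_smul, smul_smul]
    conv_lhs => rw [hd]
    rw [map_add, map_add, LinearEquiv.map_smul, LinearEquiv.map_smul, LinearEquiv.map_smul, h0, h1, h2]
    funext t
    fin_cases t <;> simp [mul_coe_eq_smul, smul_smul, mul_smul_comm, smul_mul_assoc]
  obtain ⟨-, -, -, f3, f4, f5, f7⟩ := frame_vals
  set a : ℍ[ℝ] := val ⟨-2, 0, -2, 0, 0, 0, 0, 0⟩ with ha
  have ha0 : a ≠ 0 := fun h => by
    have := congrArg QuaternionAlgebra.re h
    simp [a] at this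
  have comp : ∀ (i : Fin 315) (hi : (i : ℕ) ∈ frame), ∃ q, val (line i).x * q0 = q * val (line i).x ∧
      val (line i).y * q1 = q * val (line i).y ∧ val (line i).z * q2 = q * val (line i).z := by
    intro i hi
    obtain ⟨q, hq⟩ := hl i hi
    rw [hx] at hq
    refine ⟨q, ?_, ?_, ?_⟩
    · simpa [LV] using congrFun hq 0
    · simpa [LV] using congrFun hq 1
    · simpa [LV] using congrFun hq 2
  obtain ⟨q, e3, e3', -⟩ := comp 3 (by decide)
  rw [show ((3 : Fin 315) : ℕ) = 3 from rfl, f3] at e3 e3'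
  simp only [← ha] at e3 e3'
  have h10 : q1 = q0 := mul_left_cancel₀ ha0 (e3'.trans e3.symm)
  obtain ⟨p, e7, -, e7'⟩ := comp 7 (by decide)
  rw [show ((7 : Fin 315) : ℕ) = 7 from rfl, f7] at e7 e7'
  simp only [← ha] at e7 e7'
  have h20 : q2 = q0 := mul_left_cancel₀ ha0 (e7'.trans e7.symm)
  have hcomm : ∀ (i : Fin 315) (hi : (i : ℕ) ∈ frame) (w : ℍ[ℝ]), val (line i).x = a → val (line i).y = a * w →
      w * q0 = q0 * w := by
    intro i hi w hwx hwy
    obtain ⟨r, r0, r1, -⟩ := comp i hi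
    rw [hwx] at r0
    rw [hwy, h10, ← mul_assoc r, ← r0, mul_assoc, mul_assoc] at r1
    exact mul_left_cancel₀ ha0 r1
  have c4 := hcomm 4 (by decide) (val ⟨0, 0, -2, 0, 0, 0, 0, 0⟩) (by rw [show ((4 : Fin 315) : ℕ) = 4 from rfl, f4])
    (by rw [show ((4 : Fin 315) : ℕ) = 4 from rfl, f4]; apply Quaternion.ext <;> simp [a])
  have c5 := hcomm 5 (by decide) (val ⟨0, 0, 0, 0, 2, 0, 0, 0⟩) (by rw [show ((5 : Fin 315) : ℕ) = 5 from rfl, f5])
    (by rw [show ((5 : Fin 315) : ℕ) = 5 from rfl, f5]; apply Quaternion.ext <;> simp [a])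
  have i1 := congrArg QuaternionAlgebra.imJ c4
  have i2 := congrArg QuaternionAlgebra.imK c4
  have j2 := congrArg QuaternionAlgebra.imK c5
  simp at i1 i2 j2
  have hK : q0.imK = 0 := by linarith
  have hJ : q0.imJ = 0 := by linarith
  have hI : q0.imI = 0 := by linarith
  have hn := normSq_of_scale (LV_mem 0).2 (w := φ (LV 0)) (by rw [hφ]; exact (LV_mem 0).2)
    (by rw [show LV 0 = ![((2 : ℝ) : ℍ[ℝ]), 0, 0] from a0]; exact h0)
  rw [star_mul_self, ← coe_one] at hn
  have hn' := coe_injective hn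
  rw [normSq_def', hI, hJ, hK] at hn'
  have hq : q0 = 1 ∨ q0 = -1 := by
    rcases sq_eq_one_iff.1 (show q0.re ^ 2 = 1 by linarith) with h | h
    · left; apply Quaternion.ext <;> simp [h, hI, hJ, hK]
    · right; apply Quaternion.ext <;> simp [h, hI, hJ, hK]
  rcases hq with hq | hq
  · left
    refine Equiv.ext fun x => Subtype.ext ?_
    rw [hg, hx, h10, h20, hq]
    funext t; fin_cases t <;> simp
  · right
    intro x
    rw [hg, hx, h10, h20, hq]
    funext t; fin_cases t <;> simp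

theorem rho_eq_one {g : isoSub}
    (h : (g : Equiv.Perm icoLeech) = 1 ∨
      ∀ x : icoLeech, (((g : Equiv.Perm icoLeech) x : icoLeech) : Vec) = -(x : Vec)) : rho g = 1 := by
  refine Equiv.ext fun i => ?_
  rcases h with h | h
  · exact lineMap_eq g (q := 1) (by rw [h, one_smul]; rfl)
  · exact lineMap_eq g (q := -1) (by rw [h, neg_one_smul]; rfl)

theorem frameFaithful : FrameFaithful := by
  intro g hg hfix
  rw [← map_fourGen] at hg
  obtain ⟨h, -, rfl⟩ := hg
  exact rho_eq_one (frame_scalar hfix)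

theorem exists_move (i : Fin 315) : ∃ h ∈ fourGen, ∃ q : ℍ[ℝ],
    (((h : Equiv.Perm icoLeech) (LL 0) : icoLeech) : Vec) = q • LV i := by
  obtain ⟨g, hg, hgi⟩ := lineGroup_move i
  rw [← map_fourGen] at hg
  obtain ⟨h, hh, rfl⟩ := hg
  obtain ⟨q, hq⟩ := (exists_line h 0).choose_spec
  exact ⟨h, hh, q, hq.trans (by rw [show (exists_line h 0).choose = i from hgi])⟩

theorem gi_zero : gi 0 = 0 := by decide +kernel

theorem conj_sC {i : Fin 315} {h : isoSub} {q : ℍ[ℝ]}
    (hq : (((h : Equiv.Perm icoLeech) (LL 0) : icoLeech) : Vec) = q • LV i) (x : icoLeech) :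
    ((((h : Equiv.Perm icoLeech) * sC 0 * (h : Equiv.Perm icoLeech)⁻¹) x : icoLeech) : Vec) = phi (LV i) x := by
  obtain ⟨φ, hφ, hg⟩ := h.2
  have e : φ (LV 0) = q • LV i := (hg (LL 0)).symm.trans hq
  have hqq := normSq_of_scale (LV_mem i).2 (by rw [← e, hφ]; exact (LV_mem 0).2 : qip (q • LV i) (q • LV i) = 4) rfl
  set y := (h : Equiv.Perm icoLeech)⁻¹ x with hy
  have hxy : (h : Equiv.Perm icoLeech) y = x := by simp [y]
  show (((h : Equiv.Perm icoLeech) (sC 0 y) : icoLeech) : Vec) = _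
  rw [hg, show ((sC 0 y : icoLeech) : Vec) = phi (LV 0) y by rw [← gi_zero]; rfl,
    ← phi_unit_smul hqq (LV i), ← e, ← congrArg Subtype.val hxy, hg]
  exact (phi_conj (g := φ.toLinearMap) hφ (LV 0) (y : Vec)).symm

theorem exists_refl (i : Fin 315) : ∃ f ∈ fourGen.map isoSub.subtype,
    (∀ x : icoLeech, ((f x : icoLeech) : Vec) = phi (LV i) x) ∧
      ∃ h ∈ fourGen.map isoSub.subtype, h * sC 0 * h⁻¹ = f := by
  obtain ⟨h, hh, q, hq⟩ := exists_move i
  have hs : sC 0 ∈ fourGen.map isoSub.subtype :=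
    ⟨_, Subgroup.subset_closure ⟨0, rfl⟩, rfl⟩
  have hh' : (h : Equiv.Perm icoLeech) ∈ fourGen.map isoSub.subtype := ⟨h, hh, rfl⟩
  exact ⟨_, mul_mem (mul_mem hh' hs) (inv_mem hh'), conj_sC hq, _, hh', rfl⟩

theorem refl_agree {f : Equiv.Perm icoLeech} (hf : IsIcoReflection f) :
    ∃ i : Fin 315, ∀ x : icoLeech, ((f x : icoLeech) : Vec) = phi (LV i) x := by
  obtain ⟨r, hr, hf⟩ := hf
  obtain ⟨u, hu, i, e⟩ := min_eq r.2 hr
  refine ⟨i, fun x => ?_⟩
  rw [hf, show qrefl (r : Vec) x = phi (r : Vec) x from rfl, e, phi_unit_smul]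
  rw [star_mul_self, normSq_unit hu, coe_one]

theorem perm_ext {f f' : Equiv.Perm icoLeech} {i : Fin 315}
    (hf : ∀ x : icoLeech, ((f x : icoLeech) : Vec) = phi (LV i) x)
    (hf' : ∀ x : icoLeech, ((f' x : icoLeech) : Vec) = phi (LV i) x) : f = f' :=
  Equiv.ext fun x => Subtype.ext ((hf x).trans (hf' x).symm)

theorem twoJ2_eq : twoJ2 = fourGen.map isoSub.subtype := by
  refine le_antisymm ((Subgroup.closure_le _).2 ?_) ?_
  · intro f hf
    obtain ⟨i, hi⟩ := refl_agree hf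
    obtain ⟨f', hf', h', -⟩ := exists_refl i
    exact perm_ext hi h' ▸ hf'
  · rw [fourGen, MonoidHom.map_closure]
    refine Subgroup.closure_mono ?_
    rintro _ ⟨_, ⟨c, rfl⟩, rfl⟩
    exact sC_refl c

theorem twoJ2_le : twoJ2 ≤ isoSub := by
  rw [twoJ2_eq]; exact Subgroup.map_subtype_le _

/-- the action of the double cover on the lines -/
def rhoG : twoJ2 →* Equiv.Perm (Fin 315) := rho.comp (Subgroup.inclusion twoJ2_le)

theorem rhoG_range : rhoG.range = lineGroup := by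
  rw [← map_fourGen]
  refine le_antisymm ?_ ?_
  · rintro _ ⟨g, rfl⟩
    obtain ⟨h, hh, he⟩ := (twoJ2_eq ▸ g.2 : (g : Equiv.Perm icoLeech) ∈ fourGen.map isoSub.subtype)
    exact ⟨h, hh, congrArg rho (Subtype.ext he : h = Subgroup.inclusion twoJ2_le g)⟩
  · rintro _ ⟨h, hh, rfl⟩
    exact ⟨⟨h, twoJ2_eq ▸ ⟨h, hh, rfl⟩⟩, congrArg rho (Subtype.ext rfl)⟩

theorem phi_axis (t : Fin 3) (x : Vec) :
    phi (Pi.single t ((2 : ℝ) : ℍ[ℝ])) x = Function.update x t (-x t) := by
  funext s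
  rw [phi_eq]
  by_cases h : s = t
  · subst h
    fin_cases s <;>
      simp [qip, Fin.sum_univ_three, Pi.single_apply, mul_coe_eq_smul, smul_smul, smul_mul_assoc, star_coe] <;>
      module
  · rw [Function.update_of_ne h]
    simp [Pi.single_apply, h]

theorem axis_single : ∀ t : Fin 3, LV ⟨t, by omega⟩ = Pi.single t ((2 : ℝ) : ℍ[ℝ]) := by
  obtain ⟨f0, f1, f2, -⟩ := frame_vals
  intro t
  funext s
  show vv (line (t : ℕ)) s = _
  fin_cases t <;> fin_cases s <;> simp [f0, f1, f2, val_two, val_zero]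

theorem exists_neg : ∃ z : twoJ2, ∀ x : icoLeech, (((z : Equiv.Perm icoLeech) x : icoLeech) : Vec) = -(x : Vec) := by
  obtain ⟨f0, h0, e0, -⟩ := exists_refl 0
  obtain ⟨f1, h1, e1, -⟩ := exists_refl 1
  obtain ⟨f2, h2, e2, -⟩ := exists_refl 2
  rw [← twoJ2_eq] at h0 h1 h2
  refine ⟨⟨f0 * f1 * f2, mul_mem (mul_mem h0 h1) h2⟩, fun x => ?_⟩
  show ((f0 (f1 (f2 x)) : icoLeech) : Vec) = _
  rw [e0, e1, e2, show (0 : Fin 315) = ⟨((0 : Fin 3) : ℕ), by norm_num⟩ from rfl, axis_single,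
    show (1 : Fin 315) = ⟨((1 : Fin 3) : ℕ), by norm_num⟩ from rfl, axis_single,
    show (2 : Fin 315) = ⟨((2 : Fin 3) : ℕ), by norm_num⟩ from rfl, axis_single, phi_axis, phi_axis, phi_axis]
  funext t
  fin_cases t <;> simp [Function.update]

/-- the element `-1` -/
def negG : twoJ2 := exists_neg.choose

theorem negG_apply (x : icoLeech) :
    (((negG : Equiv.Perm icoLeech) x : icoLeech) : Vec) = -(x : Vec) := exists_neg.choose_spec x

theorem negG_ne_one : negG ≠ 1 := fun h => by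
  have := negG_apply (LL 0)
  rw [h] at this
  have e : LV 0 = -LV 0 := this
  have h2 : (2 : ℝ) • LV 0 = 0 := by rw [two_smul]; exact eq_neg_iff_add_eq_zero.1 e
  have h4 := (LV_mem 0).2
  rw [(smul_eq_zero.1 h2).resolve_left two_ne_zero] at h4
  have := congrArg QuaternionAlgebra.re h4
  rw [show (4 : ℍ[ℝ]) = ((4 : ℝ) : ℍ[ℝ]) from rfl] at this
  simp [qip] at this

theorem rhoG_ker (g : twoJ2) : rhoG g = 1 ↔ g = 1 ∨ g = negG := by
  constructor
  · intro h
    rcases frame_scalar (g := Subgroup.inclusion twoJ2_le g) (fun x _ => Equiv.Perm.ext_iff.1 h x) with h' | h'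
    · exact Or.inl (Subtype.ext h')
    · exact Or.inr (Subtype.ext (Equiv.ext fun x => Subtype.ext ((h' x).trans (negG_apply x).symm)))
  · rintro (rfl | rfl)
    · exact map_one _
    · exact rho_eq_one (Or.inr negG_apply)

theorem lineGroup_center : Subgroup.center lineGroup = ⊥ := by
  have := lineGroup_simple frameFaithful
  refine (Subgroup.Normal.eq_bot_or_eq_top inferInstance).resolve_right fun h => ?_
  obtain ⟨a, b, hab⟩ := lineGroup_noncomm
  exact hab ((Subgroup.mem_center_iff.1 (h ▸ Subgroup.mem_top b)) a)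

theorem center_eq : Subgroup.center twoJ2 = rhoG.ker := by
  refine le_antisymm (fun z hz => ?_) (fun z hz => ?_)
  · have hm : ∀ g, rhoG g ∈ lineGroup := fun g => rhoG_range.le ⟨g, rfl⟩
    have : (⟨rhoG z, hm z⟩ : lineGroup) ∈ Subgroup.center lineGroup := by
      refine Subgroup.mem_center_iff.2 fun y => ?_
      obtain ⟨w, hw⟩ : (y : Equiv.Perm (Fin 315)) ∈ rhoG.range := rhoG_range.ge y.2
      apply Subtype.ext
      simp only [Subgroup.coe_mul, ← hw, ← map_mul, Subgroup.mem_center_iff.1 hz w]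
    rw [lineGroup_center, Subgroup.mem_bot] at this
    exact MonoidHom.mem_ker.2 (congrArg Subtype.val this)
  · refine Subgroup.mem_center_iff.2 fun g => ?_
    rcases (rhoG_ker z).1 (MonoidHom.mem_ker.1 hz) with rfl | rfl
    · simp
    · obtain ⟨φ, -, hg⟩ := twoJ2_le g.2
      refine Subtype.ext (Equiv.ext fun x => Subtype.ext ?_)
      show (((g : Equiv.Perm icoLeech) ((negG : Equiv.Perm icoLeech) x) : icoLeech) : Vec) =
        (((negG : Equiv.Perm icoLeech) ((g : Equiv.Perm icoLeech) x) : icoLeech) : Vec)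
      rw [negG_apply, hg, hg, negG_apply, map_neg]

theorem card_ker : Nat.card rhoG.ker = 2 := by
  have e : (rhoG.ker : Set twoJ2) = {1, negG} := by
    ext g; simp [rhoG_ker]
  rw [← SetLike.coe_sort_coe, Nat.card_coe_set_eq, e, Set.ncard_pair negG_ne_one.symm]

theorem card_range : Nat.card rhoG.range = 604800 := by
  rw [rhoG_range, card_lineGroup frameFaithful]

theorem card_twoJ2 : Nat.card twoJ2 = 1209600 := by
  have h := Subgroup.card_eq_card_quotient_mul_card_subgroup rhoG.ker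
  rw [Nat.card_congr (QuotientGroup.quotientKerEquivRange rhoG).toEquiv, card_range, card_ker] at h
  exact h

/-- `J₂` on the 315 lines -/
def j2Equiv : Cfsg.Spor.J2 ≃* lineGroup :=
  (QuotientGroup.quotientMulEquivOfEq center_eq).trans
    ((QuotientGroup.quotientKerEquivRange rhoG).trans (MulEquiv.subgroupCongr rhoG_range))

theorem card_J2 : Nat.card Cfsg.Spor.J2 = 604800 := by
  rw [Nat.card_congr j2Equiv.toEquiv, card_lineGroup frameFaithful]

theorem J2_simple : IsSimpleGroup Cfsg.Spor.J2 := by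
  have := lineGroup_simple frameFaithful
  have : Nontrivial Cfsg.Spor.J2 := j2Equiv.toEquiv.nontrivial
  exact IsSimpleGroup.isSimpleGroup_of_surjective j2Equiv.symm.toMonoidHom j2Equiv.symm.surjective

theorem J2_noncomm : ∃ a b : Cfsg.Spor.J2, a * b ≠ b * a := by
  obtain ⟨a, b, hab⟩ := lineGroup_noncomm
  refine ⟨j2Equiv.symm a, j2Equiv.symm b, fun h => hab ?_⟩
  simpa using congrArg j2Equiv h

theorem refl_conj {f f' : Equiv.Perm icoLeech} (hf : IsIcoReflection f) (hf' : IsIcoReflection f') :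
    ∃ g ∈ twoJ2, g * f * g⁻¹ = f' := by
  obtain ⟨i, hi⟩ := refl_agree hf
  obtain ⟨j, hj⟩ := refl_agree hf'
  obtain ⟨a, -, ha, g, hg, rfl⟩ := exists_refl i
  obtain ⟨b, -, hb, g', hg', rfl⟩ := exists_refl j
  obtain rfl := perm_ext hi ha
  obtain rfl := perm_ext hj hb
  rw [← twoJ2_eq] at hg hg'
  exact ⟨g' * g⁻¹, mul_mem hg' (inv_mem hg), by group⟩

theorem card_min : {r : Vec | r ∈ icoLeech ∧ qip r r = 4}.ncard = 37800 := by
  have hnd : units.Nodup ∧ units.length = 120 := by decide +kernel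
  have e : {r : Vec | r ∈ icoLeech ∧ qip r r = 4} =
      (fun p : IQ × Fin 315 => val p.1 • LV p.2) '' ((units.toFinset ×ˢ Finset.univ : Finset (IQ × Fin 315)) : Set _) := by
    ext v
    simp only [Set.mem_setOf_eq, Set.mem_image, Finset.coe_product, Set.mem_prod, Finset.mem_coe,
      List.mem_toFinset, Finset.mem_univ, and_true, Prod.exists]
    constructor
    · rintro ⟨h1, h2⟩
      obtain ⟨u, hu, i, rfl⟩ := min_eq h1 h2
      exact ⟨u, i, hu, rfl⟩
    · rintro ⟨u, i, hu, rfl⟩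
      refine ⟨leech_smul (val_mem (mem_of_units hu)) (LV_mem i).1, ?_⟩
      rw [qip_smul_left, qip_smul_right, (LV_mem i).2, ← mul_assoc, mul_four, smul_mul_assoc, self_mul_star,
        normSq_unit hu, coe_one, ← mul_four, one_mul]
  rw [e, Set.ncard_image_of_injOn, Set.ncard_coe_finset, Finset.card_product,
    List.toFinset_card_of_nodup hnd.1, hnd.2, Finset.card_univ, Fintype.card_fin]
  rintro ⟨u, i⟩ hu ⟨w, j⟩ hw h
  simp only [Finset.coe_product, Set.mem_prod, Finset.mem_coe, List.mem_toFinset] at hu hw h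
  have hm := leech_smul (val_mem (mem_of_units hu.1)) (LV_mem i).1
  have hn : qip (val u • LV i) (val u • LV i) = 4 := by
    rw [qip_smul_left, qip_smul_right, (LV_mem i).2, ← mul_assoc, mul_four, smul_mul_assoc, self_mul_star,
      normSq_unit hu.1, coe_one, ← mul_four, one_mul]
  obtain rfl := scalar_unique hn rfl h
  have : (val u - val w) • LV i = 0 := by rw [sub_smul, h, sub_self]
  rcases smul_eq_zero.1 this with h' | h'
  · rw [val_inj (sub_eq_zero.1 h')]
  · have h4 := (LV_mem i).2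
    rw [h'] at h4
    have := congrArg QuaternionAlgebra.re h4
    rw [show (4 : ℍ[ℝ]) = ((4 : ℝ) : ℍ[ℝ]) from rfl] at this
    simp [qip] at this

theorem card_refl : {f : Equiv.Perm icoLeech | IsIcoReflection f}.ncard = 315 := by
  choose f hf using fun i => exists_refl i
  have e : {g : Equiv.Perm icoLeech | IsIcoReflection g} = Set.range f := by
    ext g
    constructor
    · intro hg
      obtain ⟨i, hi⟩ := refl_agree hg
      exact ⟨i, perm_ext (hf i).2.1 hi⟩
    · rintro ⟨i, rfl⟩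
      exact ⟨LL i, (LV_mem i).2, (hf i).2.1⟩
  rw [e, ← Set.image_univ, Set.ncard_image_of_injective _ (fun i j h => ?_), Set.ncard_univ, Nat.card_fin]
  have h1 := (hf i).2.1 (LL i)
  rw [h, (hf j).2.1] at h1
  have e1 : phi (LV i) (LV i) = -LV i := by
    rw [phi_eq, (LV_mem i).2, show ((1 / 2 : ℝ) • (4 : ℍ[ℝ])) = ((2 : ℝ) : ℍ[ℝ]) by
      rw [show (4 : ℍ[ℝ]) = ((4 : ℝ) : ℍ[ℝ]) from rfl, smul_coe]; norm_num]
    funext t; simp [coe_mul_eq_smul]; module
  have h2 : phi (LV j) (LV i) = -LV i := h1.trans e1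
  rw [phi_eq] at h2
  set c := ((1 / 2 : ℝ) • qip (LV i) (LV j)) with hc
  have h3 : c • LV j = (2 : ℝ) • LV i := by rw [two_smul]; rw [sub_eq_iff_eq_add, eq_neg_add_iff_add_eq] at h2; exact h2.symm
  refine (line_inj (q := (1 / 2 : ℝ) • c) ?_).symm
  rw [smul_assoc, h3, smul_smul]
  norm_num

end Cfsg.Lib.J2

end
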