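import Cfsg.Agent.Spor.J2.Coord

/-!
The icosians in coordinates.
-/

set_option autoImplicit false
set_option linter.style.haveILetI false

namespace Cfsg.Lib.J2

open Quaternion Cfsg.Spor

/-- the span of the basis -/
noncomputable def span : Submodule ℤ ℍ[ℝ] := Submodule.span ℤ {x | ∃ b ∈ IQ.basis, val b = x}

theorem eight_cases {P : IQ → Prop} (h : ∀ b ∈ IQ.basis, P b) (d : IQ) (hd : d ∈ IQ.basis) : P d := h d hd

theorem mem_span {d : IQ} (hd : IQ.mem d = true) : val d ∈ span := by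
  have hd' := hd
  simp only [IQ.mem, IQ.crd, List.all_cons, List.all_nil, Bool.and_eq_true, beq_iff_eq] at hd'
  obtain ⟨h0, h1, h2, h3, h4, h5, h6, h7, -⟩ := hd'
  obtain ⟨k0, e0⟩ := Int.dvd_of_emod_eq_zero h0
  obtain ⟨k1, e1⟩ := Int.dvd_of_emod_eq_zero h1
  obtain ⟨k2, e2⟩ := Int.dvd_of_emod_eq_zero h2
  obtain ⟨k3, e3⟩ := Int.dvd_of_emod_eq_zero h3
  obtain ⟨k4, e4⟩ := Int.dvd_of_emod_eq_zero h4
  obtain ⟨k5, e5⟩ := Int.dvd_of_emod_eq_zero h5
  obtain ⟨k6, e6⟩ := Int.dvd_of_emod_eq_zero h6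
  obtain ⟨k7, e7⟩ := Int.dvd_of_emod_eq_zero h7
  have key : d = ((List.zipWith IQ.smul [k0, k1, k2, k3, k4, k5, k6, k7] IQ.basis).foldr IQ.add IQ.zero) := by
    cases d
    simp only [IQ.basis, List.zipWith, List.foldr, IQ.add, IQ.smul, IQ.zero, IQ.mk.injEq]
    simp only at e0 e1 e2 e3 e4 e5 e6 e7
    refine ⟨?_, ?_, ?_, ?_, ?_, ?_, ?_, ?_⟩ <;> omega
  rw [key]
  have aux : ∀ (ks : List ℤ) (bs : List IQ), (∀ b ∈ bs, b ∈ IQ.basis) →
      val ((List.zipWith IQ.smul ks bs).foldr IQ.add IQ.zero) ∈ span := by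
    intro ks
    induction ks with
    | nil => intro bs _; simp [val_zero]
    | cons k ks ih =>
      intro bs hbs
      cases bs with
      | nil => simp [val_zero]
      | cons b bs =>
        simp only [List.zipWith, List.foldr, val_add, val_smul]
        exact add_mem (Submodule.smul_mem _ _ (Submodule.subset_span ⟨b, hbs b (by simp), rfl⟩))
          (ih bs fun c hc => hbs c (by simp [hc]))
  exact aux _ _ fun _ h => h

theorem span_spec {x : ℍ[ℝ]} (hx : x ∈ span) : ∃ d, IQ.mem d = true ∧ val d = x := by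
  induction hx using Submodule.span_induction with
  | mem x hx =>
    obtain ⟨b, hb, rfl⟩ := hx
    exact ⟨b, eight_cases (P := fun b => IQ.mem b = true) (by decide +kernel) b hb, rfl⟩
  | zero => exact ⟨IQ.zero, by decide +kernel, val_zero⟩
  | add x y _ _ hx hy =>
    obtain ⟨d, hd, rfl⟩ := hx
    obtain ⟨e, he, rfl⟩ := hy
    refine ⟨IQ.add d e, ?_, val_add d e⟩
    simp only [IQ.mem, IQ.crd, IQ.add, List.all_cons, List.all_nil, Bool.and_eq_true, beq_iff_eq] at hd he ⊢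
    obtain ⟨h0, h1, h2, h3, h4, h5, h6, h7, -⟩ := hd
    obtain ⟨g0, g1, g2, g3, g4, g5, g6, g7, -⟩ := he
    refine ⟨?_, ?_, ?_, ?_, ?_, ?_, ?_, ?_, trivial⟩ <;> omega
  | smul c x _ hx =>
    obtain ⟨d, hd, rfl⟩ := hx
    refine ⟨IQ.smul c d, ?_, val_smul c d⟩
    simp only [IQ.mem, IQ.crd, IQ.smul, List.all_cons, List.all_nil, Bool.and_eq_true, beq_iff_eq] at hd ⊢
    obtain ⟨h0, h1, h2, h3, h4, h5, h6, h7, -⟩ := hd
    obtain ⟨k0, e0⟩ := Int.dvd_of_emod_eq_zero h0
    obtain ⟨k1, e1⟩ := Int.dvd_of_emod_eq_zero h1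
    obtain ⟨k2, e2⟩ := Int.dvd_of_emod_eq_zero h2
    obtain ⟨k3, e3⟩ := Int.dvd_of_emod_eq_zero h3
    obtain ⟨k4, e4⟩ := Int.dvd_of_emod_eq_zero h4
    obtain ⟨k5, e5⟩ := Int.dvd_of_emod_eq_zero h5
    obtain ⟨k6, e6⟩ := Int.dvd_of_emod_eq_zero h6
    obtain ⟨k7, e7⟩ := Int.dvd_of_emod_eq_zero h7
    exact ⟨Int.emod_eq_zero_of_dvd ⟨c * k0, by linear_combination c * e0⟩,
      Int.emod_eq_zero_of_dvd ⟨c * k1, by linear_combination c * e1⟩,
      Int.emod_eq_zero_of_dvd ⟨c * k2, by linear_combination c * e2⟩,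
      Int.emod_eq_zero_of_dvd ⟨c * k3, by linear_combination c * e3⟩,
      Int.emod_eq_zero_of_dvd ⟨c * k4, by linear_combination c * e4⟩,
      Int.emod_eq_zero_of_dvd ⟨c * k5, by linear_combination c * e5⟩,
      Int.emod_eq_zero_of_dvd ⟨c * k6, by linear_combination c * e6⟩,
      Int.emod_eq_zero_of_dvd ⟨c * k7, by linear_combination c * e7⟩, trivial⟩

theorem two_cancel {x y : ℍ[ℝ]} (h : (2 : ℝ) • x = (2 : ℤ) • y) : x = y := by
  rw [← Int.cast_smul_eq_zsmul ℝ (2 : ℤ) y] at h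
  exact smul_right_injective _ (two_ne_zero' ℝ) (by simpa using h)

theorem basis_mul : ∀ b ∈ IQ.basis, ∀ b' ∈ IQ.basis,
    IQ.mem (IQ.mul b b') = true ∧ IQ.raw b b' = IQ.smul 2 (IQ.mul b b') := by decide +kernel

theorem span_mul {x y : ℍ[ℝ]} (hx : x ∈ span) (hy : y ∈ span) : x * y ∈ span := by
  induction hx using Submodule.span_induction with
  | mem x hx =>
    obtain ⟨b, hb, rfl⟩ := hx
    induction hy using Submodule.span_induction with
    | mem y hy =>
      obtain ⟨b', hb', rfl⟩ := hy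
      obtain ⟨h1, h2⟩ := eight_cases (P := fun b => IQ.mem (IQ.mul b b') = true ∧
        IQ.raw b b' = IQ.smul 2 (IQ.mul b b')) (fun c hc => basis_mul c hc b' hb') b hb
      have h3 := congrArg val h2
      rw [val_raw, val_smul] at h3
      have h4 : val b * val b' = val (IQ.mul b b') := two_cancel h3
      rw [h4]
      exact mem_span h1
    | zero => simp
    | add y z _ _ h1 h2 => rw [mul_add]; exact add_mem h1 h2
    | smul c y _ h => rw [mul_smul_comm]; exact Submodule.smul_mem _ c h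
  | zero => simp
  | add x z _ _ h1 h2 => rw [add_mul]; exact add_mem h1 h2
  | smul c x _ h => rw [smul_mul_assoc]; exact Submodule.smul_mem _ c h

/-- the two ring generators -/
def gensI : Fin 2 → IQ := ![⟨0, 0, 2, 0, 0, 0, 0, 0⟩, ⟨1, 0, 1, -1, 0, 0, 0, 1⟩]

/-- words for the basis in the generators -/
def basisWords : List (List (Fin 2)) := [[], [0, 1, 0, 1, 1, 0, 1, 0, 0, 0], [0, 1, 0, 1, 0, 0, 0], [0, 1, 1, 0, 1, 0, 1, 1, 0, 0, 0], [0, 1, 0, 1, 1, 0, 0], [1, 1, 0, 0, 0], [1, 0, 1, 1, 0, 1, 0, 1, 1, 0, 1, 0], [0, 1, 1, 0, 1, 0, 1, 1, 0, 1]]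

theorem gensI_mem (i : Fin 2) : val (gensI i) ∈ icosians := by
  fin_cases i
  · show val ⟨0, 0, 2, 0, 0, 0, 0, 0⟩ ∈ icosians
    rw [val_qI]; exact Subring.subset_closure (Set.mem_insert _ _)
  · show val ⟨1, 0, 1, -1, 0, 0, 0, 1⟩ ∈ icosians
    rw [val_gen]; exact Subring.subset_closure (Set.mem_insert_of_mem _ rfl)

/-- the product of a word in the generators -/
def wordProd : List (Fin 2) → IQ
  | [] => IQ.one
  | g :: w => IQ.mul (gensI g) (wordProd w)

/-- no rounding occurs when the word is multiplied out -/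
def wordOK : List (Fin 2) → Bool
  | [] => true
  | g :: w => decide (IQ.raw (gensI g) (wordProd w) = IQ.smul 2 (wordProd (g :: w))) && wordOK w

theorem wordProd_mem : ∀ w : List (Fin 2), wordOK w = true → val (wordProd w) ∈ icosians
  | [], _ => by simp only [wordProd, val_one]; exact one_mem _
  | g :: w, h => by
    rw [wordOK, Bool.and_eq_true, decide_eq_true_eq] at h
    have h1 := congrArg val h.1
    rw [val_raw, val_smul] at h1
    rw [← two_cancel h1]
    exact mul_mem (gensI_mem g) (wordProd_mem w h.2)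

theorem basis_words : ∀ b ∈ IQ.basis, ∃ w ∈ basisWords, wordProd w = b ∧ wordOK w = true := by
  decide +kernel

theorem gensI_span (i : Fin 2) : val (gensI i) ∈ span :=
  mem_span (by revert i; decide +kernel)

theorem icosians_iff {x : ℍ[ℝ]} : x ∈ icosians ↔ ∃ d, IQ.mem d = true ∧ val d = x := by
  constructor
  · intro hx
    let S : Subring ℍ[ℝ] :=
      { carrier := span
        mul_mem' := fun ha hb => span_mul ha hb
        one_mem' := by rw [← val_one]; exact mem_span (by decide +kernel)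
        add_mem' := fun ha hb => add_mem ha hb
        zero_mem' := zero_mem _
        neg_mem' := fun ha => neg_mem ha }
    refine span_spec ((Subring.closure_le (t := S)).2 ?_ hx)
    rintro y (rfl | rfl)
    · rw [← val_qI]; exact gensI_span 0
    · rw [← val_gen]; exact gensI_span 1
  · rintro ⟨d, hd, rfl⟩
    have key : span ≤ icosians.toAddSubgroup.toIntSubmodule := by
      refine Submodule.span_le.2 ?_
      rintro _ ⟨b, hb, rfl⟩
      show val b ∈ icosians
      obtain ⟨w, -, rfl, hw⟩ := basis_words b hb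
      exact wordProd_mem w hw
    exact key (mem_span hd)

theorem mem_mul {p q : IQ} (hp : IQ.mem p = true) (hq : IQ.mem q = true) :
    IQ.mem (IQ.mul p q) = true ∧ val (IQ.mul p q) = val p * val q := by
  obtain ⟨f, hf, hfe⟩ := span_spec (span_mul (mem_span hp) (mem_span hq))
  have : IQ.mul p q = f := val_half (by rw [val_raw, hfe])
  exact ⟨this ▸ hf, this ▸ hfe⟩

theorem mem_conj {d : IQ} (hd : IQ.mem d = true) : IQ.mem (IQ.conj d) = true := by
  simp only [IQ.mem, IQ.crd, IQ.conj, List.all_cons, List.all_nil, Bool.and_eq_true, beq_iff_eq] at hd ⊢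
  obtain ⟨h0, h1, h2, h3, h4, h5, h6, h7, -⟩ := hd
  refine ⟨?_, ?_, ?_, ?_, ?_, ?_, ?_, ?_, trivial⟩ <;> omega

theorem normSq_val (d : IQ) :
    normSq (val d) = (((IQ.norm4 d).1 : ℝ) + ((IQ.norm4 d).2 : ℝ) * tau) / 4 := by
  rw [normSq_def']
  simp only [val_re, val_imI, val_imJ, val_imK, IQ.norm4, IQ.m0, IQ.m1]
  push_cast
  linear_combination (((d.w1 : ℝ) ^ 2 + (d.x1 : ℝ) ^ 2 + (d.y1 : ℝ) ^ 2 + (d.z1 : ℝ) ^ 2) / 4) * tau_sq

theorem hH : val IQ.hI * star (val IQ.hI) = (2 : ℍ[ℝ]) := by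
  rw [self_mul_star, normSq_val]
  norm_num [IQ.norm4, IQ.hI, IQ.m0, IQ.m1]
  rfl

theorem hH' : star (val IQ.hI) * val IQ.hI = (2 : ℍ[ℝ]) := by
  rw [star_mul_self, normSq_val]
  norm_num [IQ.norm4, IQ.hI, IQ.m0, IQ.m1]
  rfl

theorem div4_iff {p : IQ} : IQ.div4 p = true ↔ p = IQ.smul 4 (IQ.quarter p) := by
  cases p
  simp only [IQ.div4, Bool.and_eq_true, beq_iff_eq, IQ.smul, IQ.quarter, IQ.mk.injEq]
  omega

theorem quarter_smul (q : IQ) : IQ.quarter (IQ.smul 4 q) = q := by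
  cases q
  simp [IQ.quarter, IQ.smul]

theorem ideal_aux {k d : IQ} (hd : IQ.mem d = true) (hk : val k * star (val k) = (2 : ℍ[ℝ]))
    (hk' : star (val k) * val k = (2 : ℍ[ℝ])) :
    val d ∈ leftIdeal (val k) ↔
      (IQ.div4 (IQ.raw d (IQ.conj k)) && IQ.mem (IQ.quarter (IQ.raw d (IQ.conj k)))) = true := by
  have h2 : ∀ y : ℍ[ℝ], y * 2 = (2 : ℝ) • y := fun y => by rw [mul_two, two_smul]
  constructor
  · rintro ⟨a, ha, he⟩
    obtain ⟨f, hf, rfl⟩ := icosians_iff.1 ha
    have h1 : IQ.raw d (IQ.conj k) = IQ.smul 4 f := val_inj (by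
      rw [val_raw, val_conj, he, mul_assoc, hk, h2, smul_smul, val_smul, ← Int.cast_smul_eq_zsmul ℝ]
      norm_num)
    rw [h1, quarter_smul, Bool.and_eq_true]
    exact ⟨div4_iff.2 (by rw [quarter_smul]), hf⟩
  · rw [Bool.and_eq_true]
    rintro ⟨h1, hm⟩
    refine ⟨_, icosians_iff.2 ⟨_, hm, rfl⟩, ?_⟩
    have h3 := congrArg val (div4_iff.1 h1)
    rw [val_raw, val_conj, val_smul, ← Int.cast_smul_eq_zsmul ℝ] at h3
    have h4 : val d * star (val k) = (2 : ℝ) • val (IQ.quarter (IQ.raw d (IQ.conj k))) := by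
      refine smul_right_injective _ (two_ne_zero' ℝ) ?_
      show (2 : ℝ) • _ = (2 : ℝ) • _
      rw [h3, smul_smul]
      norm_num
    have h5 := congrArg (· * val k) h4
    simp only [mul_assoc, hk', h2, smul_mul_assoc] at h5
    exact smul_right_injective _ (two_ne_zero' ℝ) h5

theorem inH_iff {d : IQ} : IQ.inH d = true ↔ IQ.mem d = true ∧ val d ∈ leftIdeal icoH := by
  rw [IQ.inH, Bool.and_assoc, Bool.and_eq_true, ← val_hI]
  exact and_congr_right fun hd => (ideal_aux hd hH hH').symm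

theorem inHB_iff {d : IQ} : IQ.inHB d = true ↔ IQ.mem d = true ∧ val d ∈ leftIdeal (star icoH) := by
  rw [IQ.inHB, Bool.and_assoc, Bool.and_eq_true, ← val_hI, ← val_conj]
  refine and_congr_right fun hd => ?_
  have := ideal_aux (k := IQ.conj IQ.hI) hd (by rw [val_conj, star_star]; exact hH')
    (by rw [val_conj, star_star]; exact hH)
  rw [show IQ.conj (IQ.conj IQ.hI) = IQ.hI from rfl] at this
  exact this.symm

end Cfsg.Lib.J2
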