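import Cfsg.Agent.Spor.J2.U33
import Cfsg.Agent.Spor.J2.U33UnitaryData

/-!
The orbits of the subgroup of order 6048 on its 100 cosets.
-/

set_option autoImplicit false
set_option maxRecDepth 100000
set_option maxHeartbeats 2000000
set_option Elab.async false

namespace Cfsg.Lib.J2.Unitary

open Cfsg.Lib.PermCert MulAction

theorem orb_lt : ∀ x ∈ orb, x < 315 := by decide +kernel

def orbSet : Finset (Fin 315) := Finset.univ.filter fun x => orb.contains x.val = true

theorem orb_closed : ∀ p ∈ uOwn0, ∀ x ∈ orb, orb.contains (ap p.1 x) = true := by decide +kernel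

theorem mem_orbSet {x : Fin 315} : x ∈ orbSet ↔ orb.contains x.val = true := by simp [orbSet]

theorem map_orbSet {g : Equiv.Perm (Fin 315)} (hg : g ∈ u33) : orbSet.map g.toEmbedding = orbSet := by
  induction hg using Subgroup.closure_induction with
  | mem x hx =>
    obtain ⟨p, hp, rfl⟩ := hx
    refine Finset.eq_of_subset_of_card_le (fun y hy => ?_) (by rw [Finset.card_map])
    obtain ⟨z, hz, rfl⟩ := Finset.mem_map.1 hy
    rw [mem_orbSet, Equiv.coe_toEmbedding, perm_apply (uValid.1 p hp)]
    exact orb_closed p hp _ (List.contains_iff_mem.1 (mem_orbSet.1 hz))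
  | one =>
    convert Finset.map_refl
    ext x; rfl
  | mul a b _ _ iha ihb =>
    have : (a * b).toEmbedding = b.toEmbedding.trans a.toEmbedding := rfl
    rw [this, ← Finset.map_map, ihb, iha]
  | inv a _ iha =>
    conv_lhs => rw [← iha]
    rw [Finset.map_map]
    convert Finset.map_refl
    ext x; simp

abbrev sub : Subgroup lineGroup := u33.subgroupOf lineGroup

/-- the image of the orbit attached to a coset -/
def setOf (c : lineGroup ⧸ sub) : Finset (Fin 315) :=
  Quotient.liftOn' c (fun g => orbSet.map (g : Equiv.Perm (Fin 315)).toEmbedding) fun a b h => by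
    have hm : ((a⁻¹ * b : lineGroup) : Equiv.Perm (Fin 315)) ∈ u33 :=
      Subgroup.mem_subgroupOf.1 (QuotientGroup.leftRel_apply.1 h)
    conv_lhs => rw [← map_orbSet hm]
    rw [Finset.map_map]
    congr 1
    ext x; simp

theorem setOf_smul (g : lineGroup) (c : lineGroup ⧸ sub) :
    setOf (g • c) = (setOf c).map (g : Equiv.Perm (Fin 315)).toEmbedding := by
  induction c using Quotient.inductionOn' with
  | h a =>
    show orbSet.map _ = (orbSet.map _).map _
    rw [Finset.map_map]; rfl

/-- how much the set attached to a coset meets the orbit -/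
def meet (c : lineGroup ⧸ sub) : ℕ := (setOf c ∩ orbSet).card

theorem meet_smul {h : lineGroup} (hh : h ∈ sub) (c : lineGroup ⧸ sub) : meet (h • c) = meet c := by
  rw [meet, meet, setOf_smul]
  conv_lhs => rw [← map_orbSet (Subgroup.mem_subgroupOf.1 hh), ← Finset.map_inter, Finset.card_map]

theorem meet_orbit {c d : lineGroup ⧸ sub} (h : d ∈ orbit sub c) : meet d = meet c := by
  obtain ⟨⟨g, hg⟩, rfl⟩ := h
  exact meet_smul hg c

/-- a word in the four generators -/
def gword (w : List ℕ) : List PP := wordOf w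

def uword (w : List ℕ) : List PP := w.map fun i => uOwn0.getD i uGen0

theorem gword_valid : (∀ i ∈ moveOne ++ moveTwo, i < 4) ∧
    (∀ w ∈ wordsOne ++ wordsTwo, ∀ i ∈ w, i < 2) := by decide +kernel

theorem gword_mem {w : List ℕ} (hw : ∀ i ∈ w, i < 4) :
    (∀ p ∈ gword w, valid 315 p = true) ∧ wperm 315 (gword w) ∈ lineGroup := by
  have hmem : ∀ c ∈ gword w, c ∈ genPP := by
    intro c hc
    obtain ⟨j, hj, rfl⟩ := List.mem_map.1 hc
    exact genPP_getD j (hw j hj)
  exact ⟨fun p hp => genPP_valid (hmem p hp), wperm_mem _ fun c hc => Subgroup.subset_closure ⟨c, hmem c hc, rfl⟩⟩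

theorem uperm_mem : ∀ a : List PP, (∀ g ∈ a, perm 315 g ∈ u33) → wperm 315 a ∈ u33
  | [], _ => by simp [wperm]
  | g :: a, h => by
    rw [wperm_cons]; exact mul_mem (h g (by simp)) (uperm_mem a fun c hc => h c (by simp [hc]))

theorem uword_mem {w : List ℕ} (hw : ∀ i ∈ w, i < 2) :
    (∀ p ∈ uword w, valid 315 p = true) ∧ wperm 315 (uword w) ∈ u33 := by
  have hmem : ∀ c ∈ uword w, c ∈ uOwn0 := by
    intro c hc
    obtain ⟨j, hj, rfl⟩ := List.mem_map.1 hc
    have hlen : uOwn0.length = 2 := by simp [uOwn0]
    rw [List.getD_eq_getElem _ _ (by rw [hlen]; exact hw j hj)]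
    exact List.getElem_mem _
  exact ⟨fun p hp => uValid.1 p (hmem p hp), uperm_mem _ fun c hc => Subgroup.subset_closure ⟨c, hmem c hc, rfl⟩⟩

/-- the sorted image of the orbit under a word -/
def imgList (w : List PP) : List ℕ := orb.map (evalWord w)

theorem mem_setOf {w : List PP} (hv : ∀ p ∈ w, valid 315 p = true) (hm : wperm 315 w ∈ lineGroup) (x : Fin 315) :
    x ∈ setOf (⟨wperm 315 w, hm⟩ : lineGroup) ↔ x.val ∈ imgList w := by
  show x ∈ orbSet.map _ ↔ _
  constructor
  · intro hx
    obtain ⟨y, hy, rfl⟩ := Finset.mem_map.1 hx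
    exact List.mem_map.2 ⟨y.val, List.contains_iff_mem.1 (mem_orbSet.1 hy), (wperm_apply hv y).symm⟩
  · intro hx
    obtain ⟨y, hy, e⟩ := List.mem_map.1 hx
    exact Finset.mem_map.2 ⟨⟨y, orb_lt y hy⟩, mem_orbSet.2 (List.contains_iff_mem.2 hy),
      Fin.ext ((wperm_apply hv _).trans e)⟩

theorem meet_word {w : List PP} (hv : ∀ p ∈ w, valid 315 p = true) (hm : wperm 315 w ∈ lineGroup) :
    meet (⟨wperm 315 w, hm⟩ : lineGroup) =
      ((Finset.univ : Finset (Fin 315)).filter fun x => (imgList w).contains x.val && orb.contains x.val).card := by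
  rw [meet]
  congr 1
  ext x
  simp only [Finset.mem_inter, mem_orbSet, mem_setOf hv hm, Finset.mem_filter, Finset.mem_univ, true_and,
    Bool.and_eq_true, List.contains_iff_mem]

/-- two words give different sets -/
def differ (a b : List PP) : Bool := !((imgList a).all fun x => (imgList b).contains x)

def listOne : List (List PP) := wordsOne.map fun w => uword w ++ gword moveOne

def listTwo : List (List PP) := wordsTwo.map fun w => uword w ++ gword moveTwo

theorem differ_one : ((List.range 36).all fun i => (List.range i).all fun j =>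
    differ (listOne.getD i []) (listOne.getD j [])) = true := by decide +kernel

theorem differ_two : ((List.range 63).all fun i => (List.range i).all fun j =>
    differ (listTwo.getD i []) (listTwo.getD j [])) = true := by decide +kernel

theorem list_lengths : listOne.length = 36 ∧ listTwo.length = 63 ∧ orb.length = 63 := by decide +kernel

theorem meet_values :
    ((Finset.univ : Finset (Fin 315)).filter fun x => (imgList (gword moveOne)).contains x.val && orb.contains x.val).card = 21 ∧
    ((Finset.univ : Finset (Fin 315)).filter fun x => (imgList (gword moveTwo)).contains x.val && orb.contains x.val).card = 7 ∧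
    ((Finset.univ : Finset (Fin 315)).filter fun x => (imgList []).contains x.val && orb.contains x.val).card = 63 := by
  decide +kernel

theorem orbit_lower {x : List ℕ} (hx : ∀ i ∈ x, i < 4) {ws : List (List ℕ)} (hws : ∀ w ∈ ws, ∀ i ∈ w, i < 2)
    (hd : ((List.range ws.length).all fun i => (List.range i).all fun j =>
      differ ((ws.map fun w => uword w ++ gword x).getD i []) ((ws.map fun w => uword w ++ gword x).getD j [])) = true) :
    ws.length ≤ (orbit sub ((⟨wperm 315 (gword x), (gword_mem hx).2⟩ : lineGroup) : lineGroup ⧸ sub)).ncard := by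
  set c0 : lineGroup ⧸ sub := ((⟨wperm 315 (gword x), (gword_mem hx).2⟩ : lineGroup) : lineGroup ⧸ sub)
  let h : Fin ws.length → sub := fun i =>
    ⟨⟨wperm 315 (uword (ws.get i)), u33_le (uword_mem (hws _ (List.get_mem ws i))).2⟩,
      Subgroup.mem_subgroupOf.2 (uword_mem (hws _ (List.get_mem ws i))).2⟩
  have key : ∀ i, ∀ y : Fin 315, y ∈ setOf (h i • c0) ↔ y.val ∈ imgList (uword (ws.get i) ++ gword x) := by
    intro i y
    have hm : wperm 315 (uword (ws.get i) ++ gword x) ∈ lineGroup := by
      rw [show wperm 315 (uword (ws.get i) ++ gword x) = wperm 315 (uword (ws.get i)) * wperm 315 (gword x) by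
        simp [wperm]]
      exact mul_mem (u33_le (uword_mem (hws _ (List.get_mem ws i))).2) (gword_mem hx).2
    rw [← mem_setOf (fun p hp => (List.mem_append.1 hp).elim ((uword_mem (hws _ (List.get_mem ws i))).1 p)
      ((gword_mem hx).1 p)) hm y]
    have e : h i • c0 = ((⟨_, hm⟩ : lineGroup) : lineGroup ⧸ sub) := by
      show ((_ * _ : lineGroup) : lineGroup ⧸ sub) = _
      congr 1
      apply Subtype.ext
      simp [h, wperm]
    rw [e]
  have hinj : Function.Injective fun i => h i • c0 := by
    intro i j he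
    by_contra hne
    wlog hlt : j < i generalizing i j
    · exact this he.symm (Ne.symm hne) (lt_of_le_of_ne (not_lt.1 hlt) hne)
    have hb := List.all_eq_true.1 (List.all_eq_true.1 hd i.val (List.mem_range.2 i.2)) j.val (List.mem_range.2 hlt)
    simp only [differ, Bool.not_eq_true', List.all_eq_false] at hb
    obtain ⟨v, hv, hnot⟩ := hb
    rw [List.getD_eq_getElem _ _ (by simp), List.getElem_map] at hv hnot
    apply hnot
    rw [List.contains_iff_mem]
    have hv315 : v < 315 := by
      obtain ⟨y, hy, rfl⟩ := List.mem_map.1 hv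
      rw [← wperm_apply (fun p hp => (List.mem_append.1 hp).elim
        ((uword_mem (hws _ (List.getElem_mem i.2))).1 p) ((gword_mem hx).1 p)) ⟨y, orb_lt y hy⟩]
      exact (wperm 315 _ _).2
    have := (key i ⟨v, hv315⟩).2 hv
    rw [show h i • c0 = h j • c0 from he, key] at this
    exact this
  calc ws.length = (Set.range fun i => h i • c0).ncard := by
        rw [Set.ncard_range_of_injective hinj, Nat.card_fin]
    _ ≤ (orbit sub c0).ncard := Set.ncard_le_ncard (by rintro _ ⟨i, rfl⟩; exact ⟨h i, rfl⟩) (Set.toFinite _)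

theorem orbits : ∃ c₁ c₂ : lineGroup ⧸ sub,
    (orbit sub c₁).ncard = 36 ∧ (orbit sub c₂).ncard = 63 := by
  obtain ⟨l1, l2, -⟩ := list_lengths
  rw [listOne, List.length_map] at l1
  rw [listTwo, List.length_map] at l2
  obtain ⟨hg, hu⟩ := gword_valid
  have h1 : ∀ i ∈ moveOne, i < 4 := fun i hi => hg i (List.mem_append_left _ hi)
  have h2 : ∀ i ∈ moveTwo, i < 4 := fun i hi => hg i (List.mem_append_right _ hi)
  set c1 : lineGroup ⧸ sub := ((⟨wperm 315 (gword moveOne), (gword_mem h1).2⟩ : lineGroup) : lineGroup ⧸ sub)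
  set c2 : lineGroup ⧸ sub := ((⟨wperm 315 (gword moveTwo), (gword_mem h2).2⟩ : lineGroup) : lineGroup ⧸ sub)
  set c0 : lineGroup ⧸ sub := ((1 : lineGroup) : lineGroup ⧸ sub)
  refine ⟨c1, c2, ?_⟩
  have a1 : 36 ≤ (orbit sub c1).ncard :=
    l1 ▸ orbit_lower h1 (ws := wordsOne) (fun w hw => hu w (List.mem_append_left _ hw)) (by rw [l1]; exact differ_one)
  have a2 : 63 ≤ (orbit sub c2).ncard :=
    l2 ▸ orbit_lower h2 (ws := wordsTwo) (fun w hw => hu w (List.mem_append_right _ hw)) (by rw [l2]; exact differ_two)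
  have m1 : meet c1 = 21 := (meet_word (gword_mem h1).1 (gword_mem h1).2).trans meet_values.1
  have m2 : meet c2 = 7 := (meet_word (gword_mem h2).1 (gword_mem h2).2).trans meet_values.2.1
  have m0 : meet c0 = 63 := (meet_word (w := []) (by simp) (one_mem _)).trans meet_values.2.2
  have d12 : Disjoint (orbit sub c1) (orbit sub c2) := Set.disjoint_left.2 fun d hd hd' => by
    have := (meet_orbit hd).symm.trans (meet_orbit hd')
    rw [m1, m2] at this; omega
  have d0 : ∀ c, meet c ≠ 63 → c0 ∉ orbit sub c := fun c hc hmem => hc ((meet_orbit hmem).symm.trans m0)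
  have hle : (orbit sub c1 ∪ orbit sub c2).ncard < (Set.univ : Set (lineGroup ⧸ sub)).ncard :=
    Set.ncard_lt_ncard ⟨Set.subset_univ _, fun h =>
      (h (Set.mem_univ c0)).elim (d0 c1 (by omega)) (d0 c2 (by omega))⟩ (Set.toFinite _)
  rw [Set.ncard_union_eq d12 (Set.toFinite _) (Set.toFinite _), Set.ncard_univ, ← Subgroup.index_eq_card,
    index_u33] at hle
  omega

end Cfsg.Lib.J2.Unitary
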