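import Cfsg.Agent.Spor.J2.Cent

/-!
Witness words for element orders.
-/

set_option autoImplicit false

namespace Cfsg.Lib.J2

/-- words of given orders -/
def orderWords : List (ℕ × List ℕ) := [(7, [1, 2, 3]), (8, [0, 2, 3]), (10, [0, 1, 2]), (12, [0, 1, 2, 3, 2, 3]), (15, [0, 1, 2, 3])]

/-- an element of order seven -/
def sevenWord : List ℕ := [1, 2, 3]

/-- an element normalising it -/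
def sixWord : List ℕ := [0, 3, 0, 2, 0, 1, 0, 2, 1, 3, 2, 0]

/-- generators of a Sylow 3-subgroup -/
def threeGens : List (List ℕ) := [[0, 2], [0, 1, 0, 1, 2, 3, 2, 1, 0, 1]]

/-- its 27 elements with the indices of their products with the generators -/
def threeElems : List (List ℕ × List ℕ) := [
  ([], [1, 2]),
  ([0, 2], [3, 4]),
  ([0, 1, 0, 1, 2, 3, 2, 1, 0, 1], [5, 6]),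
  ([0, 2, 0, 2], [0, 7]),
  ([0, 1, 0, 1, 2, 3, 2, 1, 0, 1, 0, 2], [8, 9]),
  ([0, 2, 0, 1, 0, 1, 2, 3, 2, 1, 0, 1], [10, 11]),
  ([0, 1, 0, 1, 2, 3, 2, 1, 0, 1, 0, 1, 0, 1, 2, 3, 2, 1, 0, 1], [12, 0]),
  ([0, 1, 0, 1, 2, 3, 2, 1, 0, 1, 0, 2, 0, 2], [13, 14]),
  ([0, 2, 0, 1, 0, 1, 2, 3, 2, 1, 0, 1, 0, 2], [15, 16]),
  ([0, 1, 0, 1, 2, 3, 2, 1, 0, 1, 0, 1, 0, 1, 2, 3, 2, 1, 0, 1, 0, 2], [17, 1]),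
  ([0, 2, 0, 2, 0, 1, 0, 1, 2, 3, 2, 1, 0, 1], [2, 17]),
  ([0, 1, 0, 1, 2, 3, 2, 1, 0, 1, 0, 2, 0, 1, 0, 1, 2, 3, 2, 1, 0, 1], [14, 18]),
  ([0, 2, 0, 1, 0, 1, 2, 3, 2, 1, 0, 1, 0, 1, 0, 1, 2, 3, 2, 1, 0, 1], [16, 19]),
  ([0, 2, 0, 1, 0, 1, 2, 3, 2, 1, 0, 1, 0, 2, 0, 2], [20, 21]),
  ([0, 1, 0, 1, 2, 3, 2, 1, 0, 1, 0, 1, 0, 1, 2, 3, 2, 1, 0, 1, 0, 2, 0, 2], [22, 3]),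
  ([0, 2, 0, 2, 0, 1, 0, 1, 2, 3, 2, 1, 0, 1, 0, 2], [4, 22]),
  ([0, 1, 0, 1, 2, 3, 2, 1, 0, 1, 0, 2, 0, 1, 0, 1, 2, 3, 2, 1, 0, 1, 0, 2], [6, 23]),
  ([0, 2, 0, 1, 0, 1, 2, 3, 2, 1, 0, 1, 0, 1, 0, 1, 2, 3, 2, 1, 0, 1, 0, 2], [21, 24]),
  ([0, 1, 0, 1, 2, 3, 2, 1, 0, 1, 0, 1, 0, 1, 2, 3, 2, 1, 0, 1, 0, 2, 0, 1, 0, 1, 2, 3, 2, 1, 0, 1], [23, 5]),
  ([0, 1, 0, 1, 2, 3, 2, 1, 0, 1, 0, 2, 0, 1, 0, 1, 2, 3, 2, 1, 0, 1, 0, 1, 0, 1, 2, 3, 2, 1, 0, 1], [24, 20]),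
  ([0, 2, 0, 2, 0, 1, 0, 1, 2, 3, 2, 1, 0, 1, 0, 2, 0, 2], [7, 12]),
  ([0, 1, 0, 1, 2, 3, 2, 1, 0, 1, 0, 2, 0, 1, 0, 1, 2, 3, 2, 1, 0, 1, 0, 2, 0, 2], [9, 25]),
  ([0, 2, 0, 1, 0, 1, 2, 3, 2, 1, 0, 1, 0, 1, 0, 1, 2, 3, 2, 1, 0, 1, 0, 2, 0, 2], [11, 26]),
  ([0, 1, 0, 1, 2, 3, 2, 1, 0, 1, 0, 1, 0, 1, 2, 3, 2, 1, 0, 1, 0, 2, 0, 1, 0, 1, 2, 3, 2, 1, 0, 1, 0, 2], [25, 8]),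
  ([0, 1, 0, 1, 2, 3, 2, 1, 0, 1, 0, 2, 0, 1, 0, 1, 2, 3, 2, 1, 0, 1, 0, 1, 0, 1, 2, 3, 2, 1, 0, 1, 0, 2], [26, 10]),
  ([0, 1, 0, 1, 2, 3, 2, 1, 0, 1, 0, 1, 0, 1, 2, 3, 2, 1, 0, 1, 0, 2, 0, 1, 0, 1, 2, 3, 2, 1, 0, 1, 0, 2, 0, 2], [18, 13]),
  ([0, 1, 0, 1, 2, 3, 2, 1, 0, 1, 0, 2, 0, 1, 0, 1, 2, 3, 2, 1, 0, 1, 0, 1, 0, 1, 2, 3, 2, 1, 0, 1, 0, 2, 0, 2], [19, 15])]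

/-- an involution of the stabiliser not conjugate to the first generator -/
def secondWord : List ℕ := [1, 1, 0, 0, 1]

end Cfsg.Lib.J2
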