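import Cfsg.Agent.Spor.J2.CentJ2
import Cfsg.Agent.Spor.J2.OrdersData
import Cfsg.Agent.LocalThree.HallJankoType.Glue

/-!
The group on the lines satisfies the centraliser hypotheses of Hall–Janko type.
-/

set_option autoImplicit false
set_option linter.style.haveILetI false
set_option maxRecDepth 100000
set_option maxHeartbeats 1000000

noncomputable section

namespace Cfsg.Lib.J2

open Cfsg.Lib.PermCert Cfsg.Lib.HallJankoType
open scoped commutatorElement

theorem wordOf_mem (w : List ℕ) : ∀ c ∈ wordOf w, c ∈ genPP := by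
  intro c hc
  obtain ⟨j, -, rfl⟩ := List.mem_map.1 hc
  by_cases hj : j < genPP.length
  · rw [List.getD_eq_getElem?_getD, List.getElem?_eq_getElem hj]; exact List.getElem_mem _
  · rw [List.getD_eq_getElem?_getD, List.getElem?_eq_none (by omega)]; exact genPP_getD 0 (by norm_num) |> fun h => by
      simp only [Option.getD_none]
      exact (by decide +kernel : genPP.getD 0 (0, 0) ∈ genPP)

theorem wordOf_valid (w : List ℕ) : ∀ c ∈ wordOf w, valid 315 c = true :=
  fun c hc => genPP_valid (wordOf_mem w c hc)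

/-- the element given by a word -/
def el (w : List ℕ) : lineGroup :=
  ⟨wperm 315 (wordOf w), wperm_mem _ fun c hc => Subgroup.subset_closure ⟨c, wordOf_mem w c hc, rfl⟩⟩

/-- the frame images of a word -/
def fr (w : List ℕ) : List ℕ := frame.map fun x => evalWord (wordOf w) x

theorem el_eq_iff (a b : List ℕ) : el a = el b ↔ fr a = fr b := by
  constructor
  · intro h
    refine List.map_congr_left fun x hx => ?_
    have hx' : x < 315 := by revert hx x; decide
    rw [← wperm_apply (wordOf_valid a) ⟨x, hx'⟩, ← wperm_apply (wordOf_valid b) ⟨x, hx'⟩]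
    exact congrArg (fun g : lineGroup => (((g : Equiv.Perm (Fin 315)) ⟨x, hx'⟩ : Fin 315) : ℕ)) h
  · intro h
    refine inv_mul_eq_one.1 (Subtype.ext (frameFaithful _ ((el a)⁻¹ * el b : lineGroup).2 fun x hx => ?_))
    have h' := List.map_inj_left.1 h (x : ℕ) hx
    rw [← wperm_apply (wordOf_valid a) x, ← wperm_apply (wordOf_valid b) x] at h'
    show ((el a : Equiv.Perm (Fin 315))⁻¹ * (el b : Equiv.Perm (Fin 315))) x = x
    rw [Equiv.Perm.mul_apply]
    exact (Equiv.Perm.inv_eq_iff_eq).2 (Fin.ext h').symm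

theorem el_append (a b : List ℕ) : el (a ++ b) = el a * el b :=
  Subtype.ext (by simp [el, wordOf, wperm_append])

theorem el_nil : el [] = 1 := Subtype.ext (by simp [el, wordOf])

/-- repeated word -/
def rep (n : ℕ) (w : List ℕ) : List ℕ := (List.replicate n w).flatten

theorem el_rep (n : ℕ) (w : List ℕ) : el (rep n w) = el w ^ n := by
  induction n with
  | zero => simp [rep, el_nil]
  | succ n ih =>
    rw [pow_succ', ← ih, ← el_append]
    simp [rep, List.replicate_succ]

/-- the distinguished involution -/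
def zG : lineGroup := el [0]

theorem zG_coe : (zG : Equiv.Perm (Fin 315)) = zLine := by
  show wperm 315 (wordOf [0]) = _
  simp [wordOf, zLine, show genPP[0]?.getD (genPP[0]?.getD (0, 0)) = g0_0 from by decide +kernel]

theorem zG_order : orderOf zG = 2 := by
  refine orderOf_eq_prime ?_ ?_
  · rw [← el_nil, zG, ← el_rep, el_eq_iff]; decide +kernel
  · rw [← el_nil, zG, Ne, el_eq_iff]; decide +kernel

theorem mem_Cz_zG {x : lineGroup} : x ∈ Cz zG ↔ (x : Equiv.Perm (Fin 315)) ∈ stab0 := by
  rw [← centralizer_zLine frameFaithful x.2, mem_Cz, ← zG_coe]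
  exact ⟨fun h => congrArg Subtype.val h.eq, fun h => Subtype.ext h⟩

/-- restriction to the stabiliser -/
def toStab : Cz zG →* stab0 where
  toFun x := ⟨_, mem_Cz_zG.1 x.2⟩
  map_one' := rfl
  map_mul' _ _ := rfl

theorem toStab_surj : Function.Surjective toStab := fun y =>
  ⟨⟨⟨y, stab0_le y.2⟩, mem_Cz_zG.2 y.2⟩, rfl⟩

theorem toStab_inj : Function.Injective toStab := fun a b h =>
  Subtype.ext (Subtype.ext (congrArg Subtype.val h :))

theorem witness_cen : ∃ s ∈ own1, ∃ i ∈ List.range 32,
    frameId [pinv (qEl i).1, pinv s, (qEl i).1, s] = false ∧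
      frameId [g0_0, pinv (qEl i).1, pinv s, (qEl i).1, s] = false := by decide +kernel

theorem witness_nwc : ∃ e ∈ (tr0.drop 58).take 1, ∃ i ∈ List.range 32,
    frameId [pinv (qEl i).1, e.2.1, g0_0, pinv e.2.1] = true ∧ frameId [g0_0, (qEl i).1] = false := by
  decide +kernel

/-- the second involution, as a permutation word -/
def yWord : List PP := word1 secondWord

theorem witness_second : (∀ i ∈ secondWord, i < own1.length) ∧ frameId (yWord ++ yWord) = true ∧
    frameId yWord = false ∧ ∀ e ∈ tr0, frameId (e.2.1 :: g0_0 :: pinv e.2.1 :: yWord) = false := by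
  decide +kernel

theorem exists_hypG : ∃ (Q : Subgroup lineGroup) (a : Fin 5 → lineGroup)
    (σ : Cz zG →* Equiv.Perm (Fin 5)), Hyp zG Q a σ := by
  have hF := frameFaithful
  obtain ⟨hzs, hzk, hex, hk, hr⟩ := centralizer_data hF
  let φ₀ : Cz zG →* Equiv.Perm (Fin 5) := pairHom.comp toStab
  have hφmem : ∀ c, φ₀ c ∈ alternatingGroup (Fin 5) := fun c => hr ▸ ⟨toStab c, rfl⟩
  let φ : Cz zG →* alternatingGroup (Fin 5) := φ₀.codRestrict _ hφmem
  have hφs : Function.Surjective φ := by
    intro π
    obtain ⟨v, hv⟩ : (π : Equiv.Perm (Fin 5)) ∈ pairHom.range := hr.ge π.2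
    obtain ⟨c, rfl⟩ := toStab_surj v
    exact ⟨c, Subtype.ext hv⟩
  set Q := φ.ker with hQ
  have hQmem : ∀ c, c ∈ Q ↔ toStab c ∈ pairHom.ker := fun c => by
    rw [hQ, MonoidHom.mem_ker, MonoidHom.mem_ker, Subtype.ext_iff]; rfl
  let eQ : Q ≃* pairHom.ker := MulEquiv.ofBijective
    (show Q →* pairHom.ker from
    { toFun := fun x => ⟨toStab x.1, (hQmem _).1 x.2⟩
      map_one' := rfl
      map_mul' := fun _ _ => rfl })
    ⟨fun a b h => Subtype.ext (toStab_inj (congrArg Subtype.val h :)), fun y => by
      obtain ⟨c, hc⟩ := toStab_surj y.1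
      exact ⟨⟨c, (hQmem _).2 (hc ▸ y.2)⟩, Subtype.ext hc⟩⟩
  have hQex : Cfsg.IsExtraspecial 2 Q := extraspecial_congr eQ.symm hex
  have hQc : Nat.card Q = 2 ^ 5 := by rw [Nat.card_congr eQ.toEquiv, hk]; norm_num
  have hv : ∀ i, i < 32 → valid 315 (qEl i).1 = true := fun i hi => (qElems_ok.2.2 i (List.mem_range.2 hi)).1
  have hqQ : ∀ i : Fin 32, ∃ c ∈ Q, ((c : lineGroup) : Equiv.Perm (Fin 315)) = perm 315 (qEl i).1 := fun i => by
    obtain ⟨c, hc⟩ := toStab_surj (qS i)
    exact ⟨c, (hQmem _).2 (hc ▸ qS_ker i), congrArg Subtype.val hc⟩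
  have hcen : Subgroup.centralizer (Q : Set (Cz zG)) ≤ Q := by
    haveI := alternatingGroup.isSimpleGroup_five
    set N := Subgroup.centralizer (Q : Set (Cz zG))
    rcases (Subgroup.Normal.map (inferInstance : N.Normal) φ hφs).eq_bot_or_eq_top with h | h
    · intro c hc
      have : φ c ∈ N.map φ := ⟨c, hc, rfl⟩
      rw [h, Subgroup.mem_bot] at this
      exact this
    · exfalso
      obtain ⟨s, hs, i, hi, w1, w2⟩ := witness_cen
      have hi' := List.mem_range.1 hi
      have hsv := (own1_fix s hs).1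
      have hsm : perm 315 s ∈ stab0 := Subgroup.subset_closure ⟨s, hs, rfl⟩
      obtain ⟨v, hvv⟩ := toStab_surj ⟨_, hsm⟩
      obtain ⟨q, hq, hqv⟩ := hqQ ⟨i, hi'⟩
      obtain ⟨n, hn, hne⟩ : φ v ∈ N.map φ := h ▸ Subgroup.mem_top _
      have hk' : v * n⁻¹ ∈ Q := by rw [hQ, MonoidHom.mem_ker, map_mul, map_inv, hne, mul_inv_cancel]
      obtain ⟨z₀, hx, -⟩ := Cfsg.Lib.LargeExtra.exists_x2 hQex
      have hzc : (⟨zG, mem_Cz.2 (Commute.refl _)⟩ : Cz zG) = z₀ := by
        refine (hx.cen _ ?_ fun a _ => Subtype.ext (mem_Cz.1 a.2)).resolve_left fun h1 => ?_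
        · rw [hQmem]
          have : toStab ⟨zG, mem_Cz.2 (Commute.refl _)⟩ = ⟨zLine, hzs⟩ := Subtype.ext zG_coe
          rw [this]; exact hzk
        · have h2 : zG = 1 := congrArg Subtype.val h1
          have := zG_order
          rw [h2, orderOf_one] at this
          norm_num at this
      have hnq : n * q = q * n := ((Subgroup.mem_centralizer_iff.1 hn) q hq).symm
      have hcomm := hx.comm _ hk' q hq
      have hsplit : v * q * v⁻¹ * q⁻¹ = ⁅v * n⁻¹, q⁆ := by
        rw [commutatorElement_def, mul_inv_rev, inv_inv]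
        have : n⁻¹ * q * n = q := by rw [mul_assoc, ← hnq, inv_mul_cancel_left]
        calc v * q * v⁻¹ * q⁻¹ = v * (n⁻¹ * q * n) * v⁻¹ * q⁻¹ := by rw [this]
          _ = _ := by group
      rw [← hsplit, ← hzc] at hcomm
      have hval : (((v * q * v⁻¹ * q⁻¹ : Cz zG) : lineGroup) : Equiv.Perm (Fin 315)) =
          perm 315 s * perm 315 (qEl i).1 * (perm 315 s)⁻¹ * (perm 315 (qEl i).1)⁻¹ := by
        have e1 : ((v : lineGroup) : Equiv.Perm (Fin 315)) = perm 315 s := congrArg Subtype.val hvv
        simp [e1, hqv]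
      have hmem : wperm 315 [pinv (qEl i).1, pinv s, (qEl i).1, s] ∈ lineGroup := by
        simp only [wperm_cons, wperm_nil, mul_one, perm_pinv (hv i hi'), perm_pinv hsv]
        exact mul_mem (inv_mem (stab0_le (qEl_mem i hi'))) (mul_mem (inv_mem (stab0_le hsm))
          (mul_mem (stab0_le (qEl_mem i hi')) (stab0_le hsm)))
      have hvl : ∀ c ∈ [pinv (qEl i).1, pinv s, (qEl i).1, s], valid 315 c = true := by
        simp [valid_pinv (hv i hi'), valid_pinv hsv, hv i hi', hsv]
      have key : wperm 315 [pinv (qEl i).1, pinv s, (qEl i).1, s] = 1 ∨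
          wperm 315 [g0_0, pinv (qEl i).1, pinv s, (qEl i).1, s] = 1 := by
        simp only [wperm_cons, wperm_nil, mul_one, perm_pinv (hv i hi'), perm_pinv hsv]
        set A := perm 315 s
        set B := perm 315 (qEl i).1
        rcases hcomm with h1 | h1
        · left
          have h2 := congrArg (fun x : Cz zG => ((x : lineGroup) : Equiv.Perm (Fin 315))) h1
          rw [hval] at h2
          have h3 : A * B * A⁻¹ * B⁻¹ = 1 := h2
          have h4 : A * B = B * A := by
            rw [mul_inv_eq_one, mul_inv_eq_iff_eq_mul] at h3; exact h3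
          rw [← h4, inv_mul_cancel_left, inv_mul_cancel]
          <;> simp
        · right
          have h2 := congrArg (fun x : Cz zG => ((x : lineGroup) : Equiv.Perm (Fin 315))) h1
          rw [hval] at h2
          have h3 : A * B * A⁻¹ * B⁻¹ = zLine := h2.trans zG_coe
          have hz2 : zLine * zLine = 1 := by
            have h0 := pow_orderOf_eq_one zG
            rw [zG_order, pow_two] at h0
            simpa [← zG_coe] using congrArg Subtype.val h0
          have hAz : Commute A zLine := stab0_comm hsm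
          have hBz : Commute B zLine := stab0_comm (qEl_mem i hi')
          have h4 : A * B = zLine * (B * A) := by
            rw [mul_inv_eq_iff_eq_mul, mul_inv_eq_iff_eq_mul] at h3; rw [h3, mul_assoc]
          show perm 315 g0_0 * (B⁻¹ * (A⁻¹ * (B * A))) = 1
          rw [show perm 315 g0_0 = zLine from rfl]
          have h5 : B * A = zLine * (A * B) := by rw [h4, ← mul_assoc zLine, hz2, one_mul]
          rw [h5, ← mul_assoc A⁻¹, hAz.inv_left.eq, mul_assoc zLine, inv_mul_cancel_left,
            ← mul_assoc B⁻¹, hBz.inv_left.eq, mul_assoc zLine, inv_mul_cancel, mul_one, hz2]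
      rcases key with k1 | k1
      · rw [(frame_eq_one hF hvl hmem).2 k1] at w1; exact Bool.noConfusion w1
      · rw [(frame_eq_one hF (w := g0_0 :: _) (by
            intro c hc
            rcases List.mem_cons.1 hc with rfl | hc
            exacts [g00_valid.1, hvl c hc]) (by rw [wperm_cons]; exact mul_mem zLine_mem hmem)).2 k1] at w2
        exact Bool.noConfusion w2
  obtain ⟨a, σ, D⟩ := exists_data_of_cen zG_order Q hcen hQex hQc φ hφs hQ.symm
  refine ⟨_, a, σ, D, ?_, ?_⟩
  · -- a conjugate in the normal subgroup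
    obtain ⟨e, he, i, hi, w1, w2⟩ := witness_nwc
    have hi' := List.mem_range.1 hi
    obtain ⟨hev, hem⟩ := tr_valid _ (List.mem_cons_self ..) e (List.mem_of_mem_drop (List.mem_of_mem_take he))
    obtain ⟨c, hc, hcv⟩ := hqQ ⟨i, hi'⟩
    have h1 := (frame_eq_one hF (w := [pinv (qEl i).1, e.2.1, g0_0, pinv e.2.1])
      (by simp [valid_pinv (hv i hi'), hev, g00_valid.1, valid_pinv hev]) (by
      simp only [wperm_cons, wperm_nil, mul_one, perm_pinv (hv i hi'), perm_pinv hev]
      exact mul_mem (inv_mem (stab0_le (qEl_mem i hi'))) (mul_mem hem (mul_mem zLine_mem (inv_mem hem))))).1 w1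
    simp only [wperm_cons, wperm_nil, mul_one, perm_pinv (hv i hi'), perm_pinv hev, inv_mul_eq_one] at h1
    have heq : (⟨_, hem⟩ : lineGroup) * zG * (⟨_, hem⟩ : lineGroup)⁻¹ = (c : lineGroup) := by
      refine Subtype.ext ?_
      rw [hcv, h1]
      simp [zG_coe, mul_assoc]
      rfl
    refine ⟨⟨_, hem⟩, ⟨c, hc, heq.symm⟩, fun hz => ?_⟩
    rw [heq] at hz
    have h2 : perm 315 (qEl i).1 = zLine := hcv.symm.trans ((congrArg Subtype.val hz).trans zG_coe)
    have hz2 : zLine * zLine = 1 := by
      have h0 := pow_orderOf_eq_one zG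
      rw [zG_order, pow_two] at h0
      simpa [← zG_coe] using congrArg Subtype.val h0
    rw [(frame_eq_one hF (w := [g0_0, (qEl i).1]) (by simp [g00_valid.1, hv i hi']) (by
      simp only [wperm_cons, wperm_nil, mul_one]
      exact mul_mem zLine_mem (stab0_le (qEl_mem i hi')))).2 (by
        simp only [wperm_cons, wperm_nil, mul_one, h2]; exact hz2)] at w2
    exact Bool.noConfusion w2
  · -- two classes of involutions
    obtain ⟨hlt, y2, y1, hy⟩ := witness_second
    have hyv : ∀ c ∈ yWord, valid 315 c = true := fun c hc => (own1_fix c (word1_mem hlt c hc)).1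
    have hym : wperm 315 yWord ∈ lineGroup :=
      stab0_le (wperm_mem' _ _ fun c hc => Subgroup.subset_closure ⟨c, word1_mem hlt c hc, rfl⟩)
    refine ⟨zG, ⟨_, hym⟩, zG_order, orderOf_eq_prime ?_ ?_, ?_⟩
    · refine Subtype.ext ?_
      have := (frame_eq_one hF (w := yWord ++ yWord) (by simpa using hyv) (by
        rw [wperm_append]; exact mul_mem hym hym)).1 y2
      rw [wperm_append] at this
      rw [pow_two]
      exact this
    · intro h
      rw [(frame_eq_one hF hyv hym).2 (congrArg Subtype.val h)] at y1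
      exact Bool.noConfusion y1
    · intro hc
      obtain ⟨g, hg⟩ := isConj_iff.1 hc
      obtain ⟨e, he, v, hvs, hge⟩ := lineGroup_tset hF g g.2
      obtain ⟨hev, hem⟩ := tr_valid _ (List.mem_cons_self ..) e he
      have hy' := congrArg Subtype.val hg
      simp only [Subgroup.coe_mul, Subgroup.coe_inv, zG_coe, hge, mul_inv_rev] at hy'
      rw [mul_assoc (perm 315 e.2.1) v, (stab0_comm hvs).eq] at hy'
      have hye := hy e he
      rw [(frame_eq_one hF (w := e.2.1 :: g0_0 :: pinv e.2.1 :: yWord) (by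
        intro c hc
        simp only [List.mem_cons] at hc
        rcases hc with rfl | rfl | rfl | hc
        exacts [hev, g00_valid.1, valid_pinv hev, hyv c hc]) (by
        simp only [wperm_cons, perm_pinv hev]
        exact mul_mem hem (mul_mem zLine_mem (mul_mem (inv_mem hem) hym)))).2 (by
        simp only [wperm_cons, perm_pinv hev]
        have hyy := (frame_eq_one hF (w := yWord ++ yWord) (by simpa using hyv) (by
          rw [wperm_append]; exact mul_mem hym hym)).1 y2
        rw [wperm_append] at hyy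
        have e2 : wperm 315 yWord = perm 315 e.2.1 * zLine * (perm 315 e.2.1)⁻¹ := by
          rw [← hy']; group
        rw [show perm 315 g0_0 = zLine from rfl, ← mul_assoc zLine, ← mul_assoc (perm 315 e.2.1),
          ← mul_assoc (perm 315 e.2.1), ← e2, hyy])] at hye
      exact Bool.noConfusion hye

end Cfsg.Lib.J2

end
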