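import Cfsg.Agent.Spor.J2.Cent
import Cfsg.Agent.Spor.J2.OutData

/-!
Checks for the automorphisms of the group on the 315 lines.
-/

set_option autoImplicit false
set_option maxRecDepth 100000
set_option maxHeartbeats 4000000
set_option Elab.async false

namespace Cfsg.Lib.J2

open Cfsg.Lib.PermCert

/-- the transversal element sending the first line to a given one -/
def te (x : ℕ) : PP := (tr0.getD (trPos.getD x 0) (0, (0, 0), 0, 0)).2.1

/-- the order of the product of the involutions of two lines -/
def colN (x y : ℕ) : ℕ := colTab.getD (ap (te x).2 y) 0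

/-- the word of a power of the product of the distinguished involution with another one -/
def colWord (r : ℕ) : ℕ → List PP
  | 0 => []
  | d + 1 => g0_0 :: te r :: g0_0 :: pinv (te r) :: colWord r d

theorem trPos_ok : trPos.length = 315 ∧ ∀ x ∈ List.range 315, trPos.getD x 0 < tr0.length ∧
    (tr0.getD (trPos.getD x 0) (0, (0, 0), 0, 0)).1 = x := by decide +kernel

theorem colReps_ok : ∀ p ∈ colReps, p.1 < 315 ∧ 0 < p.2 ∧ frameId (colWord p.1 p.2) = true ∧
    ∀ d ∈ List.range p.2, d = 0 ∨ frameId (colWord p.1 d) = false := by decide +kernel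

theorem colTree_ok : ∀ i ∈ List.range 315,
    (colTree.getD i (0, 0, 0)).1 < 315 ∧
    (((colTree.getD i (0, 0, 0)).2.1 = 2 ∧
        ((colTree.getD i (0, 0, 0)).1, colTab.getD (colTree.getD i (0, 0, 0)).1 0) ∈ colReps) ∨
      ((colTree.getD i (0, 0, 0)).2.2 < i ∧ (colTree.getD i (0, 0, 0)).2.1 < 2 ∧
        ap (own1.getD (colTree.getD i (0, 0, 0)).2.1 (0, 0)).1 (colTree.getD (colTree.getD i (0, 0, 0)).2.2 (0, 0, 0)).1 =
          (colTree.getD i (0, 0, 0)).1 ∧
        colTab.getD (colTree.getD (colTree.getD i (0, 0, 0)).2.2 (0, 0, 0)).1 0 =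
          colTab.getD (colTree.getD i (0, 0, 0)).1 0)) := by decide +kernel

theorem colPos_ok : ∀ w ∈ List.range 315, colPos.getD w 0 < 315 ∧ (colTree.getD (colPos.getD w 0) (0, 0, 0)).1 = w := by
  decide +kernel

theorem own1_moves : ∀ x ∈ List.range 315, x = 0 ∨ ∃ s ∈ own1, ap s.1 x ≠ x := by decide +kernel

/-- the product of two transversal elements from below the first level -/
def stabWord (p : ℕ × ℕ) : List PP :=
  [(tr1.getD p.1 (0, (0, 0), 0, 0)).2.1, (tr2.getD p.2 (0, (0, 0), 0, 0)).2.1]

/-- transitivity certificate at one level -/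
def witCheck (k : ℕ) (wit : List (ℕ × ℕ × ℕ)) : Bool :=
  (wit.all fun w => decide (w.2.1 < tr1.length) && decide (w.2.2 < tr2.length) &&
    ((List.range k).all fun j => evalWord (stabWord w.2) (autBase.getD j 0) == autBase.getD j 0) &&
    (evalWord (stabWord w.2) (autBase.getD k 0) == w.1)) &&
  (List.range 315).all fun y =>
    !((List.range k).all fun j => colN (autBase.getD j 0) y == colN (autBase.getD j 0) (autBase.getD k 0)) ||
      wit.any fun w => w.1 == y

theorem wit1_ok : witCheck 1 autWit1 = true := by decide +kernel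

theorem wit2_ok : witCheck 2 autWit2 = true := by decide +kernel

theorem wit3_ok : witCheck 3 autWit3 = true := by decide +kernel

/-- the candidate tuples after a number of steps -/
def solsAt : ℕ → List (List ℕ)
  | 0 => [autBase.take 4]
  | i + 1 => autSols.getD i []

/-- one step of the search -/
def solCheck (i : ℕ) : Bool :=
  (solsAt i).all fun t => (List.range 315).all fun y =>
    !((List.range (4 + i)).all fun j =>
      colN (t.getD j 0) y == colN (autBase.getD j 0) (autBase.getD (4 + i) 0)) ||
      (solsAt (i + 1)).any fun t' => t' == t ++ [y]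

theorem sol0_ok : solCheck 0 = true := by decide +kernel

theorem sol1_ok : solCheck 1 = true := by decide +kernel

theorem sol2_ok : solCheck 2 = true := by decide +kernel

theorem sol3_ok : solCheck 3 = true := by decide +kernel

theorem sol4_ok : solCheck 4 = true := by decide +kernel

theorem autBase_ok : autBase.length = 9 ∧ autBase.getD 0 0 = 0 ∧ (∀ b ∈ autBase, b < 315) ∧
    solsAt 5 = [autBase, autBase.map (ap tauPP.1)] := by decide +kernel

/-- the colour vector -/
def keyOf (y : ℕ) : ℕ := autBase.foldl (fun acc b => acc * 8 + colN b y) 0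

theorem key_sorted : ∀ i ∈ List.range 314, keyOf (keyOrd.getD i 0) < keyOf (keyOrd.getD (i + 1) 0) := by
  decide +kernel

theorem keyPos_ok : ∀ y ∈ List.range 315, keyPos.getD y 0 < 315 ∧ keyOrd.getD (keyPos.getD y 0) 0 = y := by
  decide +kernel

theorem tau_ok : valid 315 tauPP = true ∧ ap tauPP.1 0 = 0 := by decide +kernel

/-- the word expressing a conjugate of a generator -/
def tauWord (i : ℕ) : List PP :=
  [pinv (tr2.getD (tauWit.getD i (0, 0, 0)).2.2 (0, (0, 0), 0, 0)).2.1,
    pinv (tr1.getD (tauWit.getD i (0, 0, 0)).2.1 (0, (0, 0), 0, 0)).2.1,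
    pinv (tr0.getD (tauWit.getD i (0, 0, 0)).1 (0, (0, 0), 0, 0)).2.1,
    tauPP, genPP.getD i (0, 0), pinv tauPP]

theorem tau_gens : ∀ i ∈ List.range 4, (tauWit.getD i (0, 0, 0)).1 < tr0.length ∧
    (tauWit.getD i (0, 0, 0)).2.1 < tr1.length ∧ (tauWit.getD i (0, 0, 0)).2.2 < tr2.length ∧
    isId 315 (tauWord i) = true := by decide +kernel

theorem genPP_length : genPP.length = 4 := by decide +kernel

theorem tau_odd : ∀ π : Equiv.Perm (Fin 5), (∀ k : Fin 5, ((π k : Fin 5) : ℕ) = blkOf (ap tauPP.1 (pairRep k))) →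
    Equiv.Perm.sign π ≠ 1 := by decide +kernel

end Cfsg.Lib.J2
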