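import Cfsg.Agent.Spor.J2.OrdersSetup
import Cfsg.Agent.Spor.J2.OutChecks
import Cfsg.Agent.LocalThree.HallJankoType.SevenLocal

/-!
The outer automorphism group of `J₂`.
-/

set_option autoImplicit false
set_option linter.style.haveILetI false
set_option maxRecDepth 100000
set_option maxHeartbeats 1000000

noncomputable section

namespace Cfsg.Lib.J2

open Cfsg.Lib.PermCert Cfsg.Lib.HallJankoType

theorem getD_mem {α : Type*} {l : List α} {i : ℕ} (d : α) (h : i < l.length) : l.getD i d ∈ l := by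
  rw [List.getD_eq_getElem?_getD, List.getElem?_eq_getElem h]; exact List.getElem_mem _

/-- the first line -/
def pt0 : Fin 315 := ⟨0, by norm_num⟩

theorem te_spec {x : ℕ} (hx : x < 315) :
    valid 315 (te x) = true ∧ perm 315 (te x) ∈ lineGroup ∧ ap (te x).1 0 = x := by
  obtain ⟨hi, he⟩ := trPos_ok.2 x (List.mem_range.2 hx)
  have hmem : tr0.getD (trPos.getD x 0) (0, (0, 0), 0, 0) ∈ tr0 := by
    rw [List.getD_eq_getElem?_getD, List.getElem?_eq_getElem hi]; exact List.getElem_mem _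
  obtain ⟨h1, h2⟩ := tr_valid _ (List.mem_cons_self ..) _ hmem
  refine ⟨h1, h2, ?_⟩
  have h3 := (tree_entry (L := ⟨lev0.b, own0, tr0⟩) tree0_ok hmem).2
  exact h3.trans he

/-- a group element sending the first line to a given one -/
def T (x : Fin 315) : lineGroup := ⟨perm 315 (te x), (te_spec x.2).2.1⟩

theorem T_pt0 (x : Fin 315) : (T x : Equiv.Perm (Fin 315)) pt0 = x :=
  Fin.ext ((perm_apply (te_spec x.2).1 pt0).trans (te_spec x.2).2.2)

theorem stab0_fix0 {v : Equiv.Perm (Fin 315)} (hv : v ∈ stab0) : v pt0 = pt0 := by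
  have : stab0 ≤ MulAction.stabilizer (Equiv.Perm (Fin 315)) pt0 := by
    refine (Subgroup.closure_le _).2 ?_
    rintro g ⟨s, hs, rfl⟩
    exact Fin.ext ((perm_apply (own1_fix s hs).1 pt0).trans (own1_fix s hs).2)
  exact this hv

theorem mem_stab0_of_fix {g : Equiv.Perm (Fin 315)} (hg : g ∈ lineGroup) (h : g pt0 = pt0) : g ∈ stab0 := by
  obtain ⟨e, he, v, hv, rfl⟩ := lineGroup_tset frameFaithful g hg
  obtain ⟨hev, -⟩ := tr_valid _ (List.mem_cons_self ..) e he
  have h1 : ap e.2.1.1 0 = e.1 := (tree_entry (L := ⟨lev0.b, own0, tr0⟩) tree0_ok he).2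
  have he0 : e.1 = 0 := by
    rw [Equiv.Perm.mul_apply, stab0_fix0 hv] at h
    rw [← h1]
    exact (perm_apply hev pt0).symm.trans (congrArg Fin.val h)
  have hi := (trPos_ok.2 0 (List.mem_range.2 (by norm_num)))
  have h0 := List.all_eq_true.mp tree0_ok 0 (List.mem_range.mpr (by rw [levels_misc.2.2.2.1]; norm_num))
  have hpos : 0 < tr0.length := by rw [levels_misc.2.2.2.1]; norm_num
  rw [show (⟨lev0.b, own0, tr0⟩ : Level).tr = tr0 from rfl, List.getElem?_eq_getElem hpos] at h0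
  simp only [Bool.and_eq_true, beq_iff_eq, if_pos] at h0
  have heq : e = tr0[0] := List.inj_on_of_nodup_map levels_misc.1 he (List.getElem_mem _)
    (he0.trans (h0.2.1.trans lev_misc.1).symm)
  have hone := isId_sound (n := 315) (w := [(tr0[0]'hpos).2.1]) (by simpa using h0.1.1) h0.2.2
  simp only [wperm_cons, wperm_nil, mul_one] at hone
  rw [heq, hone, one_mul]
  exact hv

theorem fix0_iff {g : lineGroup} : (g : Equiv.Perm (Fin 315)) pt0 = pt0 ↔ g ∈ Cz zG :=
  ⟨fun h => mem_Cz_zG.2 (mem_stab0_of_fix g.2 h), fun h => stab0_fix0 (mem_Cz_zG.1 h)⟩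

/-- the involution of a line -/
def zP (x : Fin 315) : lineGroup := T x * zG * (T x)⁻¹

theorem zP_conj (g : lineGroup) (x : Fin 315) : g * zP x * g⁻¹ = zP ((g : Equiv.Perm (Fin 315)) x) := by
  set y := (g : Equiv.Perm (Fin 315)) x with hy
  set h := (T y)⁻¹ * g * T x with hh
  have hh0 : (h : Equiv.Perm (Fin 315)) pt0 = pt0 := by
    show ((T y : Equiv.Perm (Fin 315))⁻¹ * (g : Equiv.Perm (Fin 315)) * (T x : Equiv.Perm (Fin 315))) pt0 = pt0
    rw [Equiv.Perm.mul_apply, Equiv.Perm.mul_apply, T_pt0, Equiv.Perm.inv_eq_iff_eq, T_pt0]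
  have hc : Commute h zG := mem_Cz.1 (fix0_iff.1 hh0)
  calc g * zP x * g⁻¹ = T y * (h * zG * h⁻¹) * (T y)⁻¹ := by rw [zP, hh]; group
    _ = _ := by rw [hc.eq, mul_inv_cancel_right, zP]

theorem zP_pt0 : zP pt0 = zG := by
  rw [zP, (mem_Cz.1 (fix0_iff.1 (T_pt0 pt0))).eq, mul_inv_cancel_right]

theorem zP_inj : Function.Injective zP := by
  intro x y h
  have hc : (T y)⁻¹ * T x ∈ Cz zG := mem_Cz.2 (mul_inv_eq_iff_eq_mul.1 (by
    calc (T y)⁻¹ * T x * zG * ((T y)⁻¹ * T x)⁻¹ = (T y)⁻¹ * zP x * T y := by rw [zP]; group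
      _ = zG := by rw [h, zP]; group))
  have := fix0_iff.2 hc
  have h2 : ((T y : Equiv.Perm (Fin 315))⁻¹ * (T x : Equiv.Perm (Fin 315))) pt0 = pt0 := this
  rw [Equiv.Perm.mul_apply, T_pt0, Equiv.Perm.inv_eq_iff_eq, T_pt0] at h2
  exact h2

/-- the invariant of two lines -/
def col (x y : Fin 315) : ℕ := orderOf (zP x * zP y)

theorem col_smul (g : lineGroup) (x y : Fin 315) :
    col ((g : Equiv.Perm (Fin 315)) x) ((g : Equiv.Perm (Fin 315)) y) = col x y := by
  rw [col, col, ← zP_conj, ← zP_conj, show g * zP x * g⁻¹ * (g * zP y * g⁻¹) = g * (zP x * zP y) * g⁻¹ by group]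
  exact MulEquiv.orderOf_eq (MulAut.conj g) _

theorem colWord_valid {r : ℕ} (hr : r < 315) : ∀ d, ∀ c ∈ colWord r d, valid 315 c = true
  | 0 => by simp [colWord]
  | d + 1 => by
    intro c hc
    simp only [colWord, List.mem_cons] at hc
    rcases hc with rfl | rfl | rfl | rfl | hc
    exacts [g00_valid.1, (te_spec hr).1, g00_valid.1, valid_pinv (te_spec hr).1, colWord_valid hr d c hc]

theorem colWord_eq (r : Fin 315) : ∀ d, wperm 315 (colWord r d) = (((zG * zP r) ^ d : lineGroup) : Equiv.Perm (Fin 315))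
  | 0 => by simp [colWord]
  | d + 1 => by
    simp only [colWord, wperm_cons, colWord_eq r d, perm_pinv (te_spec r.2).1, pow_succ']
    have hz : perm 315 g0_0 = (zG : Equiv.Perm (Fin 315)) := zG_coe.symm
    simp only [zP, T, Subgroup.coe_mul, Subgroup.coe_inv, hz, mul_assoc]

theorem frame_pow_iff (r : Fin 315) (d : ℕ) : frameId (colWord r d) = true ↔ (zG * zP r) ^ d = 1 := by
  rw [frame_eq_one frameFaithful (colWord_valid r.2 d) (by rw [colWord_eq]; exact SetLike.coe_mem _), colWord_eq,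
    OneMemClass.coe_eq_one]

theorem col_rep {p : ℕ × ℕ} (hp : p ∈ colReps) (hr : p.1 < 315) : col pt0 ⟨p.1, hr⟩ = p.2 := by
  obtain ⟨-, hpos, h1, h2⟩ := colReps_ok p hp
  rw [col, zP_pt0]
  refine orderOf_eq_iff hpos |>.2 ⟨(frame_pow_iff ⟨p.1, hr⟩ _).1 h1, fun m hm hm0 he => ?_⟩
  rcases h2 m (List.mem_range.2 hm) with h | h
  · omega
  · rw [(frame_pow_iff ⟨p.1, hr⟩ m).2 he] at h
    exact Bool.noConfusion h

theorem col_pt0 (w : Fin 315) : col pt0 w = colTab.getD w 0 := by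
  obtain ⟨hp, hw⟩ := colPos_ok w (List.mem_range.2 w.2)
  have key : ∀ i, i < 315 → ∀ v : Fin 315, (colTree.getD i (0, 0, 0)).1 = v → col pt0 v = colTab.getD v 0 := by
    intro i
    induction i using Nat.strong_induction_on with
    | _ i ih =>
      intro hi v hv
      obtain ⟨hlt, ⟨-, hrep⟩ | ⟨hpar, hg, hap, hcol⟩⟩ := colTree_ok i (List.mem_range.2 hi)
      · have := col_rep hrep hlt
        rwa [show (⟨_, hlt⟩ : Fin 315) = v from Fin.ext hv, show (colTree.getD i (0, 0, 0)).1 = (v : ℕ) from hv] at this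
      · obtain ⟨hplt, -⟩ := colTree_ok _ (List.mem_range.2 (hpar.trans hi))
        set s := own1.getD (colTree.getD i (0, 0, 0)).2.1 (0, 0)
        have hs : s ∈ own1 := by
          have h2 : (colTree.getD i (0, 0, 0)).2.1 < own1.length := by
            rw [show own1.length = 2 from rfl]; exact hg
          exact getD_mem _ h2
        have hsm : perm 315 s ∈ stab0 := Subgroup.subset_closure ⟨s, hs, rfl⟩
        let u : lineGroup := ⟨perm 315 s, stab0_le hsm⟩
        set v' : Fin 315 := ⟨_, hplt⟩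
        have hsv : (u : Equiv.Perm (Fin 315)) v' = v := Fin.ext ((perm_apply (own1_fix s hs).1 v').trans (hap.trans hv))
        calc col pt0 v = col ((u : Equiv.Perm (Fin 315)) pt0) ((u : Equiv.Perm (Fin 315)) v') := by
              rw [stab0_fix0 hsm, hsv]
          _ = col pt0 v' := col_smul u _ _
          _ = colTab.getD v' 0 := ih _ hpar (hpar.trans hi) v' rfl
          _ = _ := by rw [hcol, hv]
  exact key _ hp w hw

theorem col_eq (x y : Fin 315) : col x y = colN x y := by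
  have h := col_smul (T x)⁻¹ x y
  have h1 : (((T x)⁻¹ : lineGroup) : Equiv.Perm (Fin 315)) x = pt0 := by
    rw [Subgroup.coe_inv, Equiv.Perm.inv_eq_iff_eq, T_pt0]
  have h2 : ((((T x)⁻¹ : lineGroup) : Equiv.Perm (Fin 315)) y : ℕ) = ap (te x).2 y := by
    rw [Subgroup.coe_inv, show (T x : Equiv.Perm (Fin 315)) = perm 315 (te x) from rfl, ← perm_pinv (te_spec x.2).1,
      perm_apply (valid_pinv (te_spec x.2).1)]
    rfl
  rw [h1, col_pt0, h2] at h
  exact h.symm

/-- preserving the invariant -/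
def Pres (π : Equiv.Perm (Fin 315)) : Prop := ∀ x y, col (π x) (π y) = col x y

theorem Pres.of_mem {g : Equiv.Perm (Fin 315)} (hg : g ∈ lineGroup) : Pres g := fun x y => col_smul ⟨g, hg⟩ x y

theorem Pres.mul {π ρ : Equiv.Perm (Fin 315)} (h : Pres π) (h' : Pres ρ) : Pres (π * ρ) := fun x y => by
  rw [Equiv.Perm.mul_apply, Equiv.Perm.mul_apply, h, h']

theorem Pres.inv {π : Equiv.Perm (Fin 315)} (h : Pres π) : Pres π⁻¹ := fun x y => by
  rw [← h (π⁻¹ x) (π⁻¹ y), show π (π⁻¹ x) = x from π.apply_symm_apply x, show π (π⁻¹ y) = y from π.apply_symm_apply y]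

/-- an automorphism permutes the lines -/
theorem exists_perm (φ : MulAut lineGroup) : ∃ π : Equiv.Perm (Fin 315), Pres π ∧
    (∀ x, φ (zP x) = zP (π x)) ∧ ∀ g : lineGroup, ((φ g : lineGroup) : Equiv.Perm (Fin 315)) = π * g * π⁻¹ := by
  obtain ⟨Q, a, σ, H⟩ := exists_hypG
  have ho : orderOf (φ zG) = 2 := by rw [MulEquiv.orderOf_eq]; exact zG_order
  obtain ⟨t, ht⟩ := H.exists_outer
  have hconj : IsConj zG (φ zG) := by
    refine (H.class_cases ht ho).resolve_right fun h => ?_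
    obtain ⟨g, hg⟩ := isConj_iff.1 h
    have h1 : Nat.card (Cz (φ zG)) = Nat.card (Cz zG) := (Nat.card_congr (φ.toEquiv.subtypeEquiv fun y => by
      show y ∈ Cz zG ↔ φ y ∈ Cz (φ zG)
      rw [mem_Cz, mem_Cz]
      exact ⟨fun h => h.map φ, fun h => by simpa using h.map φ.symm⟩)).symm
    rw [← hg, card_Cz_conj, (H.card_eq ht).2, H.data.card_Cz] at h1
    norm_num at h1
  obtain ⟨g₀, hg₀⟩ := isConj_iff.1 hconj
  set y₀ := (g₀ : Equiv.Perm (Fin 315)) pt0
  have hy₀ : φ zG = zP y₀ := by rw [← hg₀, ← zP_pt0, zP_conj]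
  let f : Fin 315 → Fin 315 := fun x => ((φ (T x) : lineGroup) : Equiv.Perm (Fin 315)) y₀
  have hf : ∀ x, φ (zP x) = zP (f x) := fun x => by
    rw [zP, map_mul, map_mul, map_inv, hy₀, zP_conj]
  have hfi : Function.Injective f := fun x y h => zP_inj (φ.injective (by rw [hf, hf, h]))
  let π : Equiv.Perm (Fin 315) := Equiv.ofBijective f (Finite.injective_iff_bijective.1 hfi)
  refine ⟨π, fun x y => ?_, hf, fun g => ?_⟩
  · show orderOf (zP (f x) * zP (f y)) = orderOf (zP x * zP y)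
    rw [← hf, ← hf, ← map_mul, MulEquiv.orderOf_eq]
  · refine eq_mul_inv_iff_mul_eq.2 (Equiv.ext fun x => zP_inj ?_)
    show zP (((φ g : lineGroup) : Equiv.Perm (Fin 315)) (f x)) = zP (f ((g : Equiv.Perm (Fin 315)) x))
    rw [← zP_conj, ← hf, ← hf, ← zP_conj, map_mul, map_mul, map_inv]

/-- the base points -/
def bp (j : ℕ) : Fin 315 := ⟨autBase.getD j 0 % 315, Nat.mod_lt _ (by norm_num)⟩

theorem bp_val (j : ℕ) : (bp j : ℕ) = autBase.getD j 0 := by
  refine Nat.mod_eq_of_lt ?_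
  by_cases hj : j < autBase.length
  · rw [List.getD_eq_getElem?_getD, List.getElem?_eq_getElem hj]
    exact autBase_ok.2.2.1 _ (List.getElem_mem _)
  · simp [List.getD_eq_getElem?_getD, List.getElem?_eq_none (not_lt.1 hj)]

theorem level_step {k : ℕ} {wit : List (ℕ × ℕ × ℕ)} (hw : witCheck k wit = true) {π : Equiv.Perm (Fin 315)}
    (hπ : Pres π) (hfix : ∀ j, j < k → π (bp j) = bp j) :
    ∃ h ∈ lineGroup, ∀ j, j < k + 1 → (h⁻¹ * π) (bp j) = bp j := by
  simp only [witCheck, Bool.and_eq_true, List.all_eq_true, List.any_eq_true, Bool.or_eq_true,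
    decide_eq_true_eq, beq_iff_eq] at hw
  obtain ⟨h1, h2⟩ := hw
  rcases h2 (π (bp k) : ℕ) (List.mem_range.2 (π (bp k)).2) with h | ⟨w, hw', he⟩
  · exfalso
    simp only [Bool.not_eq_true', List.all_eq_false, beq_iff_eq] at h
    obtain ⟨j, hj, hne⟩ := h
    refine hne ?_
    have := hπ (bp j) (bp k)
    rw [hfix j (List.mem_range.1 hj), col_eq, col_eq, bp_val, bp_val] at this
    exact this
  obtain ⟨⟨⟨hl1, hl2⟩, hfx⟩, hmv⟩ := h1 w hw'
  set e1 := tr1.getD w.2.1 (0, (0, 0), 0, 0)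
  set e2 := tr2.getD w.2.2 (0, (0, 0), 0, 0)
  have m1 : e1 ∈ tr1 := getD_mem _ hl1
  have m2 : e2 ∈ tr2 := getD_mem _ hl2
  obtain ⟨v1, g1⟩ := tr_valid (lev1.b, tr1) (by simp) e1 m1
  obtain ⟨v2, g2⟩ := tr_valid (lev2.b, tr2) (by simp) e2 m2
  have hv : ∀ c ∈ stabWord w.2, valid 315 c = true := by simp [stabWord, e1, e2, v1, v2]; exact ⟨v1, v2⟩
  refine ⟨wperm 315 (stabWord w.2), ?_, fun j hj => ?_⟩
  · simp only [stabWord, wperm_cons, wperm_nil, mul_one]; exact mul_mem g1 g2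
  · rw [Equiv.Perm.mul_apply, Equiv.Perm.inv_eq_iff_eq]
    rcases Nat.lt_succ_iff_lt_or_eq.1 hj with hj | rfl
    · rw [hfix j hj]
      exact Fin.ext (by rw [wperm_apply hv, bp_val, hfx j (List.mem_range.2 hj)])
    · exact Fin.ext (by rw [wperm_apply hv, bp_val, hmv, he])

theorem exists_normalised {π : Equiv.Perm (Fin 315)} (hπ : Pres π) :
    ∃ h ∈ lineGroup, ∀ j, j < 4 → (h⁻¹ * π) (bp j) = bp j := by
  let h₀ : lineGroup := T (π pt0)
  have hb0 : bp 0 = pt0 := Fin.ext (by rw [bp_val, autBase_ok.2.1]; rfl)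
  have s0 : ∀ j, j < 1 → ((h₀ : Equiv.Perm (Fin 315))⁻¹ * π) (bp j) = bp j := by
    intro j hj
    rw [show j = 0 by omega, hb0, Equiv.Perm.mul_apply, Equiv.Perm.inv_eq_iff_eq, T_pt0]
  have p0 := (Pres.of_mem (inv_mem h₀.2)).mul hπ
  obtain ⟨h1, m1, s1⟩ := level_step wit1_ok p0 s0
  have p1 := (Pres.of_mem (inv_mem m1)).mul p0
  obtain ⟨h2, m2, s2⟩ := level_step wit2_ok p1 s1
  have p2 := (Pres.of_mem (inv_mem m2)).mul p1
  obtain ⟨h3, m3, s3⟩ := level_step wit3_ok p2 s2
  refine ⟨h₀ * h1 * h2 * h3, mul_mem (mul_mem (mul_mem h₀.2 m1) m2) m3, fun j hj => ?_⟩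
  rw [show ((h₀ : Equiv.Perm (Fin 315)) * h1 * h2 * h3)⁻¹ * π =
    h3⁻¹ * (h2⁻¹ * (h1⁻¹ * ((h₀ : Equiv.Perm (Fin 315))⁻¹ * π))) by group]
  exact s3 j hj

theorem base_tuple {π : Equiv.Perm (Fin 315)} (hπ : Pres π) (hfix : ∀ j, j < 4 → π (bp j) = bp j) :
    (List.range 9).map (fun j => (π (bp j) : ℕ)) ∈ solsAt 5 := by
  suffices H : ∀ i, i ≤ 5 → (List.range (4 + i)).map (fun j => (π (bp j) : ℕ)) ∈ solsAt i from H 5 le_rfl
  intro i
  induction i with
  | zero =>
    intro _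
    simp only [solsAt, List.mem_singleton, Nat.add_zero]
    rw [show (List.range 4).map (fun j => (π (bp j) : ℕ)) = (List.range 4).map (fun j => autBase.getD j 0) from
      List.map_congr_left fun j hj => by rw [hfix j (List.mem_range.1 hj), bp_val]]
    decide +kernel
  | succ i ih =>
    intro hi
    have hok : solCheck i = true := by
      rcases (by omega : i = 0 ∨ i = 1 ∨ i = 2 ∨ i = 3 ∨ i = 4) with rfl | rfl | rfl | rfl | rfl
      exacts [sol0_ok, sol1_ok, sol2_ok, sol3_ok, sol4_ok]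
    simp only [solCheck, List.all_eq_true, Bool.or_eq_true, List.any_eq_true, beq_iff_eq] at hok
    rcases hok _ (ih (by omega)) (π (bp (4 + i)) : ℕ) (List.mem_range.2 (π _).2) with h | ⟨t', ht', e⟩
    · exfalso
      simp only [Bool.not_eq_true', List.all_eq_false, beq_iff_eq] at h
      obtain ⟨j, hj, hne⟩ := h
      refine hne ?_
      have hj' := List.mem_range.1 hj
      rw [List.getD_eq_getElem?_getD, List.getElem?_map, List.getElem?_range hj']
      have := hπ (bp j) (bp (4 + i))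
      rw [col_eq, col_eq, bp_val, bp_val] at this
      exact this
    · rw [show 4 + (i + 1) = 4 + i + 1 by omega, List.range_succ, List.map_append, List.map_singleton, ← e]
      exact ht'

theorem eq_one_of_fix {π : Equiv.Perm (Fin 315)} (hπ : Pres π) (hfix : ∀ j, j < 9 → π (bp j) = bp j) : π = 1 := by
  have hkey : ∀ y, keyOf (π y : ℕ) = keyOf y := fun y => by
    refine List.foldl_ext _ _ _ fun acc b hb => ?_
    obtain ⟨j, hj, rfl⟩ := List.getElem_of_mem hb
    have h := hπ (bp j) y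
    rw [hfix j (by rwa [autBase_ok.1] at hj), col_eq, col_eq, bp_val, List.getD_eq_getElem?_getD,
      List.getElem?_eq_getElem hj] at h
    exact congrArg (acc * 8 + ·) h
  have hmono : ∀ a b, a < b → b < 315 → keyOf (keyOrd.getD a 0) < keyOf (keyOrd.getD b 0) := by
    intro a b
    induction b with
    | zero => omega
    | succ b ih =>
      intro hab hb
      have h1 := key_sorted b (List.mem_range.2 (by omega))
      rcases Nat.lt_succ_iff_lt_or_eq.1 hab with h | rfl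
      · exact (ih h (by omega)).trans h1
      · exact h1
  refine Equiv.ext fun y => Fin.ext ?_
  obtain ⟨a, ha⟩ := keyPos_ok (π y : ℕ) (List.mem_range.2 (π y).2)
  obtain ⟨b, hb⟩ := keyPos_ok (y : ℕ) (List.mem_range.2 y.2)
  rcases lt_trichotomy (keyPos.getD (π y : ℕ) 0) (keyPos.getD (y : ℕ) 0) with h | h | h
  · have := hmono _ _ h b; rw [ha, hb, hkey] at this; exact absurd this (lt_irrefl _)
  · show (π y : ℕ) = y
    rw [← ha, h, hb]
  · have := hmono _ _ h a; rw [ha, hb, hkey] at this; exact absurd this (lt_irrefl _)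

/-- the outer permutation -/
def tau : Equiv.Perm (Fin 315) := perm 315 tauPP

theorem tau_conj_gen : ∀ s ∈ genPP, tau * perm 315 s * tau⁻¹ ∈ lineGroup := by
  intro s hs
  obtain ⟨i, hi, rfl⟩ := List.getElem_of_mem hs
  obtain ⟨l0, l1, l2, hid⟩ := tau_gens i (List.mem_range.2 (genPP_length ▸ hi))
  set a := tr0.getD (tauWit.getD i (0, 0, 0)).1 (0, (0, 0), 0, 0)
  set b := tr1.getD (tauWit.getD i (0, 0, 0)).2.1 (0, (0, 0), 0, 0)
  set c := tr2.getD (tauWit.getD i (0, 0, 0)).2.2 (0, (0, 0), 0, 0)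
  have ma : a ∈ tr0 := getD_mem _ l0
  have mb : b ∈ tr1 := getD_mem _ l1
  have mc : c ∈ tr2 := getD_mem _ l2
  obtain ⟨va, ga⟩ := tr_valid (lev0.b, tr0) (by simp) a ma
  obtain ⟨vb, gb⟩ := tr_valid (lev1.b, tr1) (by simp) b mb
  obtain ⟨vc, gc⟩ := tr_valid (lev2.b, tr2) (by simp) c mc
  have hg : genPP.getD i (0, 0) = genPP[i] := by rw [List.getD_eq_getElem?_getD, List.getElem?_eq_getElem hi]; rfl
  have hsv := genPP_valid hs
  have h := isId_sound (n := 315) (w := tauWord i) (by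
    intro x hx
    simp only [tauWord, List.mem_cons, List.not_mem_nil, or_false] at hx
    rcases hx with rfl | rfl | rfl | rfl | rfl | rfl
    exacts [valid_pinv vc, valid_pinv vb, valid_pinv va, tau_ok.1, hg ▸ hsv, valid_pinv tau_ok.1]) hid
  simp only [tauWord, wperm_cons, wperm_nil, mul_one, hg, perm_pinv va, perm_pinv vb, perm_pinv vc,
    perm_pinv tau_ok.1, a, b, c] at h
  have e : tau * perm 315 genPP[i] * tau⁻¹ = perm 315 a.2.1 * (perm 315 b.2.1 * perm 315 c.2.1) := by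
    rw [inv_mul_eq_one, eq_inv_mul_iff_mul_eq, eq_inv_mul_iff_mul_eq] at h
    rw [mul_assoc]
    exact h.symm
  rw [e]
  exact mul_mem ga (mul_mem gb gc)

theorem map_tau : lineGroup.map (MulAut.conj tau).toMonoidHom = lineGroup := by
  refine Subgroup.eq_of_le_of_card_ge ?_ ?_
  · rw [Subgroup.map_le_iff_le_comap, lineGroup, Subgroup.closure_le]
    rintro g ⟨s, hs, rfl⟩
    exact tau_conj_gen s hs
  · rw [Subgroup.card_map_of_injective (MulAut.conj tau).injective]

/-- the outer automorphism -/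
def psi : MulAut lineGroup :=
  (lineGroup.equivMapOfInjective _ (MulAut.conj tau).injective).trans (MulEquiv.subgroupCongr map_tau)

theorem psi_coe (g : lineGroup) : ((psi g : lineGroup) : Equiv.Perm (Fin 315)) = tau * g * tau⁻¹ := rfl

theorem eq_one_of_commute {c : Equiv.Perm (Fin 315)} (h : ∀ g ∈ lineGroup, g * c = c * g) : c = 1 := by
  have hc0 : c pt0 = pt0 := by
    rcases own1_moves (c pt0 : ℕ) (List.mem_range.2 (c pt0).2) with e | ⟨s, hs, hne⟩
    · exact Fin.ext e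
    · exfalso
      have hsm : perm 315 s ∈ stab0 := Subgroup.subset_closure ⟨s, hs, rfl⟩
      have h1 := congrArg (fun f : Equiv.Perm (Fin 315) => f pt0) (h _ (stab0_le hsm))
      simp only [Equiv.Perm.mul_apply, stab0_fix0 hsm] at h1
      exact hne ((perm_apply (own1_fix s hs).1 (c pt0)).symm.trans (congrArg Fin.val h1))
  refine Equiv.ext fun x => ?_
  have h1 := congrArg (fun f : Equiv.Perm (Fin 315) => f pt0) (h _ (T x).2)
  simp only [Equiv.Perm.mul_apply, hc0, T_pt0] at h1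
  exact h1.symm

theorem pres_tau : Pres tau := by
  obtain ⟨π, hπ, -, hg⟩ := exists_perm psi
  have : tau⁻¹ * π = 1 := eq_one_of_commute fun g hgm => by
    have h := (psi_coe ⟨g, hgm⟩).symm.trans (hg ⟨g, hgm⟩)
    calc g * (tau⁻¹ * π) = tau⁻¹ * (tau * g * tau⁻¹) * π := by group
      _ = tau⁻¹ * (π * g * π⁻¹) * π := by rw [h]
      _ = _ := by group
  rwa [inv_mul_eq_one.1 this]

theorem tau_not_mem : tau ∉ lineGroup := by
  intro h
  have hs : tau ∈ stab0 := mem_stab0_of_fix h (Fin.ext ((perm_apply tau_ok.1 pt0).trans tau_ok.2))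
  obtain ⟨-, -, -, -, hr⟩ := centralizer_data frameFaithful
  refine tau_odd (pairHom ⟨tau, hs⟩) (fun k => ?_) ?_
  · show blkOf ((tau (pairPt k) : Fin 315) : ℕ) = _
    rw [tau, perm_apply tau_ok.1]; rfl
  · exact Equiv.Perm.mem_alternatingGroup.1 (hr ▸ ⟨_, rfl⟩)

/-- every automorphism is inner or inner times `psi` -/
theorem aut_cases (φ : MulAut lineGroup) : φ ∈ Cfsg.Inn lineGroup ∨ φ * psi⁻¹ ∈ Cfsg.Inn lineGroup := by
  obtain ⟨π, hπ, -, hg⟩ := exists_perm φ
  obtain ⟨h, hh, hfix⟩ := exists_normalised hπ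
  have hp := (Pres.of_mem (inv_mem hh)).mul hπ
  have ht := base_tuple hp hfix
  rw [autBase_ok.2.2.2] at ht
  simp only [List.mem_cons, List.not_mem_nil, or_false] at ht
  have hbase : (List.range 9).map (fun j => autBase.getD j 0) = autBase := by decide +kernel
  rcases ht with e | e
  · left
    have h1 : h⁻¹ * π = 1 := eq_one_of_fix hp fun j hj => Fin.ext (by
      rw [← hbase, List.map_inj_left] at e
      rw [e j (List.mem_range.2 hj), bp_val])
    rw [inv_mul_eq_one] at h1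
    exact ⟨⟨h, hh⟩, MulEquiv.ext fun g => Subtype.ext (by rw [hg g, ← h1]; rfl)⟩
  · right
    have h1 : tau⁻¹ * (h⁻¹ * π) = 1 := eq_one_of_fix (pres_tau.inv.mul hp) fun j hj => by
      rw [Equiv.Perm.mul_apply, Equiv.Perm.inv_eq_iff_eq]
      refine Fin.ext ?_
      rw [← hbase, List.map_map, List.map_inj_left] at e
      rw [e j (List.mem_range.2 hj), tau, perm_apply tau_ok.1, bp_val]
      rfl
    rw [inv_mul_eq_one, eq_inv_mul_iff_mul_eq] at h1
    refine ⟨⟨h, hh⟩, ?_⟩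
    rw [eq_mul_inv_iff_mul_eq]
    refine MulEquiv.ext fun g => Subtype.ext ?_
    show h * (tau * (g : Equiv.Perm (Fin 315)) * tau⁻¹) * h⁻¹ = _
    rw [hg g, ← h1]; group

theorem psi_not_inn : psi ∉ Cfsg.Inn lineGroup := by
  rintro ⟨g, hg⟩
  refine tau_not_mem ?_
  have : tau⁻¹ * (g : Equiv.Perm (Fin 315)) = 1 := eq_one_of_commute fun x hx => by
    have h : (g : Equiv.Perm (Fin 315)) * x * (g : Equiv.Perm (Fin 315))⁻¹ = tau * x * tau⁻¹ :=
      congrArg Subtype.val (congrArg (fun f : MulAut lineGroup => f ⟨x, hx⟩) hg)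
    calc x * (tau⁻¹ * g) = tau⁻¹ * (tau * x * tau⁻¹) * g := by group
      _ = tau⁻¹ * ((g : Equiv.Perm (Fin 315)) * x * (g : Equiv.Perm (Fin 315))⁻¹) * g := by rw [h]
      _ = _ := by group
  rw [inv_mul_eq_one.1 this]
  exact g.2

theorem index_inn : (Cfsg.Inn lineGroup).index = 2 := by
  rw [Subgroup.index_eq_two_iff]
  refine ⟨psi, fun b => ?_⟩
  rcases aut_cases b with h | h
  · refine Or.inr ⟨h, fun h' => psi_not_inn ?_⟩
    simpa using mul_mem (inv_mem h) h'
  · refine Or.inl ⟨?_, fun hb => psi_not_inn ?_⟩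
    · have h2 : psi * psi ∈ Cfsg.Inn lineGroup :=
        (aut_cases (psi * psi)).resolve_right fun h' => psi_not_inn (by rwa [mul_inv_cancel_right] at h')
      simpa [mul_assoc] using mul_mem h h2
    · simpa using mul_mem (inv_mem h) hb

theorem card_out : Nat.card (Cfsg.Out Cfsg.Spor.J2) = 2 := by
  have hI : (Cfsg.Inn Cfsg.Spor.J2).map (MulAut.congr j2Equiv).toMonoidHom = Cfsg.Inn lineGroup := by
    ext φ
    constructor
    · rintro ⟨_, ⟨g, rfl⟩, rfl⟩
      exact ⟨j2Equiv g, MulEquiv.ext fun x => by simp [MulAut.congr]⟩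
    · rintro ⟨g, rfl⟩
      exact ⟨MulAut.conj (j2Equiv.symm g), ⟨_, rfl⟩, MulEquiv.ext fun x => by simp [MulAut.congr]⟩
  rw [Nat.card_congr (QuotientGroup.congr (Cfsg.Inn Cfsg.Spor.J2) (Cfsg.Inn lineGroup) (MulAut.congr j2Equiv) hI).toEquiv]
  exact index_inn

end Cfsg.Lib.J2

end
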