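import Cfsg.Agent.Spor.J2.LineGroup
import Cfsg.Agent.Spor.J2.CentData
import Cfsg.Agent.LargeExtra.Coprime

/-!
The centraliser of a reflection in the group on the lines.
-/

set_option autoImplicit false
set_option linter.style.haveILetI false
set_option maxRecDepth 100000
set_option maxHeartbeats 2000000
set_option Elab.async false

namespace Cfsg.Lib.J2

open Cfsg.Lib.PermCert MulAction
open scoped commutatorElement

/-- the first generator -/
def zLine : Equiv.Perm (Fin 315) := perm 315 g0_0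

/-- the stabiliser generated by `own1` -/
def stab0 : Subgroup (Equiv.Perm (Fin 315)) := Subgroup.closure {g | ∃ s ∈ own1, perm 315 s = g}

/-- the group generated by `own2` -/
def stab1 : Subgroup (Equiv.Perm (Fin 315)) := Subgroup.closure {g | ∃ s ∈ own2, perm 315 s = g}

theorem stab0_le : stab0 ≤ lineGroup := (Subgroup.closure_le _).2 (by
  rintro g ⟨s, hs, rfl⟩; exact gens_mem s (by simp [deriv_lists.2.2.1, hs]))

theorem card_stab0 (hF : FrameFaithful) :
    Nat.card stab0 = 1920 ∧ tset below0 = (stab0 : Set (Equiv.Perm (Fin 315))) := by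
  obtain ⟨h1, h2, h3, h4, h5⟩ := deriv_lists
  obtain ⟨n0, n1, n2, l0, l1, l2, f0, f1⟩ := levels_misc
  obtain ⟨b0, b1, b2, -, v1, v2⟩ := lev_misc
  have hown : ∀ s ∈ gens0, valid 315 s = true ∧ perm 315 s ∈ lineGroup := fun s hs => ⟨valid_all s hs, gens_mem s hs⟩
  have htv := tr_valid
  obtain ⟨s2, c2⟩ := level_spec (r := []) (b := lev2.b) b2 n2 tree2_ok (by omega)
    (fun s hs => hown s (by simp [h3, hs])) hF (by simp)
    (fun s hs => by
      simp only [own2, List.mem_cons, List.not_mem_nil, or_false] at hs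
      rcases hs with rfl | rfl
      exacts [rows_c.2.2.1, rows_c.2.2.2])
    ⊥ (by simp [tset]) bot_le (fun v hv => by rw [Subgroup.mem_bot.1 hv]; rfl)
  have hle21 : stab1 ≤ stab0 := by
    refine (Subgroup.closure_le _).2 ?_
    rintro g ⟨s, hs, rfl⟩
    exact (h2 ▸ deriv_mem v1 tree1_ok deriv_ok.2 stab0 (fun s hs => Subgroup.subset_closure ⟨s, hs, rfl⟩)) s hs
  have hfix1 : ∀ v ∈ stab1, v ⟨lev1.b, b1⟩ = ⟨lev1.b, b1⟩ := by
    intro v hv
    have : stab1 ≤ stabilizer (Equiv.Perm (Fin 315)) (⟨lev1.b, b1⟩ : Fin 315) := by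
      refine (Subgroup.closure_le _).2 ?_
      rintro g ⟨s, hs, rfl⟩
      simp only [SetLike.mem_coe, mem_stabilizer_iff, Equiv.Perm.smul_def]
      exact Fin.ext (by rw [perm_apply (v2 s hs)]; exact f1 s hs)
    exact mem_stabilizer_iff.1 (this hv)
  obtain ⟨s1, c1⟩ := level_spec (r := below1) (b := lev1.b) b1 n1 tree1_ok (by omega)
    (fun s hs => hown s (by simp [h3, hs])) hF (fun p hp => htv p (List.mem_cons_of_mem _ (List.mem_cons_of_mem _ hp)))
    (fun s hs => by
      simp only [own1, List.mem_cons, List.not_mem_nil, or_false] at hs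
      rcases hs with rfl | rfl
      exacts [rows_c.1, rows_c.2.1])
    stab1 s2 hle21 hfix1
  refine ⟨?_, s1⟩
  show Nat.card ↥(Subgroup.closure {g | ∃ s ∈ own1, perm 315 s = g}) = 1920
  rw [c1, show Nat.card stab1 = _ from c2, l1, l2, Subgroup.card_bot]

theorem lineGroup_tset (hF : FrameFaithful) : ∀ g ∈ lineGroup, ∃ e ∈ tr0, ∃ v ∈ stab0, g = perm 315 e.2.1 * v := by
  obtain ⟨h1, h2, h3, h4, h5⟩ := deriv_lists
  obtain ⟨n0, n1, n2, l0, l1, l2, f0, f1⟩ := levels_misc
  obtain ⟨b0, b1, b2, -, v1, v2⟩ := lev_misc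
  obtain ⟨-, s1⟩ := card_stab0 hF
  have hfix0 : ∀ v ∈ stab0, v ⟨lev0.b, b0 ▸ by norm_num⟩ = ⟨lev0.b, b0 ▸ by norm_num⟩ := by
    intro v hv
    have : stab0 ≤ stabilizer (Equiv.Perm (Fin 315)) (⟨lev0.b, b0 ▸ by norm_num⟩ : Fin 315) := by
      refine (Subgroup.closure_le _).2 ?_
      rintro g ⟨s, hs, rfl⟩
      simp only [SetLike.mem_coe, mem_stabilizer_iff, Equiv.Perm.smul_def]
      exact Fin.ext (by rw [perm_apply (v1 s hs)]; exact f0 s (List.mem_append_left _ hs))
    exact mem_stabilizer_iff.1 (this hv)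
  obtain ⟨s0, -⟩ := level_spec (r := below0) (b := lev0.b) (b0 ▸ by norm_num) n0 tree0_ok (by omega)
    (fun s hs => ⟨valid_all s (by simp [h3, hs]), gens_mem s (by simp [h3, hs])⟩) hF
    (fun p hp => tr_valid p (List.mem_cons_of_mem _ hp))
    (fun s hs => by
      simp only [own0, List.mem_cons, List.not_mem_nil, or_false] at hs
      rcases hs with rfl | rfl | rfl | rfl
      exacts [rows_a.1, rows_a.2, rows_b.1, rows_b.2])
    stab0 s1 (h4 ▸ stab0_le) hfix0
  intro g hg
  rw [h4] at s0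
  have hg' : g ∈ tset ((lev0.b, tr0) :: below0) := by rw [s0]; exact hg
  obtain ⟨e, he, v, hv, rfl⟩ := hg'
  exact ⟨e, he, v, (s1 ▸ hv : v ∈ (stab0 : Set (Equiv.Perm (Fin 315)))), rfl⟩

theorem g00_valid : valid 315 g0_0 = true ∧ g0_0 ∈ genPP ∧ g0_0 ∈ gens0 := by decide +kernel

theorem own1_comm : ∀ s ∈ own1, isId 315 [pinv s, pinv g0_0, s, g0_0] = true := by decide +kernel

theorem tr0_moves : ∀ e ∈ tr0, e.1 = 0 ∨ frameId [pinv e.2.1, pinv g0_0, e.2.1, g0_0] = false := by
  decide +kernel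

theorem zLine_mem : zLine ∈ lineGroup := gens_mem _ g00_valid.2.2

theorem stab0_comm {v : Equiv.Perm (Fin 315)} (hv : v ∈ stab0) : Commute v zLine := by
  have : stab0 ≤ Subgroup.centralizer {zLine} := by
    refine (Subgroup.closure_le _).2 ?_
    rintro g ⟨s, hs, rfl⟩
    have hsv := (own1_fix s hs).1
    have h := isId_sound (n := 315) (w := [pinv s, pinv g0_0, s, g0_0]) (by
      intro c hc
      simp only [List.mem_cons, List.not_mem_nil, or_false] at hc
      rcases hc with rfl | rfl | rfl | rfl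
      exacts [valid_pinv hsv, valid_pinv g00_valid.1, hsv, g00_valid.1]) (own1_comm s hs)
    simp only [wperm_cons, wperm_nil, mul_one, perm_pinv hsv, perm_pinv g00_valid.1] at h
    rw [inv_mul_eq_one, eq_inv_mul_iff_mul_eq] at h
    rw [SetLike.mem_coe, Subgroup.mem_centralizer_singleton_iff]
    exact h.symm
  exact Subgroup.mem_centralizer_singleton_iff.1 (this hv)

theorem centralizer_zLine (hF : FrameFaithful) {g : Equiv.Perm (Fin 315)} (hg : g ∈ lineGroup) :
    Commute g zLine ↔ g ∈ stab0 := by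
  refine ⟨fun hc => ?_, stab0_comm⟩
  obtain ⟨e, he, v, hv, rfl⟩ := lineGroup_tset hF g hg
  have hev := (tr_valid _ (List.mem_cons_self ..) e he)
  have hce : Commute (perm 315 e.2.1) zLine := by
    have h2 := hc.mul_left (stab0_comm hv).inv_left
    rwa [mul_inv_cancel_right] at h2
  rcases tr0_moves e he with h | h
  · have h0 := List.all_eq_true.mp tree0_ok 0 (List.mem_range.mpr (by rw [levels_misc.2.2.2.1]; norm_num))
    have hpos : 0 < tr0.length := by rw [levels_misc.2.2.2.1]; norm_num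
    rw [show (⟨lev0.b, own0, tr0⟩ : Level).tr = tr0 from rfl, List.getElem?_eq_getElem hpos] at h0
    simp only [Bool.and_eq_true, beq_iff_eq, if_pos] at h0
    have heq : e = tr0[0] := List.inj_on_of_nodup_map levels_misc.1 he (List.getElem_mem _)
      (h.trans (h0.2.1.trans lev_misc.1).symm)
    have hone := isId_sound (n := 315) (w := [(tr0[0]'hpos).2.1]) (by simpa using h0.1.1) h0.2.2
    simp only [wperm_cons, wperm_nil, mul_one] at hone
    rw [heq, hone, one_mul]
    exact hv
  · exfalso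
    have hwv : ∀ c ∈ [pinv e.2.1, pinv g0_0, e.2.1, g0_0], valid 315 c = true := by
      intro c hc
      simp only [List.mem_cons, List.not_mem_nil, or_false] at hc
      rcases hc with rfl | rfl | rfl | rfl
      exacts [valid_pinv hev.1, valid_pinv g00_valid.1, hev.1, g00_valid.1]
    have hw : wperm 315 [pinv e.2.1, pinv g0_0, e.2.1, g0_0] = 1 := by
      simp only [wperm_cons, wperm_nil, mul_one, perm_pinv hev.1, perm_pinv g00_valid.1]
      have := hce.eq
      rw [zLine] at this
      rw [this, inv_mul_cancel_left, inv_mul_cancel]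
    have : frameId [pinv e.2.1, pinv g0_0, e.2.1, g0_0] = true := by
      simp only [frameId, List.all_eq_true, beq_iff_eq]
      intro x hx
      have hx' : x < 315 := by revert hx x; decide
      rw [← wperm_apply hwv ⟨x, hx'⟩, hw]
      rfl
    rw [h] at this
    exact Bool.noConfusion this

/-- the pair containing a line, or 5 -/
def blkOf (x : ℕ) : ℕ := tenPairs.findIdx fun p => p.1 == x || p.2 == x

/-- a representative of a pair -/
def pairRep (k : Fin 5) : ℕ := (tenPairs.getD k (0, 0)).1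

theorem pairRep_ok : tenPairs.length = 5 ∧ ∀ k : Fin 5, pairRep k < 315 ∧ blkOf (pairRep k) = k := by decide +kernel

/-- the representative as a line -/
def pairPt (k : Fin 5) : Fin 315 := ⟨pairRep k, (pairRep_ok.2 k).1⟩

/-- respecting the five pairs -/
def RespPairs (g : Equiv.Perm (Fin 315)) : Prop :=
  ∀ x : Fin 315, blkOf x < 5 → blkOf (g x) < 5 ∧ ∀ y : Fin 315, blkOf y = blkOf x → blkOf (g y) = blkOf (g x)

theorem own1_pairs : ∀ s ∈ own1, ∀ p ∈ tenPairs,
    blkOf (ap s.1 p.1) < 5 ∧ blkOf (ap s.1 p.1) = blkOf (ap s.1 p.2) := by decide +kernel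

theorem blk_cases : ∀ x : Fin 315, blkOf x < 5 →
    ((tenPairs.getD (blkOf x) (0, 0)).1 = (x : ℕ) ∨ (tenPairs.getD (blkOf x) (0, 0)).2 = (x : ℕ)) := by
  decide +kernel

theorem resp_stab0 : ∀ g ∈ stab0, RespPairs g := by
  intro g hg
  change g ∈ stab0.toSubmonoid at hg
  simp only [stab0, Subgroup.closure_toSubmonoid_of_finite] at hg
  induction hg using Submonoid.closure_induction with
  | mem g hg =>
    obtain ⟨s, hs, rfl⟩ := hg
    have hv := (own1_fix s hs).1
    intro x hx
    have hlt : blkOf x < tenPairs.length := by rw [pairRep_ok.1]; exact hx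
    have hmem : tenPairs.getD (blkOf x) (0, 0) ∈ tenPairs := by
      rw [List.getD_eq_getElem?_getD, List.getElem?_eq_getElem hlt]
      exact List.getElem_mem _
    obtain ⟨h1, h2⟩ := own1_pairs s hs _ hmem
    have key : ∀ y : Fin 315, blkOf y = blkOf x →
        blkOf (perm 315 s y) = blkOf (ap s.1 (tenPairs.getD (blkOf x) (0, 0)).1) := by
      intro y hy
      rw [perm_apply hv]
      rcases blk_cases y (hy ▸ hx) with e | e <;> rw [hy] at e <;> rw [← e]
      exact h2.symm
    exact ⟨(key x rfl).symm ▸ h1, fun y hy => (key y hy).trans (key x rfl).symm⟩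
  | one => exact fun x hx => ⟨hx, fun y hy => hy⟩
  | mul a b _ _ ha hb =>
    intro x hx
    obtain ⟨h1, h2⟩ := hb x hx
    obtain ⟨h3, h4⟩ := ha (b x) h1
    exact ⟨h3, fun y hy => h4 (b y) (h2 y hy)⟩

theorem resp_pt {g : Equiv.Perm (Fin 315)} (hg : g ∈ stab0) (k : Fin 5) : blkOf (g (pairPt k)) < 5 :=
  ((resp_stab0 g hg) (pairPt k) (by
    show blkOf (pairRep k) < 5
    rw [(pairRep_ok.2 k).2]; exact k.2)).1

/-- the image of a pair -/
def pairImg (g : stab0) (k : Fin 5) : Fin 5 := ⟨blkOf ((g : Equiv.Perm (Fin 315)) (pairPt k)), resp_pt g.2 k⟩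

theorem pairImg_mul (g h : stab0) (k : Fin 5) : pairImg (g * h) k = pairImg g (pairImg h k) := by
  refine Fin.ext ?_
  show blkOf ((g : Equiv.Perm (Fin 315)) ((h : Equiv.Perm (Fin 315)) (pairPt k))) =
    blkOf ((g : Equiv.Perm (Fin 315)) (pairPt (pairImg h k)))
  exact (((resp_stab0 _ g.2) _ (resp_pt h.2 k)).2 (pairPt (pairImg h k)) (pairRep_ok.2 _).2).symm

theorem pairImg_one (k : Fin 5) : pairImg 1 k = k := Fin.ext (pairRep_ok.2 k).2

/-- the action on the five pairs -/
def pairHom : stab0 →* Equiv.Perm (Fin 5) where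
  toFun g :=
    { toFun := pairImg g
      invFun := pairImg g⁻¹
      left_inv := fun k => by rw [← pairImg_mul, inv_mul_cancel, pairImg_one]
      right_inv := fun k => by rw [← pairImg_mul, mul_inv_cancel, pairImg_one] }
  map_one' := Equiv.ext pairImg_one
  map_mul' g h := Equiv.ext fun k => pairImg_mul g h k

/-- a word in `own1` -/
def word1 (w : List ℕ) : List PP := w.map fun i => own1.getD i (own1.getD 0 (0, 0))

theorem qGens_ok : ∀ p ∈ qGens, valid 315 p.1 = true ∧ isId 315 (pinv p.1 :: word1 p.2) = true ∧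
    (∀ i ∈ p.2, i < own1.length) := by decide +kernel

/-- a kernel element -/
def qEl (i : ℕ) : PP × ℕ × ℕ := qElems.getD i ((0, 0), 0, 0)

theorem qElems_ok : qElems.length = 32 ∧ isId 315 [(qEl 0).1] = true ∧
    ∀ i ∈ List.range 32, valid 315 (qEl i).1 = true ∧ (∀ k : Fin 5, blkOf (ap (qEl i).1.1 (pairRep k)) = k) ∧
      (i = 0 ∨ ((qEl i).2.2 < i ∧ (qEl i).2.1 < qGens.length ∧
        isId 315 [pinv (qEl i).1, (qGens.getD (qEl i).2.1 ((0, 0), [])).1, (qEl (qEl i).2.2).1] = true)) := by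
  decide +kernel

theorem qElems_nodup : ((List.range 32).map fun i => frame.map (ap (qEl i).1.1)).Nodup := by decide +kernel

theorem qElems_rules : (∀ i ∈ List.range 32, ∀ j ∈ List.range 32,
      (frameId [pinv (qEl i).1, pinv (qEl j).1, (qEl i).1, (qEl j).1] ||
        frameId [g0_0, pinv (qEl i).1, pinv (qEl j).1, (qEl i).1, (qEl j).1]) = true) ∧
    (∀ i ∈ List.range 32, (frameId [(qEl i).1, (qEl i).1] || frameId [g0_0, (qEl i).1, (qEl i).1]) = true) ∧
    (∀ i ∈ List.range 32, (frameId [(qEl i).1] || frameId [g0_0, (qEl i).1]) = true ∨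
      ∃ j ∈ List.range 32, frameId [pinv (qEl i).1, pinv (qEl j).1, (qEl i).1, (qEl j).1] = false) ∧
    (∃ i ∈ List.range 32, frameId [g0_0, (qEl i).1] = true) ∧
    (∃ i ∈ List.range 32, ∃ j ∈ List.range 32,
      frameId [pinv (qEl i).1, pinv (qEl j).1, (qEl i).1, (qEl j).1] = false) ∧
    frameId [g0_0] = false ∧ frameId [g0_0, g0_0] = true := by
  decide +kernel

theorem word1_mem {w : List ℕ} (hw : ∀ i ∈ w, i < own1.length) : ∀ c ∈ word1 w, c ∈ own1 := by
  intro c hc
  obtain ⟨j, hj, rfl⟩ := List.mem_map.1 hc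
  rw [List.getD_eq_getElem?_getD, List.getElem?_eq_getElem (hw j hj)]
  exact List.getElem_mem _

theorem wperm_mem' (H : Subgroup (Equiv.Perm (Fin 315))) : ∀ a : List PP, (∀ g ∈ a, perm 315 g ∈ H) →
    wperm 315 a ∈ H
  | [], _ => by simp [wperm]
  | g :: a, h => by
    rw [wperm_cons]; exact mul_mem (h g (by simp)) (wperm_mem' H a fun c hc => h c (by simp [hc]))

theorem qGen_mem {p : PP × List ℕ} (hp : p ∈ qGens) : perm 315 p.1 ∈ stab0 := by
  obtain ⟨hv, h, hw⟩ := qGens_ok p hp
  have := isId_sound (n := 315) (w := pinv p.1 :: word1 p.2) (by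
    intro c hc
    rcases List.mem_cons.1 hc with rfl | hc
    · exact valid_pinv hv
    · exact (own1_fix c (word1_mem hw c hc)).1) h
  rw [wperm_cons, perm_pinv hv, inv_mul_eq_one] at this
  rw [this]
  exact wperm_mem' _ _ fun c hc => Subgroup.subset_closure ⟨c, word1_mem hw c hc, rfl⟩

theorem qEl_mem : ∀ i, i < 32 → perm 315 (qEl i).1 ∈ stab0 := by
  intro i
  induction i using Nat.strong_induction_on with
  | _ i ih =>
    intro hi
    obtain ⟨hlen, h0, hall⟩ := qElems_ok
    obtain ⟨hv, -, hd⟩ := hall i (List.mem_range.2 hi)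
    rcases hd with rfl | ⟨hlt, hg, hid⟩
    · have := isId_sound (n := 315) (w := [(qEl 0).1]) (by simpa using hv) h0
      simp only [wperm_cons, wperm_nil, mul_one] at this
      rw [this]; exact one_mem _
    · have hgm : qGens.getD (qEl i).2.1 ((0, 0), []) ∈ qGens := by
        rw [List.getD_eq_getElem?_getD, List.getElem?_eq_getElem hg]; exact List.getElem_mem _
      have hpv := (hall (qEl i).2.2 (List.mem_range.2 (hlt.trans hi))).1
      have := isId_sound (n := 315)
        (w := [pinv (qEl i).1, (qGens.getD (qEl i).2.1 ((0, 0), [])).1, (qEl (qEl i).2.2).1]) (by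
        intro c hc
        simp only [List.mem_cons, List.not_mem_nil, or_false] at hc
        rcases hc with rfl | rfl | rfl
        exacts [valid_pinv hv, (qGens_ok _ hgm).1, hpv]) hid
      simp only [wperm_cons, wperm_nil, mul_one, perm_pinv hv, inv_mul_eq_one] at this
      rw [this]
      exact mul_mem (qGen_mem hgm) (ih _ hlt (hlt.trans hi))

/-- a kernel element of the stabiliser -/
def qS (i : Fin 32) : stab0 := ⟨perm 315 (qEl i).1, qEl_mem i i.2⟩

theorem qS_ker (i : Fin 32) : qS i ∈ pairHom.ker := by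
  obtain ⟨hv, hb, -⟩ := qElems_ok.2.2 i (List.mem_range.2 i.2)
  refine MonoidHom.mem_ker.2 (Equiv.ext fun k => Fin.ext ?_)
  show blkOf (perm 315 (qEl i).1 (pairPt k)) = k
  rw [perm_apply hv]; exact hb k

theorem qS_inj : Function.Injective qS := by
  intro i j h
  have hv := fun k : Fin 32 => (qElems_ok.2.2 k (List.mem_range.2 k.2)).1
  have e : frame.map (ap (qEl i).1.1) = frame.map (ap (qEl j).1.1) := by
    refine List.map_congr_left fun x hx => ?_
    have hx' : x < 315 := by revert hx x; decide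
    have := congrArg (fun g : stab0 => (((g : Equiv.Perm (Fin 315)) ⟨x, hx'⟩ : Fin 315) : ℕ)) h
    simpa [qS, perm_apply (hv i), perm_apply (hv j)] using this
  exact Fin.ext (List.inj_on_of_nodup_map qElems_nodup (List.mem_range.2 i.2) (List.mem_range.2 j.2) e)

/-- a tuple of images -/
def tupOf (i : ℕ) : List ℕ × ℕ × ℕ := imgElems.getD i ([], 0, 0)

theorem img_ok : imgElems.length = 60 ∧ (tupOf 0).1 = [0, 1, 2, 3, 4] ∧
    ((List.range 60).map fun i => (tupOf i).1).Nodup ∧
    (∀ i ∈ List.range 60, (tupOf i).1.length = 5) ∧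
    ∀ i ∈ List.range 60, i = 0 ∨ ((tupOf i).2.2 < i ∧ (tupOf i).2.1 < own1.length ∧ ∀ k : Fin 5,
      (tupOf i).1.getD k 5 =
        blkOf (ap (own1.getD (tupOf i).2.1 (0, 0)).1 ((tenPairs.getD ((tupOf (tupOf i).2.2).1.getD k 5) (0, 0)).1))) := by
  decide +kernel

theorem tup_real : ∀ i, i < 60 → ∃ g : stab0, ∀ k : Fin 5, (tupOf i).1.getD k 5 = (pairHom g k : ℕ) := by
  intro i
  induction i using Nat.strong_induction_on with
  | _ i ih =>
    intro hi
    obtain ⟨-, h0, -, -, hall⟩ := img_ok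
    rcases hall i (List.mem_range.2 hi) with rfl | ⟨hlt, hg, hk⟩
    · refine ⟨1, fun k => ?_⟩
      rw [h0, map_one]
      fin_cases k <;> rfl
    · obtain ⟨g, hg'⟩ := ih _ hlt (hlt.trans hi)
      have hsm : own1.getD (tupOf i).2.1 (0, 0) ∈ own1 := by
        rw [List.getD_eq_getElem?_getD, List.getElem?_eq_getElem hg]; exact List.getElem_mem _
      refine ⟨⟨perm 315 (own1.getD (tupOf i).2.1 (0, 0)), Subgroup.subset_closure ⟨_, hsm, rfl⟩⟩ * g, fun k => ?_⟩
      rw [hk k, map_mul, Equiv.Perm.mul_apply, hg' k]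
      show _ = blkOf (perm 315 _ (pairPt (pairHom g k)))
      rw [perm_apply (own1_fix _ hsm).1]
      rfl

theorem card_parts (hF : FrameFaithful) : Nat.card pairHom.ker = 32 ∧ Nat.card pairHom.range = 60 := by
  have h1 : 32 ≤ Nat.card pairHom.ker := by
    have := Nat.card_le_card_of_injective (fun i : Fin 32 => (⟨qS i, qS_ker i⟩ : pairHom.ker))
      (fun i j h => qS_inj (congrArg Subtype.val h :))
    simpa using this
  choose f hf using fun i : Fin 60 => tup_real i i.2
  have h2 : 60 ≤ Nat.card pairHom.range := by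
    have := Nat.card_le_card_of_injective (fun i : Fin 60 => (⟨pairHom (f i), _, rfl⟩ : pairHom.range)) (by
      intro i j h
      have h' : pairHom (f i) = pairHom (f j) := congrArg Subtype.val h
      obtain ⟨-, -, hnd, hlen, -⟩ := img_ok
      have li := hlen i (List.mem_range.2 i.2)
      have lj := hlen j (List.mem_range.2 j.2)
      refine Fin.ext (List.inj_on_of_nodup_map hnd (List.mem_range.2 i.2) (List.mem_range.2 j.2) ?_)
      refine List.ext_getElem (li.trans lj.symm) fun k hk1 hk2 => ?_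
      have e1 := hf i ⟨k, li ▸ hk1⟩
      have e2 := hf j ⟨k, li ▸ hk1⟩
      rw [h', ← e2] at e1
      simpa [List.getD_eq_getElem?_getD, List.getElem?_eq_getElem hk1, List.getElem?_eq_getElem hk2] using e1)
    simpa using this
  have h3 := Subgroup.card_eq_card_quotient_mul_card_subgroup pairHom.ker
  rw [Nat.card_congr (QuotientGroup.quotientKerEquivRange pairHom).toEquiv, (card_stab0 hF).1] at h3
  constructor <;> nlinarith

theorem ker_eq (hF : FrameFaithful) (g : stab0) (hg : g ∈ pairHom.ker) : ∃ i, qS i = g := by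
  have hb : Function.Bijective (fun i : Fin 32 => (⟨qS i, qS_ker i⟩ : pairHom.ker)) := by
    rw [Nat.bijective_iff_injective_and_card]
    exact ⟨fun i j h => qS_inj (congrArg Subtype.val h :), by rw [(card_parts hF).1, Nat.card_fin]⟩
  obtain ⟨i, hi⟩ := hb.2 ⟨g, hg⟩
  exact ⟨i, congrArg Subtype.val hi⟩

theorem frame_eq_one (hF : FrameFaithful) {w : List PP} (hv : ∀ c ∈ w, valid 315 c = true)
    (hm : wperm 315 w ∈ lineGroup) : frameId w = true ↔ wperm 315 w = 1 := by
  simp only [frameId, List.all_eq_true, beq_iff_eq]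
  constructor
  · intro h
    refine hF _ hm fun x hx => Fin.ext ?_
    rw [wperm_apply hv]; exact h x hx
  · intro h x hx
    have hx' : x < 315 := by revert hx x; decide
    rw [← wperm_apply hv ⟨x, hx'⟩, h]; rfl

theorem wperm_stab0 (l : List PP) (hl : ∀ c ∈ l, perm 315 c ∈ stab0) : wperm 315 l ∈ lineGroup :=
  stab0_le (wperm_mem' _ l hl)

theorem centralizer_data (hF : FrameFaithful) :
    ∃ hz : zLine ∈ stab0, (⟨zLine, hz⟩ : stab0) ∈ pairHom.ker ∧
      Cfsg.IsExtraspecial 2 pairHom.ker ∧ Nat.card pairHom.ker = 32 ∧ pairHom.range = alternatingGroup (Fin 5) := by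
  obtain ⟨r1, r2, r3, ⟨m, hm, r4⟩, r5, r6, r7⟩ := qElems_rules
  obtain ⟨hk, hr⟩ := card_parts hF
  have hv : ∀ i : Fin 32, valid 315 (qEl i).1 = true := fun i => (qElems_ok.2.2 i (List.mem_range.2 i.2)).1
  have hzv := g00_valid.1
  have hzm := zLine_mem
  have hq : ∀ i : Fin 32, perm 315 (qEl i).1 ∈ lineGroup := fun i => stab0_le (qEl_mem i i.2)
  have zz : zLine * zLine = 1 := by
    have := (frame_eq_one hF (w := [g0_0, g0_0]) (by simp [hzv]) (by
      simp only [wperm_cons, wperm_nil, mul_one]; exact mul_mem hzm hzm)).1 r7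
    simpa [zLine] using this
  have zinv : zLine⁻¹ = zLine := inv_eq_of_mul_eq_one_right zz
  have hz1 : zLine ≠ 1 := fun h => by
    have := (frame_eq_one hF (w := [g0_0]) (by simp [hzv]) (by simpa [zLine] using hzm)).2 (by simpa [zLine] using h)
    rw [r6] at this
    exact Bool.noConfusion this
  obtain ⟨mi, rfl⟩ : ∃ mi : Fin 32, (mi : ℕ) = m := ⟨⟨m, List.mem_range.1 hm⟩, rfl⟩
  have hzq : (qS mi : Equiv.Perm (Fin 315)) = zLine := by
    have := (frame_eq_one hF (w := [g0_0, (qEl mi).1]) (by simp [hzv, hv]) (by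
      simp only [wperm_cons, wperm_nil, mul_one]; exact mul_mem hzm (hq mi))).1 r4
    simp only [wperm_cons, wperm_nil, mul_one] at this
    exact (inv_eq_of_mul_eq_one_right this).symm.trans zinv
  have hzs : zLine ∈ stab0 := hzq ▸ (qS mi).2
  have hzk : (⟨zLine, hzs⟩ : stab0) ∈ pairHom.ker := by
    rw [show (⟨zLine, hzs⟩ : stab0) = qS mi from Subtype.ext hzq.symm]; exact qS_ker mi
  -- translation of the frame checks
  have comm : ∀ i j : Fin 32, frameId [pinv (qEl i).1, pinv (qEl j).1, (qEl i).1, (qEl j).1] = true ↔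
      Commute (qS i) (qS j) := by
    intro i j
    rw [frame_eq_one hF (by simp [valid_pinv (hv i), valid_pinv (hv j), hv]) (by
      simp only [wperm_cons, wperm_nil, mul_one, perm_pinv (hv i), perm_pinv (hv j)]
      exact mul_mem (inv_mem (hq i)) (mul_mem (inv_mem (hq j)) (mul_mem (hq i) (hq j))))]
    simp only [wperm_cons, wperm_nil, mul_one, perm_pinv (hv i), perm_pinv (hv j)]
    rw [inv_mul_eq_one, eq_inv_mul_iff_mul_eq]
    exact ⟨fun h => Subtype.ext h.symm, fun h => (congrArg Subtype.val h.eq).symm⟩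
  have zword : ∀ (l : List PP) (x : stab0), (∀ c ∈ l, valid 315 c = true) → wperm 315 l = x →
      (frameId (g0_0 :: l) = true ↔ x = ⟨zLine, hzs⟩) := by
    intro l x hl hx
    rw [frame_eq_one hF (by
      intro c hc
      rcases List.mem_cons.1 hc with rfl | hc
      exacts [hzv, hl c hc]) (by rw [wperm_cons, hx]; exact mul_mem hzm (stab0_le x.2))]
    rw [wperm_cons, hx, show perm 315 g0_0 = zLine from rfl, mul_eq_one_iff_inv_eq, zinv]
    exact ⟨fun h => Subtype.ext h.symm, fun h => (congrArg Subtype.val h).symm⟩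
  have oneword : ∀ (l : List PP) (x : stab0), (∀ c ∈ l, valid 315 c = true) → wperm 315 l = x →
      (frameId l = true ↔ x = 1) := by
    intro l x hl hx
    rw [frame_eq_one hF hl (hx ▸ stab0_le x.2), hx]
    exact ⟨fun h => Subtype.ext h, fun h => congrArg Subtype.val h⟩
  have hP : IsPGroup 2 pairHom.ker := IsPGroup.of_card (n := 5) (by rw [hk]; norm_num)
  refine ⟨hzs, hzk, LargeExtra.isExtraspecial_of (G := stab0) hP hzk (fun h => hz1 (congrArg Subtype.val h))
    (Subtype.ext zz) ?_ ?_ ?_ ?_ ?_, hk, ?_⟩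
  · exact fun a _ => Subtype.ext (stab0_comm a.2).eq
  · intro a ha b hb
    obtain ⟨i, hi⟩ := ker_eq hF a⁻¹ (inv_mem ha)
    obtain ⟨j, hj⟩ := ker_eq hF b⁻¹ (inv_mem hb)
    have ea : a = (qS i)⁻¹ := by rw [hi, inv_inv]
    have eb : b = (qS j)⁻¹ := by rw [hj, inv_inv]
    have hl : ∀ c ∈ [pinv (qEl i).1, pinv (qEl j).1, (qEl i).1, (qEl j).1], valid 315 c = true := by
      simp [valid_pinv (hv i), valid_pinv (hv j), hv]
    have hx : wperm 315 [pinv (qEl i).1, pinv (qEl j).1, (qEl i).1, (qEl j).1] = ((⁅a, b⁆ : stab0) :) := by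
      simp only [wperm_cons, wperm_nil, mul_one, perm_pinv (hv i), perm_pinv (hv j), ea, eb, commutatorElement_def,
        inv_inv, Subgroup.coe_mul, Subgroup.coe_inv, mul_assoc]
      rfl
    have := r1 i (List.mem_range.2 i.2) j (List.mem_range.2 j.2)
    rw [Bool.or_eq_true] at this
    exact this.imp (oneword _ _ hl hx).1 (zword _ _ hl hx).1
  · intro a ha
    obtain ⟨i, rfl⟩ := ker_eq hF a ha
    have hl : ∀ c ∈ [(qEl i).1, (qEl i).1], valid 315 c = true := by simp [hv]
    have hx : wperm 315 [(qEl i).1, (qEl i).1] = ((qS i * qS i : stab0) :) := by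
      simp only [wperm_cons, wperm_nil, mul_one]; rfl
    have := r2 i (List.mem_range.2 i.2)
    rw [Bool.or_eq_true] at this
    exact this.imp (oneword _ _ hl hx).1 (zword _ _ hl hx).1
  · intro c hc hall
    obtain ⟨i, rfl⟩ := ker_eq hF c hc
    rcases r3 i (List.mem_range.2 i.2) with h | ⟨j, hj, h⟩
    · rw [Bool.or_eq_true] at h
      exact h.imp (oneword _ _ (by simp [hv]) (by simp; rfl)).1 (zword _ _ (by simp [hv]) (by simp; rfl)).1
    · have := (comm i ⟨j, List.mem_range.1 hj⟩).2 ((hall _ (qS_ker ⟨j, List.mem_range.1 hj⟩)).symm)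
      rw [h] at this
      exact Bool.noConfusion this
  · obtain ⟨i, hi, j, hj, h⟩ := r5
    refine ⟨_, qS_ker ⟨i, List.mem_range.1 hi⟩, _, qS_ker ⟨j, List.mem_range.1 hj⟩, fun hc => ?_⟩
    have := (comm ⟨i, List.mem_range.1 hi⟩ ⟨j, List.mem_range.1 hj⟩).2 hc
    rw [h] at this
    exact Bool.noConfusion this
  · refine Equiv.Perm.eq_alternatingGroup_of_index_eq_two ?_
    have := Subgroup.card_mul_index pairHom.range
    rw [hr, Nat.card_perm, Nat.card_fin, show Nat.factorial 5 = 120 from rfl] at this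
    omega

end Cfsg.Lib.J2
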