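import Cfsg.Agent.Spor.J2.Group
import Cfsg.Agent.Spor.J2.Cent

/-!
Involution centralisers in `J₂`.
-/

set_option autoImplicit false
set_option linter.style.haveILetI false

noncomputable section

namespace Cfsg.Lib.J2

open Cfsg.Spor Cfsg.Lib.PermCert

theorem extraspecial_congr {p : ℕ} {E : Type} {E' : Type} [Group E] [Group E'] (f : E ≃* E')
    (h : Cfsg.IsExtraspecial p E) : Cfsg.IsExtraspecial p E' := by
  have hs : Function.Surjective f.toMonoidHom := f.surjective
  have hZ : (Subgroup.center E).map f.toMonoidHom = Subgroup.center E' := by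
    ext y
    obtain ⟨x, rfl⟩ := f.surjective y
    simp only [Subgroup.mem_map, Subgroup.mem_center_iff]
    constructor
    · rintro ⟨x', hx', he⟩ g
      obtain ⟨g', rfl⟩ := f.surjective g
      rw [show f x = f x' from he.symm, ← map_mul, ← map_mul, hx' g']
    · exact fun hy => ⟨x, fun g => f.injective (by rw [map_mul, map_mul]; exact hy _), rfl⟩
  have hC : (commutator E).map f.toMonoidHom = commutator E' := by
    rw [_root_.commutator_def, _root_.commutator_def, Subgroup.map_commutator,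
      Subgroup.map_top_of_surjective _ hs]
  have hF : (frattini E).map f.toMonoidHom = frattini E' := by
    refine le_antisymm (Subgroup.map_le_iff_le_comap.2 (frattini_le_comap_frattini_of_surjective hs)) ?_
    intro y hy
    have h2 := frattini_le_comap_frattini_of_surjective (φ := f.symm.toMonoidHom) f.symm.surjective hy
    exact ⟨f.symm y, h2, f.apply_symm_apply y⟩
  refine ⟨⟨h.1.1.of_equiv f, ?_, ?_⟩, ?_⟩
  · rw [← hF, h.1.2.1, hZ]
  · rw [← hC, h.1.2.2, hZ]
  · rw [← hZ, ← Nat.card_congr ((Subgroup.center E).equivMapOfInjective _ f.injective).toEquiv, h.2]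

theorem centralizer_refl {f : Equiv.Perm icoLeech} (hf : IsIcoReflection f) (hfm : f ∈ twoJ2) :
    ∃ (Q : Subgroup (Subgroup.centralizer {(QuotientGroup.mk ⟨f, hfm⟩ : Cfsg.Spor.J2)})) (_ : Q.Normal),
      Nat.card Q = 32 ∧ Cfsg.IsExtraspecial 2 Q ∧
        Nonempty (↥(Subgroup.centralizer {(QuotientGroup.mk ⟨f, hfm⟩ : Cfsg.Spor.J2)}) ⧸ Q ≃*
          alternatingGroup (Fin 5)) := by
  have hF := frameFaithful
  obtain ⟨g, hg, hgf⟩ := refl_conj hf (sC_refl 0)
  have hs : sC 0 ∈ twoJ2 := hgf ▸ mul_mem (mul_mem hg hfm) (inv_mem hg)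
  let gq : Cfsg.Spor.J2 := QuotientGroup.mk ⟨g, hg⟩
  let e : Cfsg.Spor.J2 ≃* lineGroup := (MulAut.conj gq).trans j2Equiv
  have he : ((e (QuotientGroup.mk ⟨f, hfm⟩) : lineGroup) : Equiv.Perm (Fin 315)) = zLine := by
    have e1 : (MulAut.conj gq) (QuotientGroup.mk ⟨f, hfm⟩) = QuotientGroup.mk ⟨sC 0, hs⟩ := by
      rw [MulAut.conj_apply, ← QuotientGroup.mk_inv, ← QuotientGroup.mk_mul, ← QuotientGroup.mk_mul]
      exact congrArg QuotientGroup.mk (Subtype.ext hgf)
    show ((j2Equiv ((MulAut.conj gq) (QuotientGroup.mk ⟨f, hfm⟩)) : lineGroup) : Equiv.Perm (Fin 315)) = zLine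
    rw [e1]
    exact rho_sC 0
  set C := Subgroup.centralizer {(QuotientGroup.mk ⟨f, hfm⟩ : Cfsg.Spor.J2)}
  set t : Cfsg.Spor.J2 := QuotientGroup.mk ⟨f, hfm⟩
  have hmem : ∀ x : Cfsg.Spor.J2, x ∈ C ↔ ((e x : lineGroup) : Equiv.Perm (Fin 315)) ∈ stab0 := by
    intro x
    rw [← centralizer_zLine hF (e x).2, Subgroup.mem_centralizer_singleton_iff, ← he]
    constructor
    · intro h
      show ((e x * e t : lineGroup) : Equiv.Perm (Fin 315)) = ((e t * e x : lineGroup) : Equiv.Perm (Fin 315))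
      rw [← map_mul, ← map_mul, h]
    · intro h
      have h' : e x * e t = e t * e x := Subtype.ext h.eq
      rw [← map_mul, ← map_mul] at h'
      exact e.injective h'
  let ψ : C ≃* stab0 :=
    { toFun := fun x => ⟨(e x.1 : lineGroup), (hmem _).1 x.2⟩
      invFun := fun y => ⟨e.symm ⟨y.1, stab0_le y.2⟩, (hmem _).2 (by rw [e.apply_symm_apply]; exact y.2)⟩
      left_inv := fun x => Subtype.ext (e.symm_apply_apply _)
      right_inv := fun y => Subtype.ext (by simp)
      map_mul' := fun x y => Subtype.ext (by simp) }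
  obtain ⟨-, -, hex, hk, hr⟩ := centralizer_data hF
  let φ : C →* Equiv.Perm (Fin 5) := pairHom.comp ψ.toMonoidHom
  have hker : φ.ker = pairHom.ker.comap ψ.toMonoidHom := rfl
  let eK : φ.ker ≃* pairHom.ker :=
    { toFun := fun x => ⟨ψ x.1, x.2⟩
      invFun := fun y => ⟨ψ.symm y.1, by rw [hker, Subgroup.mem_comap]; simp⟩
      left_inv := fun x => Subtype.ext (ψ.symm_apply_apply _)
      right_inv := fun y => Subtype.ext (ψ.apply_symm_apply _)
      map_mul' := fun x y => Subtype.ext (map_mul ψ _ _) }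
  refine ⟨φ.ker, inferInstance, (Nat.card_congr eK.toEquiv).trans hk, extraspecial_congr eK.symm hex, ?_⟩
  have hrange : φ.range = alternatingGroup (Fin 5) := by
    rw [← hr]
    refine le_antisymm ?_ ?_
    · rintro _ ⟨x, rfl⟩; exact ⟨ψ x, rfl⟩
    · rintro _ ⟨y, rfl⟩
      exact ⟨ψ.symm y, congrArg pairHom (ψ.apply_symm_apply y)⟩
  exact ⟨(QuotientGroup.quotientKerEquivRange φ).trans (MulEquiv.subgroupCongr hrange)⟩

end Cfsg.Lib.J2

end
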