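import Cfsg.Agent.Spor.J2.Word
import Cfsg.Agent.Schur.ExtraspecialThree
import Cfsg.Agent.Schur.UniversalCover

/-!
The multiplier of the Hall–Janko group has order two.
-/

set_option autoImplicit false
set_option linter.style.haveILetI false
set_option maxRecDepth 100000
set_option maxHeartbeats 2000000
set_option Elab.async false

noncomputable section

namespace Cfsg.Lib.J2

open Quaternion Cfsg.Spor
open Cfsg.Lib.Schur (PcCert wordVal)
open scoped commutatorElement

theorem pc_ok : j2Pc.ok = true := by decide +kernel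

theorem pc_closed : closedOK pcWords pcElems pcKeys = true ∧ pcElems.length = 256 ∧ pcWords.length = 8 := by
  decide +kernel

theorem three_closed : closedOK threeWords threeElems threeKeys = true ∧ threeElems.length = 27 ∧
    threeWords.length = 2 := by decide +kernel

theorem five_closed : closedOK fiveWords fiveElems fiveKeys = true ∧ fiveElems.length = 25 ∧
    fiveWords.length = 2 := by decide +kernel

/-- A representative involution. -/
def repWord (b : Bool) : List ℕ := bif b then negWord ++ [0] else [0]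

theorem two_facts : (List.range 8).all (fun j => (List.range 8).all fun i =>
      Nat.blt j i || ((j2Pc.tail j i).all (fun k => Nat.blt k 8) &&
        key (flat pcWords [j, i]) == key (flat pcWords (j2Pc.tail j i)))) = true ∧
    ([false, true].all fun b => key (repWord b ++ repWord b) == key []) = true ∧
    sqConj.length = j2Pc.squares.length ∧
    ((j2Pc.squares.zip sqConj).all fun p =>
      key (flat pcWords p.1.1 ++ p.2) == key (p.2 ++ repWord p.1.2)) = true ∧
    (j2Pc.fuse.all fun f => (List.range f.2.1.length).all fun k =>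
      key (fuseWord ++ flat pcWords (f.2.1.getD k [])) == key (flat pcWords (f.2.2.1.getD k []) ++ fuseWord)) = true ∧
    j2Pc.fuse.length ≤ 1 ∧ j2Pc.n = 8 := by
  decide +kernel

theorem odd_facts :
    (let a := threeWords.getD 0 []; let b := threeWords.getD 1 []
     key (a ++ a ++ a) == key [] && key (b ++ b ++ b) == key [] && key (a ++ b) == key (threeC ++ b ++ a) &&
       key (a ++ threeC) == key (threeC ++ a) && key (b ++ threeC) == key (threeC ++ b) &&
       !(key threeC == key []) && key (threeN ++ a) == key (a ++ a ++ threeN) &&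
       key (threeN ++ b) == key (b ++ b ++ threeN)) = true ∧
    (let a := fiveWords.getD 0 []; let b := fiveWords.getD 1 []
     key (a ++ a ++ a ++ a ++ a) == key [] && key (a ++ b) == key (b ++ a) &&
       key (fiveN ++ a) == key (b ++ fiveN) && key (fiveN ++ b) == key (a ++ fiveN)) = true := by
  decide +kernel

theorem neg_facts : key (commU ++ commW) = key (negWord ++ commW ++ commU) ∧
    ∀ t : Fin 3, act negWord (unitOne * 512 + t) / 512 < 120 ∧
      unitAt (act negWord (unitOne * 512 + t) / 512) = ⟨-2, 0, 0, 0, 0, 0, 0, 0⟩ ∧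
      act negWord (unitOne * 512 + t) % 512 = t := by
  decide +kernel

instance : Finite twoJ2 := Nat.finite_of_card_ne_zero (by rw [card_twoJ2]; norm_num)

theorem el_negWord : el negWord = negG := by
  refine eq_iff_axes.2 fun t => ?_
  rw [(act_spec negWord (start_spec t).1).2 _ (start_spec t).2]
  obtain ⟨-, h1, h2⟩ := neg_facts.2 t
  have ei : (⟨act negWord (unitOne * 512 + t) % 512 % 315, Nat.mod_lt _ (by omega)⟩ : Fin 315) =
      ⟨t, by omega⟩ := by
    have := t.2
    exact Fin.ext (by show act negWord (unitOne * 512 + (t : ℕ)) % 512 % 315 = (t : ℕ); rw [h2]; omega)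
  rw [VV, h1, ei, fn, negG_apply,
    show val (⟨-2, 0, 0, 0, 0, 0, 0, 0⟩ : IQ) = -1 by apply Quaternion.ext <;> simp [val], neg_one_smul]
  rfl

theorem factorization_two : (Nat.card twoJ2).factorization 2 = 8 ∧ (Nat.card twoJ2).factorization 3 = 3 ∧
    (Nat.card twoJ2).factorization 5 = 2 := by
  rw [card_twoJ2]
  have key : ∀ p k : ℕ, p.Prime → p ^ k ∣ 1209600 → ¬ p ^ (k + 1) ∣ 1209600 →
      (1209600 : ℕ).factorization p = k := fun p k hp h1 h2 => by
    have a := (hp.pow_dvd_iff_le_factorization (by norm_num : (1209600 : ℕ) ≠ 0)).mp h1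
    have b : ¬ k + 1 ≤ (1209600 : ℕ).factorization p :=
      fun h => h2 ((hp.pow_dvd_iff_le_factorization (by norm_num)).mpr h)
    omega
  exact ⟨key 2 8 Nat.prime_two (by norm_num) (by norm_num), key 3 3 Nat.prime_three (by norm_num) (by norm_num),
    key 5 2 (by norm_num) (by norm_num) (by norm_num)⟩

theorem wordVal_el (w : List ℕ) :
    wordVal (fun k => el (pcWords.getD k [])) w = el (flat pcWords w) := by
  induction w with
  | nil => rfl
  | cons j w ih => rw [Cfsg.Lib.Schur.wordVal_cons, ih, flat_cons, el_append]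

theorem pair_image (ws : List (List ℕ)) (h : ws.length = 2) :
    (fun j => el (ws.getD j [])) '' {j | j < ws.length} = {el (ws.getD 0 []), el (ws.getD 1 [])} := by
  ext g
  simp only [Set.mem_image, Set.mem_setOf_eq, Set.mem_insert_iff, Set.mem_singleton_iff, h]
  constructor
  · rintro ⟨j, hj, rfl⟩
    interval_cases j <;> simp
  · rintro (rfl | rfl)
    exacts [⟨0, by norm_num, rfl⟩, ⟨1, by norm_num, rfl⟩]

theorem two_not_dvd_ker {Γ : Type} [Group Γ] [Finite Γ] {σ : Γ →* twoJ2} (hσ : Cfsg.IsStemExtension σ) :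
    ¬ 2 ∣ Nat.card σ.ker := by
  obtain ⟨hrules, hrep, hlen, hsq, hfus, hf1, hn⟩ := two_facts
  simp only [List.all_eq_true, Bool.and_eq_true, Bool.or_eq_true, beq_iff_eq, Nat.blt, Nat.ble_eq,
    List.mem_range] at hrules hrep hsq hfus
  obtain ⟨hc, hcard, hlw⟩ := pc_closed
  have hcl : Nat.card (Subgroup.closure ((fun k => el (pcWords.getD k [])) '' {i | i < j2Pc.n})) = 2 ^ 8 := by
    have := closure_card hc
    rw [hlw, hcard] at this
    rw [hn, this]
    norm_num
  refine j2Pc.two_not_dvd pc_ok hσ (fun k => el (pcWords.getD k [])) (fun b => el (repWord b))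
    (fun b => ?_) ?_ ?_ ?_ hf1 (by rw [hcl, factorization_two.1]) (by rw [hcl, hn])
  · rw [← el_append, ← el_nil, el_eq_iff]
    exact hrep b (by cases b <;> simp)
  · intro j hj i hi
    rcases hrules j (hn ▸ hj) i (by omega) with h | ⟨-, h⟩
    · omega
    · rw [wordVal_el, ← el_append, el_eq_iff, ← h]
      simp [flat]
  · intro s hs
    obtain ⟨k, hk, rfl⟩ := List.getElem_of_mem hs
    have hk' : k < sqConj.length := hlen ▸ hk
    refine ⟨el sqConj[k], ?_⟩
    have h := hsq (j2Pc.squares[k], sqConj[k]) (List.mem_iff_getElem.2 ⟨k, by rw [List.length_zip]; omega, List.getElem_zip⟩)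
    rw [wordVal_el, eq_mul_inv_iff_mul_eq, ← el_append, ← el_append, el_eq_iff]
    exact h
  · intro f hf
    refine ⟨el fuseWord, fun k hk => ?_⟩
    rw [wordVal_el, wordVal_el, mul_inv_eq_iff_eq_mul, ← el_append, ← el_append, el_eq_iff]
    exact hfus f hf k hk

theorem twoJ2_ker_eq_bot {Γ : Type} [Group Γ] [Finite Γ] {σ : Γ →* twoJ2} (hσ : Cfsg.IsStemExtension σ) :
    σ.ker = ⊥ := by
  refine Cfsg.Lib.Schur.ker_eq_bot_of_sylow hσ fun p hp => ?_
  haveI := hp
  obtain ⟨h3f, h5f⟩ := odd_facts
  simp only [Bool.and_eq_true, beq_iff_eq, Bool.not_eq_true', beq_eq_false_iff_ne, ne_eq, ← el_eq_iff] at h3f h5f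
  by_cases h2 : p = 2
  · subst h2
    refine ⟨default, fun z hz hzS => ?_⟩
    by_contra hz1
    have hne' := two_not_dvd_ker hσ
    have hzp : IsPGroup 2 (Subgroup.zpowers z) :=
      (default : Sylow 2 Γ).2.to_le (Subgroup.zpowers_le.mpr (Subgroup.commutator_le_self _ hzS))
    obtain ⟨k, hk⟩ := hzp.exists_card_eq
    rw [Nat.card_zpowers] at hk
    have hd2 : orderOf z ∣ Nat.card σ.ker := by
      rw [← Nat.card_zpowers]; exact Subgroup.card_dvd_of_le (Subgroup.zpowers_le.mpr hz)
    rcases k with _ | k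
    · exact hz1 (orderOf_eq_one_iff.mp hk)
    · exact hne' (dvd_trans (by rw [hk]; exact dvd_pow_self 2 (Nat.succ_ne_zero k)) hd2)
  by_cases h3 : p = 3
  · subst h3
    obtain ⟨⟨⟨⟨⟨⟨⟨ea, eb⟩, eab⟩, eac⟩, ebc⟩, ec⟩, ena⟩, enb⟩ := h3f
    set A := el (threeWords.getD 0 []) with hA
    set B := el (threeWords.getD 1 []) with hB
    simp only [el_append, el_nil, ← hA, ← hB] at ea eb eab eac ebc ec ena enb
    have a3 : A ^ 3 = 1 := by rw [pow_three, ← mul_assoc]; exact ea
    have b3 : B ^ 3 = 1 := by rw [pow_three, ← mul_assoc]; exact eb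
    have hcc : ⁅A, B⁆ = el threeC := by rw [commutatorElement_def, eab]; group
    have hai : A⁻¹ = A * A := inv_eq_of_mul_eq_one_right (by rw [← mul_assoc]; exact ea)
    have hbi : B⁻¹ = B * B := inv_eq_of_mul_eq_one_right (by rw [← mul_assoc]; exact eb)
    refine Cfsg.Lib.Schur.exists_sylow_extraspecial hσ (by norm_num) A B (el threeN) ?_ a3 b3
      (by rw [hcc]; exact eac) (by rw [hcc]; exact ebc) (by rw [hcc]; exact ec)
      (by rw [mul_inv_eq_iff_eq_mul, hai]; exact ena) (by rw [mul_inv_eq_iff_eq_mul, hbi]; exact enb)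
    obtain ⟨hc, hl, hw⟩ := three_closed
    have := closure_card hc
    rw [pair_image _ hw, hl] at this
    rw [this, factorization_two.2.1]
    norm_num
  by_cases h5 : p = 5
  · subst h5
    obtain ⟨⟨⟨ea, eab⟩, ena⟩, enb⟩ := h5f
    set A := el (fiveWords.getD 0 []) with hA
    set B := el (fiveWords.getD 1 []) with hB
    simp only [el_append, el_nil, ← hA, ← hB] at ea eab ena enb
    refine Cfsg.Lib.Schur.exists_sylow_swap hσ (by norm_num) A B (el fiveN) ?_ ?_ eab
      (by rw [mul_inv_eq_iff_eq_mul]; exact ena) (by rw [mul_inv_eq_iff_eq_mul]; exact enb)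
    · obtain ⟨hc, hl, hw⟩ := five_closed
      have := closure_card hc
      rw [pair_image _ hw, hl] at this
      rw [this, factorization_two.2.2]
      norm_num
    · simpa [pow_succ] using ea
  refine Cfsg.Lib.Schur.exists_sylow_cyclic hσ ?_
  rw [card_twoJ2]
  intro hd
  have hp' := hp.out
  have hdp : p ∣ 2 ^ 8 * 3 ^ 3 * 5 ^ 2 * 7 := by
    norm_num; exact dvd_trans (dvd_pow_self p two_ne_zero) hd
  have hone : ∀ {q : ℕ}, q.Prime → p ∣ q → p = q := fun hq h => (Nat.prime_dvd_prime_iff_eq hp' hq).mp h
  rcases (Nat.Prime.dvd_mul hp').mp hdp with h | h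
  · rcases (Nat.Prime.dvd_mul hp').mp h with h | h
    · rcases (Nat.Prime.dvd_mul hp').mp h with h | h
      · exact h2 (hone Nat.prime_two (hp'.dvd_of_dvd_pow h))
      · exact h3 (hone Nat.prime_three (hp'.dvd_of_dvd_pow h))
    · exact h5 (hone (by norm_num) (hp'.dvd_of_dvd_pow h))
  · have := hone (by norm_num) h
    subst this
    norm_num at hd

/-- The projection onto the simple group. -/
def coverMap : twoJ2 →* Cfsg.Spor.J2 := QuotientGroup.mk' (Subgroup.center twoJ2)

theorem coverMap_ker : coverMap.ker = rhoG.ker := by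
  rw [coverMap, QuotientGroup.ker_mk', center_eq]

theorem twoJ2_perfect : commutator twoJ2 = ⊤ := by
  have hz : negG ∈ commutator twoJ2 := by
    have e : ⁅el commU, el commW⁆ = negG := by
      have h := el_eq_iff.2 neg_facts.1
      rw [el_append, el_append, el_append, el_negWord] at h
      rw [commutatorElement_def, h]
      group
    rw [← e, commutator_def]
    exact Subgroup.commutator_mem_commutator (Subgroup.mem_top _) (Subgroup.mem_top _)
  have hker : coverMap.ker ≤ commutator twoJ2 := by
    intro g hg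
    rw [coverMap_ker, MonoidHom.mem_ker, rhoG_ker] at hg
    rcases hg with rfl | rfl
    exacts [one_mem _, hz]
  have := J2_simple
  have him : (commutator twoJ2).map coverMap = ⊤ := by
    rw [commutator_def, Subgroup.map_commutator, Subgroup.map_top_of_surjective coverMap (QuotientGroup.mk'_surjective _),
      ← commutator_def]
    refine (Subgroup.Normal.eq_bot_or_eq_top inferInstance).resolve_left fun h => ?_
    obtain ⟨a, b, hab⟩ := J2_noncomm
    refine hab (commutatorElement_eq_one_iff_mul_comm.1 ?_)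
    rw [← Subgroup.mem_bot, ← h, commutator_def]
    exact Subgroup.commutator_mem_commutator (Subgroup.mem_top _) (Subgroup.mem_top _)
  refine eq_top_iff.2 fun g _ => ?_
  obtain ⟨d, hd, hdg⟩ : coverMap g ∈ (commutator twoJ2).map coverMap := him ▸ Subgroup.mem_top _
  have : d⁻¹ * g ∈ coverMap.ker := by rw [MonoidHom.mem_ker, map_mul, map_inv, hdg, inv_mul_cancel]
  simpa using mul_mem hd (hker this)

theorem coverMap_stem : Cfsg.IsStemExtension coverMap :=
  ⟨QuotientGroup.mk'_surjective _, by rw [coverMap, QuotientGroup.ker_mk'], by rw [twoJ2_perfect]; exact le_top⟩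

theorem multiplier_J2 : Cfsg.HasCyclicSchurMultiplier Cfsg.Spor.J2 2 := by
  have hk : Nat.card coverMap.ker = 2 := by rw [coverMap_ker, card_ker]
  haveI : Finite Cfsg.Spor.J2 := Nat.finite_of_card_ne_zero (by rw [card_J2]; norm_num)
  exact Cfsg.Lib.Schur.hasCyclicSchurMultiplier_of_cover coverMap coverMap_stem twoJ2_perfect
    (fun _ _ _ _ hτ => twoJ2_ker_eq_bot hτ) (isCyclic_of_prime_card (hp := ⟨Nat.prime_two⟩) hk) hk

end Cfsg.Lib.J2

end
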