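import Cfsg.Agent.Spor.J2.OrdersSetup
import Cfsg.Agent.LocalThree.HallJankoType.SecondInvol
import Cfsg.Agent.LocalThree.HallJankoType.FiveFull
import Cfsg.Agent.LocalThree.HallJankoType.SylowFive
import Cfsg.Agent.SpecA10.Spectrum

/-!
Element orders of `J₂`.
-/

set_option autoImplicit false
set_option linter.style.haveILetI false
set_option maxRecDepth 100000
set_option maxHeartbeats 1000000

noncomputable section

namespace Cfsg.Lib.J2

open Cfsg.Lib.HallJankoType Subgroup

/-- maximal element orders -/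
def maxJ2 : List ℕ := [7, 8, 10, 12, 15]

theorem order_words : orderWords.map (·.1) = maxJ2 ∧ ∀ p ∈ orderWords, fr (rep p.1 p.2) = fr [] ∧
    ∀ m, m < p.1 → 0 < m → fr (rep m p.2) ≠ fr [] := by decide +kernel

theorem lineGroup_wit : ∀ d ∈ maxJ2, ∃ g : lineGroup, orderOf g = d := by
  intro d hd
  rw [← order_words.1] at hd
  obtain ⟨p, hp, rfl⟩ := List.mem_map.1 hd
  obtain ⟨h1, h2⟩ := order_words.2 p hp
  have hpos : 0 < p.1 := by
    have : p.1 ∈ maxJ2 := order_words.1 ▸ List.mem_map.2 ⟨p, hp, rfl⟩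
    revert this; generalize p.1 = n; intro this; revert this n; decide
  refine ⟨el p.2, (orderOf_eq_iff hpos).2 ⟨?_, fun m hm hm0 => ?_⟩⟩
  · rw [← el_rep, ← el_nil, el_eq_iff]; exact h1
  · rw [← el_rep, ← el_nil, Ne, el_eq_iff]; exact h2 m hm hm0

theorem seven_facts : fr (rep 7 sevenWord) = fr [] ∧ fr sevenWord ≠ fr [] ∧
    fr (sixWord ++ sevenWord) = fr (rep 3 sevenWord ++ sixWord) ∧
    ∀ k : Fin 6, (k : ℕ) ≠ 0 → fr (rep k sixWord ++ sevenWord) ≠ fr (sevenWord ++ rep k sixWord) := by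
  decide +kernel

theorem three_facts : threeElems.length = 27 ∧ (threeElems.getD 0 ([], [])).1 = [] ∧
    (threeElems.map fun p => fr p.1).Nodup ∧
    ∀ p ∈ threeElems, fr (rep 3 p.1) = fr [] ∧
      ∀ j : Fin 2, p.2.getD j 27 < 27 ∧
        fr (threeGens.getD j [] ++ p.1) = fr (threeElems.getD (p.2.getD j 27) ([], [])).1 := by
  decide +kernel

/-- a Sylow 3-subgroup -/
def threeSub : Subgroup lineGroup := closure {el (threeGens.getD 0 []), el (threeGens.getD 1 [])}

theorem threeSub_elems {g : lineGroup} (hg : g ∈ threeSub) : ∃ p ∈ threeElems, g = el p.1 := by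
  change g ∈ threeSub.toSubmonoid at hg
  simp only [threeSub, Subgroup.closure_toSubmonoid_of_finite] at hg
  obtain ⟨hlen, h0, -, hall⟩ := three_facts
  have hm : ∀ i, i < 27 → threeElems.getD i ([], []) ∈ threeElems := fun i hi => by
    rw [List.getD_eq_getElem?_getD, List.getElem?_eq_getElem (hlen ▸ hi)]; exact List.getElem_mem _
  induction hg using Submonoid.closure_induction_left with
  | one => exact ⟨_, hm 0 (by norm_num), by rw [h0, el_nil]⟩
  | mul_left x hx y hy ih =>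
    obtain ⟨p, hp, rfl⟩ := ih
    obtain ⟨j, rfl⟩ : ∃ j : Fin 2, x = el (threeGens.getD j []) := by
      rcases hx with rfl | rfl
      exacts [⟨0, rfl⟩, ⟨1, rfl⟩]
    obtain ⟨h1, h2⟩ := (hall p hp).2 j
    exact ⟨_, hm _ h1, by rw [← el_append, el_eq_iff]; exact h2⟩

theorem threeSub_exp {g : lineGroup} (hg : g ∈ threeSub) : g ^ 3 = 1 := by
  obtain ⟨p, hp, rfl⟩ := threeSub_elems hg
  rw [← el_rep, ← el_nil, el_eq_iff]
  exact (three_facts.2.2.2 p hp).1

theorem threeElems_tree : ∀ i : Fin 27, (i : ℕ) = 0 ∨ ∃ j : Fin 2, ∃ k ∈ List.range i,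
    (threeElems.getD i ([], [])).1 = threeGens.getD j [] ++ (threeElems.getD k ([], [])).1 := by decide +kernel

theorem card_threeSub : 27 ≤ Nat.card threeSub := by
  have hmem : ∀ i, i < 27 → el (threeElems.getD i ([], [])).1 ∈ threeSub := by
    intro i
    induction i using Nat.strong_induction_on with
    | _ i ih =>
      intro hi
      rcases threeElems_tree ⟨i, hi⟩ with h | ⟨j, k, hk, h⟩
      · dsimp only at h
        subst h
        rw [three_facts.2.1, el_nil]
        exact one_mem _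
      · have hk' := List.mem_range.1 hk
        rw [h, el_append]
        refine mul_mem (subset_closure ?_) (ih k hk' (lt_trans hk' hi))
        fin_cases j
        exacts [Or.inl rfl, Or.inr rfl]
  obtain ⟨hlen, -, hnd, -⟩ := three_facts
  have := Nat.card_le_card_of_injective (fun i : Fin 27 => (⟨_, hmem i i.2⟩ : threeSub)) (fun i j h => by
    have h' := (el_eq_iff _ _).1 (congrArg Subtype.val h)
    have hi' : (i : ℕ) < threeElems.length := by rw [hlen]; exact i.2
    have hj' : (j : ℕ) < threeElems.length := by rw [hlen]; exact j.2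
    simp only [List.getD_eq_getElem?_getD, List.getElem?_eq_getElem hi', List.getElem?_eq_getElem hj',
      Option.getD_some] at h'
    have hinj := List.nodup_iff_injective_get.1 hnd (a₁ := ⟨i, by simpa using hi'⟩) (a₂ := ⟨j, by simpa using hj'⟩)
      (by simpa using h')
    exact Fin.ext (congrArg Fin.val hinj :))
  simpa using this

theorem no_nine (g : lineGroup) : orderOf g ≠ 9 := by
  intro h9
  haveI : Fact (Nat.Prime 3) := ⟨Nat.prime_three⟩
  have hP : IsPGroup 3 threeSub := fun x => ⟨1, Subtype.ext (by simpa using threeSub_exp x.2)⟩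
  obtain ⟨T, hT⟩ := hP.exists_le_sylow
  have hTc : Nat.card T = 27 := by
    rw [T.card_eq_multiplicity, card_lineGroup frameFaithful, show (604800 : ℕ) = 3 ^ 3 * 22400 by norm_num,
      Nat.factorization_mul (by norm_num) (by norm_num), Finsupp.add_apply, Nat.Prime.factorization_pow Nat.prime_three,
      Finsupp.single_eq_same, Nat.factorization_eq_zero_of_not_dvd (n := 22400) (by norm_num)]
    norm_num
  have hTP : (T : Subgroup lineGroup) = threeSub :=
    (Subgroup.eq_of_le_of_card_ge hT (by rw [hTc]; exact card_threeSub)).symm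
  obtain ⟨c, hc⟩ := Cfsg.Lib.InvolCalc.exists_conj_le T (H := zpowers g)
    (IsPGroup.of_card (n := 2) (by rw [Nat.card_zpowers, h9]; norm_num))
  have h3 := threeSub_exp (hTP ▸ hc g (mem_zpowers g))
  have : orderOf (c⁻¹ * g * c) = 9 := by
    rw [← h9]
    have := orderOf_injective (MulAut.conj c⁻¹).toMonoidHom (MulAut.conj c⁻¹).injective g
    simpa using this
  have := orderOf_dvd_of_pow_eq_one h3
  rw [‹orderOf (c⁻¹ * g * c) = 9›] at this
  norm_num at this

theorem seven_cent_self {d : lineGroup} (od : orderOf d = 7) : Nat.card (Cz d) = 7 := by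
  obtain ⟨Q, a, σ, H⟩ := exists_hypG
  haveI : Fact (Nat.Prime 7) := ⟨by norm_num⟩
  obtain ⟨f7, f1, fn, fk⟩ := seven_facts
  set d₀ := el sevenWord
  set u := el sixWord
  have od₀ : orderOf d₀ = 7 := orderOf_eq_prime (by rw [← el_rep, ← el_nil, el_eq_iff]; exact f7)
    (by rw [← el_nil, Ne, el_eq_iff]; exact f1)
  have hud : u * d₀ = d₀ ^ 3 * u := by rw [← el_rep, ← el_append, ← el_append, el_eq_iff]; exact fn
  have hu : u ∈ normalizer (zpowers d₀ : Set lineGroup) := by
    rw [Cfsg.Lib.HallJankoType.mem_normalizer_zpowers]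
    have e : u * d₀ * u⁻¹ = d₀ ^ 3 := by rw [hud, mul_inv_cancel_right]
    rw [e]
    refine Subgroup.eq_of_le_of_card_ge (zpowers_le.2 (pow_mem (mem_zpowers d₀) 3)) ?_
    rw [Nat.card_zpowers, Nat.card_zpowers, orderOf_pow' d₀ (by norm_num), od₀]
    norm_num
  obtain ⟨i, e, hC, hN, hcase⟩ := H.seven_cent od₀
  have hbig : 6 * Nat.card (Cz d₀) ≤ Nat.card (normalizer (zpowers d₀ : Set lineGroup)) := by
    have hCN : ∀ c ∈ Cz d₀, c ∈ normalizer (zpowers d₀ : Set lineGroup) := fun c hc => by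
      rw [Cfsg.Lib.HallJankoType.mem_normalizer_zpowers, (mem_Cz.1 hc).eq, mul_inv_cancel_right]
    have := Nat.card_le_card_of_injective
      (fun p : Fin 6 × Cz d₀ => (⟨u ^ (p.1 : ℕ) * p.2, mul_mem (pow_mem hu _) (hCN _ p.2.2)⟩ :
        normalizer (zpowers d₀ : Set lineGroup))) (by
      rintro ⟨k, c⟩ ⟨l, c'⟩ h
      have h' : u ^ (k : ℕ) * c = u ^ (l : ℕ) * c' := congrArg Subtype.val h
      have key : ∀ (k l : Fin 6) (c c' : Cz d₀), (k : ℕ) ≤ l → u ^ (k : ℕ) * c = u ^ (l : ℕ) * c' → k = l := by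
        intro k l c c' hkl h
        by_contra hne
        have hlt : (l : ℕ) - k < 6 := by omega
        have hx : u ^ ((l : ℕ) - k) = (c : lineGroup) * (c' : lineGroup)⁻¹ := by
          rw [eq_mul_inv_iff_mul_eq]
          refine mul_left_cancel (a := u ^ (k : ℕ)) ?_
          rw [← mul_assoc, ← pow_add, Nat.add_sub_cancel' hkl, h]
        refine fk ⟨_, hlt⟩ (by simp only; intro h0; exact hne (Fin.ext (by omega))) ?_
        rw [← el_eq_iff, el_append, el_append, el_rep, hx]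
        exact (mem_Cz.1 (mul_mem c.2 (inv_mem c'.2))).eq
      have hkl : k = l := by
        rcases le_total (k : ℕ) l with h1 | h1
        exacts [key k l c c' h1 h', (key l k c' c h1 h'.symm).symm]
      subst hkl
      rw [show c = c' from Subtype.ext (mul_left_cancel h')])
    simpa [Nat.card_prod] using this
  have hi : i = 0 := by
    rw [hN] at hbig
    rcases hcase with ⟨h, -⟩ | ⟨-, rfl⟩ | ⟨-, rfl⟩ | ⟨-, rfl⟩
    · exact h
    all_goals (have := Nat.card_pos (α := Cz d₀); omega)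
  subst hi
  rw [pow_zero, mul_one] at hC
  -- all subgroups of order seven are conjugate
  obtain ⟨T⟩ : Nonempty (Sylow 7 lineGroup) := inferInstance
  have hTc : Nat.card T = 7 := by
    rw [T.card_eq_multiplicity, card_lineGroup frameFaithful, show (604800 : ℕ) = 7 ^ 1 * 86400 by norm_num,
      Nat.factorization_mul (by norm_num) (by norm_num), Finsupp.add_apply,
      Nat.Prime.factorization_pow (by norm_num : Nat.Prime 7), Finsupp.single_eq_same,
      Nat.factorization_eq_zero_of_not_dvd (n := 86400) (by norm_num)]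
    norm_num
  have conjT : ∀ x : lineGroup, orderOf x = 7 → ∃ c, Nat.card (Cz x) = Nat.card (Cz (c⁻¹ * x * c)) ∧
      zpowers (c⁻¹ * x * c) = (T : Subgroup lineGroup) := by
    intro x ox
    obtain ⟨c, hc⟩ := Cfsg.Lib.InvolCalc.exists_conj_le T (H := zpowers x)
      (IsPGroup.of_card (n := 1) (by rw [Nat.card_zpowers, ox, pow_one]))
    refine ⟨c, by rw [← card_Cz_conj c⁻¹ x, inv_inv], ?_⟩
    refine Subgroup.eq_of_le_of_card_ge (zpowers_le.2 (hc x (mem_zpowers x))) ?_
    rw [Nat.card_zpowers, hTc]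
    have := orderOf_injective (MulAut.conj c⁻¹).toMonoidHom (MulAut.conj c⁻¹).injective x
    simp at this
    rw [this, ox]
  obtain ⟨c, hc1, hc2⟩ := conjT d od
  obtain ⟨c₀, hc01, hc02⟩ := conjT d₀ od₀
  have hsame : ∀ a b : lineGroup, zpowers a = zpowers b → Cz a = Cz b := fun a b h => by
    show centralizer ({a} : Set lineGroup) = centralizer {b}
    rw [← centralizer_closure, ← centralizer_closure {b}, ← zpowers_eq_closure, ← zpowers_eq_closure, h]
  rw [hc1, hsame _ _ (hc2.trans hc02.symm), ← hc01, hC]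

theorem not_seven_mul (g : lineGroup) (h : 7 ∣ orderOf g) : orderOf g = 7 := by
  have hpos := orderOf_pos g
  have od : orderOf (g ^ (orderOf g / 7)) = 7 := by
    rw [orderOf_pow_of_dvd (by omega) (Nat.div_dvd_of_dvd h), Nat.div_div_self h hpos.ne']
  have hg : g ∈ Cz (g ^ (orderOf g / 7)) := mem_Cz.2 ((Commute.refl g).pow_right _)
  have := orderOf_dvd_natCard (⟨g, hg⟩ : Cz (g ^ (orderOf g / 7)))
  rw [seven_cent_self od, Subgroup.orderOf_mk] at this
  exact Nat.dvd_antisymm this h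

theorem alt_five_pow : ∀ x : alternatingGroup (Fin 5), ∃ k ∈ [2, 3, 5], x ^ k = 1 := by decide +kernel

theorem no_twentyfive (g : lineGroup) : orderOf g ≠ 25 := by
  intro h
  obtain ⟨Q, a, σ, H⟩ := exists_hypG
  haveI : Fact (Nat.Prime 5) := ⟨by norm_num⟩
  obtain ⟨T, hT⟩ := (IsPGroup.of_card (p := 5) (G := zpowers g) (n := 2)
    (by rw [Nat.card_zpowers, h]; norm_num)).exists_le_sylow
  obtain ⟨-, hc, -, f₁, f₂, m₁, m₂, o₁, o₂, hne, -⟩ := H.sylow_five T
  have hTg : (T : Subgroup lineGroup) = zpowers g :=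
    (Subgroup.eq_of_le_of_card_ge hT (by rw [hc, Nat.card_zpowers, h])).symm
  have key : ∀ f ∈ (T : Subgroup lineGroup), orderOf f = 5 → zpowers f = zpowers (g ^ 5) := by
    intro f hf of
    rw [hTg, mem_zpowers_iff] at hf
    obtain ⟨i, rfl⟩ := hf
    refine Subgroup.eq_of_le_of_card_ge (zpowers_le.2 ?_) (by
      rw [Nat.card_zpowers, Nat.card_zpowers, of, orderOf_pow' g (by norm_num), h]; norm_num)
    have h1 : g ^ (i * 5) = 1 := by
      rw [zpow_mul, show ((5 : ℤ)) = ((5 : ℕ) : ℤ) from rfl, zpow_natCast, ← of, pow_orderOf_eq_one]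
    rw [← orderOf_dvd_iff_zpow_eq_one, h] at h1
    obtain ⟨j, rfl⟩ : (5 : ℤ) ∣ i := by omega
    rw [mem_zpowers_iff]
    exact ⟨j, by rw [← zpow_natCast g 5, ← zpow_mul]; norm_num⟩
  refine hne 1 ?_
  rw [one_mul, inv_one, mul_one, key f₁ m₁ o₁, key f₂ m₂ o₂]

theorem order_even (g : lineGroup) (n : ℕ) (hn : orderOf g = n) (h2 : 2 ∣ n) :
    n ∣ 8 ∨ n ∣ 10 ∨ n ∣ 12 := by
  subst hn
  obtain ⟨Q, a, σ, H⟩ := exists_hypG
  obtain ⟨t, ht⟩ := H.exists_outer
  have hpos := orderOf_pos g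
  set u := g ^ (orderOf g / 2) with hu
  have ou : orderOf u = 2 := by
    rw [hu, orderOf_pow_of_dvd (by omega) (Nat.div_dvd_of_dvd h2), Nat.div_div_self h2 hpos.ne']
  have hgu : Commute g u := (Commute.refl g).pow_right _
  have oconj : ∀ c x : lineGroup, orderOf (c * x * c⁻¹) = orderOf x := fun c x => by
    simpa using orderOf_injective (MulAut.conj c).toMonoidHom (MulAut.conj c).injective x
  rcases H.class_cases ht ou with hcl | hcl
  · obtain ⟨c, hc⟩ := isConj_iff.1 hcl.symm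
    have hx : c * g * c⁻¹ ∈ Cz zG := mem_Cz.2 (hc ▸ (Commute.conj_iff c).2 hgu)
    rw [← oconj c g]
    set x := c * g * c⁻¹
    obtain ⟨k, hk, hσ⟩ := alt_five_pow ⟨σ ⟨x, hx⟩, H.data.sign _⟩
    have hQ : x ^ k ∈ Q := by
      have hk' := congrArg Subtype.val hσ
      simpa using (H.data.ker (⟨x, hx⟩ ^ k)).1 (by rw [map_pow]; simpa using hk')
    have hQ4 : ∀ q ∈ Q, q ^ 4 = 1 := fun q hq => by
      have hx2 := H.data.frame.x2
      rw [show (4 : ℕ) = 2 * 2 from rfl, pow_mul, pow_two, pow_two]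
      rcases hx2.sq q hq with r | r
      · rw [r, one_mul]
      · rw [r]; exact hx2.zz
    have hdvd : orderOf x ∣ k * 4 := orderOf_dvd_of_pow_eq_one (by rw [pow_mul]; exact hQ4 _ hQ)
    have h2x : 2 ∣ orderOf x := by rw [oconj]; exact h2
    simp only [List.mem_cons, List.not_mem_nil, or_false] at hk
    rcases hk with rfl | rfl | rfl
    · exact Or.inl hdvd
    · exact Or.inr (Or.inr hdvd)
    · by_cases h4 : 4 ∣ orderOf x
      · by_cases h5 : 5 ∣ orderOf x
        · exfalso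
          have h20 : orderOf x = 20 := Nat.dvd_antisymm hdvd
            (Nat.Coprime.mul_dvd_of_dvd_of_dvd (by norm_num : Nat.Coprime 5 4) h5 h4)
          have of : orderOf (x ^ 4) = 5 := by rw [orderOf_pow' x (by norm_num), h20]; norm_num
          obtain ⟨-, h4', -⟩ := H.five_z (pow_mem hx 4) of
          refine h4' ?_
          have hm : x ^ 5 ∈ Cz (x ^ 4) := mem_Cz.2 ((Commute.refl x).pow_pow 5 4)
          have := orderOf_dvd_natCard (⟨_, hm⟩ : Cz (x ^ 4))
          rw [Subgroup.orderOf_mk, orderOf_pow' x (by norm_num), h20] at this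
          norm_num at this
          exact this
        · have hc5 : (orderOf x).Coprime 5 := ((Nat.prime_five).coprime_iff_not_dvd.2 h5).symm
          exact Or.inl ((hc5.dvd_of_dvd_mul_left hdvd).trans (by norm_num))
      · refine Or.inr (Or.inl ?_)
        have h20 : orderOf x ∣ 20 := hdvd
        have : ∀ m : ℕ, m ∈ Nat.divisors 20 → ¬ 4 ∣ m → m ∣ 10 := by decide
        exact this _ (Nat.mem_divisors.2 ⟨h20, by norm_num⟩) h4
  · obtain ⟨c, hc⟩ := isConj_iff.1 hcl.symm
    have hx : c * g * c⁻¹ ∈ Cz t := mem_Cz.2 (hc ▸ (Commute.conj_iff c).2 hgu)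
    rw [← oconj c g]
    obtain ⟨⟨e⟩, -⟩ := H.second_invol ht
    set y := e ⟨c * g * c⁻¹, hx⟩ with hy
    obtain ⟨k, hk, hk2⟩ := alt_five_pow y.2
    have hV : ∀ v : Multiplicative (ZMod 2) × Multiplicative (ZMod 2), v ^ 2 = 1 := by decide
    have hdvd : orderOf (c * g * c⁻¹) ∣ 2 * k := by
      refine orderOf_dvd_of_pow_eq_one ?_
      have hy1 : y ^ (2 * k) = 1 := Prod.ext (by rw [Prod.pow_fst, pow_mul, hV, one_pow]; rfl)
        (by rw [Prod.pow_snd, mul_comm, pow_mul, hk2, one_pow]; rfl)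
      rw [hy, ← map_pow] at hy1
      exact congrArg Subtype.val ((MulEquiv.map_eq_one_iff e).1 hy1)
    simp only [List.mem_cons, List.not_mem_nil, or_false] at hk
    rcases hk with rfl | rfl | rfl
    · exact Or.inl (hdvd.trans (by norm_num))
    · exact Or.inr (Or.inr (hdvd.trans (by norm_num)))
    · exact Or.inr (Or.inl hdvd)

theorem arith : ∀ n ∈ Nat.divisors 120, 2 ∣ n ∨ n ∣ 15 := by decide +kernel

theorem lineGroup_pow (g : lineGroup) : ∃ d ∈ maxJ2, g ^ d = 1 := by
  have key : ∀ d, orderOf g ∣ d → g ^ d = 1 := fun d h => orderOf_dvd_iff_pow_eq_one.1 h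
  by_cases h7 : 7 ∣ orderOf g
  · exact ⟨7, by decide, key 7 (by rw [not_seven_mul g h7])⟩
  have hG : orderOf g ∣ 604800 := card_lineGroup frameFaithful ▸ orderOf_dvd_natCard g
  by_cases h2 : 2 ∣ orderOf g
  · rcases order_even g _ rfl h2 with h | h | h
    exacts [⟨8, by decide, key 8 h⟩, ⟨10, by decide, key 10 h⟩, ⟨12, by decide, key 12 h⟩]
  refine ⟨15, by decide, key 15 ?_⟩
  have hd : orderOf g ∣ 3 ^ 3 * 5 ^ 2 := by
    have h2' : (orderOf g).Coprime (2 ^ 7) := ((Nat.prime_two.coprime_iff_not_dvd.2 h2).symm).pow_right 7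
    have h7' : (orderOf g).Coprime 7 := ((show Nat.Prime 7 by norm_num).coprime_iff_not_dvd.2 h7).symm
    exact h7'.dvd_of_dvd_mul_left (m := 7) (n := 3 ^ 3 * 5 ^ 2)
      (h2'.dvd_of_dvd_mul_left (m := 2 ^ 7) (n := 7 * (3 ^ 3 * 5 ^ 2)) (by norm_num; exact hG))
  have hsub : ∀ m, 0 < m → m ∣ orderOf g → ∃ x : lineGroup, orderOf x = m := fun m hm hdm =>
    ⟨g ^ (orderOf g / m), by
      rw [orderOf_pow_of_dvd (Nat.div_pos (Nat.le_of_dvd (orderOf_pos g) hdm) hm).ne' (Nat.div_dvd_of_dvd hdm),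
        Nat.div_div_self hdm (orderOf_pos g).ne']⟩
  have h9 : ¬ 9 ∣ orderOf g := fun h => (hsub 9 (by norm_num) h).elim fun x hx => no_nine x hx
  have h25 : ¬ 25 ∣ orderOf g := fun h => (hsub 25 (by norm_num) h).elim fun x hx => no_twentyfive x hx
  have : ∀ m ∈ Nat.divisors 675, ¬ 9 ∣ m → ¬ 25 ∣ m → m ∣ 15 := by decide +kernel
  exact this _ (Nat.mem_divisors.2 ⟨by simpa using hd, by norm_num⟩) h9 h25

theorem j2_spectrum : Set.range (orderOf : Cfsg.Spor.J2 → ℕ) = {n | ∃ d ∈ maxJ2, n ∣ d} := by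
  rw [← Cfsg.Lib.SpecA10.range_orderOf maxJ2 lineGroup_pow lineGroup_wit (by decide)]
  ext n
  constructor
  · rintro ⟨x, rfl⟩
    exact ⟨j2Equiv x, orderOf_injective j2Equiv.toMonoidHom j2Equiv.injective x⟩
  · rintro ⟨y, rfl⟩
    exact ⟨j2Equiv.symm y, orderOf_injective j2Equiv.symm.toMonoidHom j2Equiv.symm.injective y⟩

/-- partitions, as non-increasing lists -/
theorem eight_lcm : ∀ l ∈ Cfsg.Lib.SpecA10.gen 4 8 8, ∃ d ∈ maxJ2, l.foldr Nat.lcm 1 ∣ d := by decide +kernel

theorem perm8_pow (σ : Equiv.Perm (Fin 8)) : ∃ d ∈ maxJ2, σ ^ d = 1 := by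
  have hle := σ.support.card_le_univ
  rw [Fintype.card_fin, ← Equiv.Perm.sum_cycleType] at hle
  set l := σ.cycleType.sort (fun a b => b ≤ a) with hl
  have hcoe : (l : Multiset ℕ) = σ.cycleType := σ.cycleType.sort_eq _
  rw [← hcoe, Multiset.sum_coe] at hle
  have hmem : ∀ x ∈ l, 2 ≤ x ∧ x ≤ 8 := fun x hx =>
    ⟨Equiv.Perm.two_le_of_mem_cycleType (hcoe ▸ (Multiset.mem_coe.2 hx)), le_trans (List.le_sum_of_mem hx) hle⟩
  have hlen : l.length ≤ 4 := by
    have := List.card_nsmul_le_sum l 2 fun x hx => (hmem x hx).1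
    simp at this
    omega
  obtain ⟨d, hd, hdvd⟩ := eight_lcm l (Cfsg.Lib.SpecA10.mem_gen l 4 8 8 hmem (Multiset.pairwise_sort _ _) hle hlen)
  refine ⟨d, hd, orderOf_dvd_iff_pow_eq_one.1 ?_⟩
  rw [← Equiv.Perm.lcm_cycleType, ← hcoe, Cfsg.Lib.SpecA10.lcm_coe_list]
  exact hdvd

theorem perm8_wit : ∀ d ∈ maxJ2, ∃ g : Equiv.Perm (Fin 8), orderOf g = d := by
  intro d hd
  have key : ∀ σ : Equiv.Perm (Fin 8), 0 < d → (σ ^ d = 1 ∧ ∀ m, m < d → 0 < m → σ ^ m ≠ 1) →
      ∃ g : Equiv.Perm (Fin 8), orderOf g = d := fun σ hd0 h => ⟨σ, (orderOf_eq_iff hd0).2 h⟩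
  simp only [maxJ2, List.mem_cons, List.not_mem_nil, or_false] at hd
  rcases hd with rfl | rfl | rfl | rfl | rfl
  · exact key ([0, 1, 2, 3, 4, 5, 6] : List (Fin 8)).formPerm (by norm_num) (by decide +kernel)
  · exact key ([0, 1, 2, 3, 4, 5, 6, 7] : List (Fin 8)).formPerm (by norm_num) (by decide +kernel)
  · exact key (([0, 1, 2, 3, 4] : List (Fin 8)).formPerm * ([5, 6] : List (Fin 8)).formPerm) (by norm_num) (by decide +kernel)
  · exact key (([0, 1, 2, 3] : List (Fin 8)).formPerm * ([4, 5, 6] : List (Fin 8)).formPerm) (by norm_num) (by decide +kernel)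
  · exact key (([0, 1, 2, 3, 4] : List (Fin 8)).formPerm * ([5, 6, 7] : List (Fin 8)).formPerm) (by norm_num) (by decide +kernel)

theorem perm8_spectrum : Set.range (orderOf : Equiv.Perm (Fin 8) → ℕ) = {n | ∃ d ∈ maxJ2, n ∣ d} :=
  Cfsg.Lib.SpecA10.range_orderOf maxJ2 perm8_pow perm8_wit (by decide)

end Cfsg.Lib.J2

end
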