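import Cfsg.Agent.Spor.J2.LinesData

/-!
A stabiliser chain check in which the identity is recognised on a small frame of lines.
-/

set_option autoImplicit false
set_option maxRecDepth 100000
set_option maxHeartbeats 2000000
set_option Elab.async false

namespace Cfsg.Lib.J2

open Cfsg.Lib.PermCert MulAction

/-- lines determining an element -/
def frame : List ℕ := [0, 1, 2, 3, 4, 5, 7]

/-- sift through transversals, testing the residue on the frame -/
def fsift : List (ℕ × List (ℕ × PP × ℕ × ℕ)) → List PP → Bool
  | [], w => frame.all fun x => evalWord w x == x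
  | (b, tr) :: r, w =>
    match tr.find? (fun e => e.1 == evalWord w b) with
    | some e => fsift r (pinv e.2.1 :: w)
    | none => false

/-- the transversals below a level -/
def below0 : List (ℕ × List (ℕ × PP × ℕ × ℕ)) := [(lev1.b, tr1), (lev2.b, tr2)]

/-- the transversals below a level -/
def below1 : List (ℕ × List (ℕ × PP × ℕ × ℕ)) := [(lev2.b, tr2)]

/-- the Schreier condition for one generator -/
def schreierRow (tr : List (ℕ × PP × ℕ × ℕ)) (r : List (ℕ × List (ℕ × PP × ℕ × ℕ))) (s : PP) : Bool :=
  tr.all fun e => match tr.find? (fun e' => e'.1 == ap s.1 e.1) with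
    | some e' => fsift r [pinv e'.2.1, s, e.2.1]
    | none => false

theorem rows_a : schreierRow tr0 below0 g0_0 = true ∧ schreierRow tr0 below0 g0_1 = true := by decide +kernel

theorem rows_b : schreierRow tr0 below0 g0_2 = true ∧ schreierRow tr0 below0 g0_3 = true := by decide +kernel

theorem rows_c : schreierRow tr1 below1 g1_0 = true ∧ schreierRow tr1 below1 g1_1 = true ∧
    schreierRow tr2 [] g2_0 = true ∧ schreierRow tr2 [] g2_1 = true := by decide +kernel

theorem tree0_ok : checkTree 315 ⟨lev0.b, own0, tr0⟩ = true := by decide +kernel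

theorem tree1_ok : checkTree 315 ⟨lev1.b, own1, tr1⟩ = true := by decide +kernel

theorem tree2_ok : checkTree 315 ⟨lev2.b, own2, tr2⟩ = true := by decide +kernel

end Cfsg.Lib.J2
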