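import Cfsg.Prelude.Def_Spor_J2

/-!
Integer coordinates for the icosian ring.
-/

set_option autoImplicit false
set_option linter.style.haveILetI false

noncomputable section

namespace Cfsg.Lib.J2

open Quaternion Cfsg.Spor

/-- Doubled coordinates over `ℤ[τ]` with respect to `1, i, j, k`. -/
structure IQ where
  w0 : ℤ
  w1 : ℤ
  x0 : ℤ
  x1 : ℤ
  y0 : ℤ
  y1 : ℤ
  z0 : ℤ
  z1 : ℤ
  deriving DecidableEq

namespace IQ

def zero : IQ := ⟨0, 0, 0, 0, 0, 0, 0, 0⟩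

def one : IQ := ⟨2, 0, 0, 0, 0, 0, 0, 0⟩

def add (d e : IQ) : IQ :=
  ⟨d.w0 + e.w0, d.w1 + e.w1, d.x0 + e.x0, d.x1 + e.x1, d.y0 + e.y0, d.y1 + e.y1, d.z0 + e.z0, d.z1 + e.z1⟩

def sub (d e : IQ) : IQ :=
  ⟨d.w0 - e.w0, d.w1 - e.w1, d.x0 - e.x0, d.x1 - e.x1, d.y0 - e.y0, d.y1 - e.y1, d.z0 - e.z0, d.z1 - e.z1⟩

def smul (c : ℤ) (d : IQ) : IQ :=
  ⟨c * d.w0, c * d.w1, c * d.x0, c * d.x1, c * d.y0, c * d.y1, c * d.z0, c * d.z1⟩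

def conj (d : IQ) : IQ := ⟨d.w0, d.w1, -d.x0, -d.x1, -d.y0, -d.y1, -d.z0, -d.z1⟩

/-- first component of a product in `ℤ[τ]` -/
def m0 (a b c e : ℤ) : ℤ := a * c + b * e

/-- second component of a product in `ℤ[τ]` -/
def m1 (a b c e : ℤ) : ℤ := a * e + b * c + b * e

/-- twice the coordinates of the product -/
def raw (p q : IQ) : IQ :=
  ⟨m0 p.w0 p.w1 q.w0 q.w1 - m0 p.x0 p.x1 q.x0 q.x1 - m0 p.y0 p.y1 q.y0 q.y1 - m0 p.z0 p.z1 q.z0 q.z1,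
   m1 p.w0 p.w1 q.w0 q.w1 - m1 p.x0 p.x1 q.x0 q.x1 - m1 p.y0 p.y1 q.y0 q.y1 - m1 p.z0 p.z1 q.z0 q.z1,
   m0 p.w0 p.w1 q.x0 q.x1 + m0 p.x0 p.x1 q.w0 q.w1 + m0 p.y0 p.y1 q.z0 q.z1 - m0 p.z0 p.z1 q.y0 q.y1,
   m1 p.w0 p.w1 q.x0 q.x1 + m1 p.x0 p.x1 q.w0 q.w1 + m1 p.y0 p.y1 q.z0 q.z1 - m1 p.z0 p.z1 q.y0 q.y1,
   m0 p.w0 p.w1 q.y0 q.y1 - m0 p.x0 p.x1 q.z0 q.z1 + m0 p.y0 p.y1 q.w0 q.w1 + m0 p.z0 p.z1 q.x0 q.x1,
   m1 p.w0 p.w1 q.y0 q.y1 - m1 p.x0 p.x1 q.z0 q.z1 + m1 p.y0 p.y1 q.w0 q.w1 + m1 p.z0 p.z1 q.x0 q.x1,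
   m0 p.w0 p.w1 q.z0 q.z1 + m0 p.x0 p.x1 q.y0 q.y1 - m0 p.y0 p.y1 q.x0 q.x1 + m0 p.z0 p.z1 q.w0 q.w1,
   m1 p.w0 p.w1 q.z0 q.z1 + m1 p.x0 p.x1 q.y0 q.y1 - m1 p.y0 p.y1 q.x0 q.x1 + m1 p.z0 p.z1 q.w0 q.w1⟩

def half (d : IQ) : IQ :=
  ⟨d.w0 / 2, d.w1 / 2, d.x0 / 2, d.x1 / 2, d.y0 / 2, d.y1 / 2, d.z0 / 2, d.z1 / 2⟩

def quarter (d : IQ) : IQ :=
  ⟨d.w0 / 4, d.w1 / 4, d.x0 / 4, d.x1 / 4, d.y0 / 4, d.y1 / 4, d.z0 / 4, d.z1 / 4⟩

/-- the product of two icosians -/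
def mul (p q : IQ) : IQ := half (raw p q)

/-- twice the coordinates with respect to the basis -/
def crd (d : IQ) : List ℤ :=
  [ d.w0 + 2 * d.x1 + d.y1 + d.z0 + d.z1,
    -d.w1 + 3 * d.x1 + d.y1 + 2 * d.z0 + d.z1,
    2 * d.x1,
    d.w1 + d.x0 - 2 * d.x1 - d.z0 - d.z1,
    d.x0 + d.x1 + d.y1 + d.z0 + 2 * d.z1,
    d.x0 - d.x1 - d.y1 - d.z0,
    d.x1 - d.y0 + d.z0 + d.z1,
    d.x0 - d.x1 + d.y1 - d.z0]

/-- the icosian condition -/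
def mem (d : IQ) : Bool := (crd d).all fun c => c % 2 == 0

def div4 (d : IQ) : Bool :=
  d.w0 % 4 == 0 && d.w1 % 4 == 0 && d.x0 % 4 == 0 && d.x1 % 4 == 0 && d.y0 % 4 == 0 && d.y1 % 4 == 0 &&
    d.z0 % 4 == 0 && d.z1 % 4 == 0

/-- `h` -/
def hI : IQ := ⟨1, -2, 1, 0, 1, 0, 1, 0⟩

/-- membership in `I h` -/
def inH (d : IQ) : Bool := mem d && div4 (raw d (conj hI)) && mem (quarter (raw d (conj hI)))

/-- membership in `I h̄` -/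
def inHB (d : IQ) : Bool := mem d && div4 (raw d hI) && mem (quarter (raw d hI))

/-- four times the norm -/
def norm4 (d : IQ) : ℤ × ℤ :=
  (m0 d.w0 d.w1 d.w0 d.w1 + m0 d.x0 d.x1 d.x0 d.x1 + m0 d.y0 d.y1 d.y0 d.y1 + m0 d.z0 d.z1 d.z0 d.z1,
   m1 d.w0 d.w1 d.w0 d.w1 + m1 d.x0 d.x1 d.x0 d.x1 + m1 d.y0 d.y1 d.y0 d.y1 + m1 d.z0 d.z1 d.z0 d.z1)

/-- a ℤ-basis of the icosians -/
def basis : List IQ :=
  [ ⟨2, 0, 0, 0, 0, 0, 0, 0⟩,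
    ⟨0, -1, 1, 0, 0, 0, 1, -1⟩,
    ⟨-1, 1, 0, 1, 0, 0, -1, 0⟩,
    ⟨0, 1, 1, 0, 0, 0, 1, -1⟩,
    ⟨-1, 1, 0, 0, 1, 0, 0, 1⟩,
    ⟨1, -1, 1, 0, 0, -1, 0, 0⟩,
    ⟨0, 0, 0, 0, -2, 0, 0, 0⟩,
    ⟨0, -1, 0, 0, -1, 1, -1, 0⟩]

end IQ

theorem tau_sq : tau * tau = tau + 1 := by
  have h := Real.mul_self_sqrt (show (0 : ℝ) ≤ 5 by norm_num)
  unfold tau
  linear_combination (1 / 4 : ℝ) * h

/-- the quaternion with given doubled coordinates -/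
def val (d : IQ) : ℍ[ℝ] :=
  ⟨((d.w0 : ℝ) + d.w1 * tau) / 2, ((d.x0 : ℝ) + d.x1 * tau) / 2, ((d.y0 : ℝ) + d.y1 * tau) / 2,
    ((d.z0 : ℝ) + d.z1 * tau) / 2⟩

@[simp] theorem val_re (d : IQ) : (val d).re = ((d.w0 : ℝ) + d.w1 * tau) / 2 := rfl
@[simp] theorem val_imI (d : IQ) : (val d).imI = ((d.x0 : ℝ) + d.x1 * tau) / 2 := rfl
@[simp] theorem val_imJ (d : IQ) : (val d).imJ = ((d.y0 : ℝ) + d.y1 * tau) / 2 := rfl
@[simp] theorem val_imK (d : IQ) : (val d).imK = ((d.z0 : ℝ) + d.z1 * tau) / 2 := rfl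

theorem coeff_inj {a b c e : ℤ} (h : (a : ℝ) + b * tau = c + e * tau) : a = c ∧ b = e := by
  have hb : b = e := by
    by_contra hne
    have hir : Irrational (Real.sqrt 5) := by
      simpa using (show Nat.Prime 5 by norm_num).irrational_sqrt
    refine hir ⟨((2 * c - 2 * a - (b - e) : ℤ) : ℚ) / ((b - e : ℤ) : ℚ), ?_⟩
    have hne' : ((b : ℝ) - e) ≠ 0 := sub_ne_zero.2 (by exact_mod_cast hne)
    push_cast
    rw [div_eq_iff hne']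
    have h' := h
    unfold tau at h'
    linear_combination (-2 : ℝ) * h'
  subst hb
  exact ⟨by exact_mod_cast add_right_cancel h, rfl⟩

theorem val_inj : Function.Injective val := by
  intro d e h
  have h1 := congrArg QuaternionAlgebra.re h
  have h2 := congrArg QuaternionAlgebra.imI h
  have h3 := congrArg QuaternionAlgebra.imJ h
  have h4 := congrArg QuaternionAlgebra.imK h
  simp only [val_re, val_imI, val_imJ, val_imK, div_left_inj' (two_ne_zero' ℝ)] at h1 h2 h3 h4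
  obtain ⟨a1, b1⟩ := coeff_inj h1
  obtain ⟨a2, b2⟩ := coeff_inj h2
  obtain ⟨a3, b3⟩ := coeff_inj h3
  obtain ⟨a4, b4⟩ := coeff_inj h4
  cases d; cases e; simp_all

theorem val_zero : val IQ.zero = 0 := by
  apply Quaternion.ext <;> simp [IQ.zero]

theorem val_one : val IQ.one = 1 := by
  apply Quaternion.ext <;> simp [IQ.one]

theorem val_add (d e : IQ) : val (IQ.add d e) = val d + val e := by
  apply Quaternion.ext <;> simp [IQ.add] <;> ring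

theorem val_sub (d e : IQ) : val (IQ.sub d e) = val d - val e := by
  apply Quaternion.ext <;> simp [IQ.sub] <;> ring

theorem val_smul (c : ℤ) (d : IQ) : val (IQ.smul c d) = c • val d := by
  apply Quaternion.ext <;> simp [IQ.smul] <;> ring

theorem val_conj (d : IQ) : val (IQ.conj d) = star (val d) := by
  apply Quaternion.ext <;> simp [IQ.conj] <;> ring

theorem prod_re (a b c e : ℤ) : ((a : ℝ) + b * tau) * (c + e * tau) =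
    (IQ.m0 a b c e : ℤ) + (IQ.m1 a b c e : ℤ) * tau := by
  simp only [IQ.m0, IQ.m1]
  push_cast
  linear_combination ((b : ℝ) * e) * tau_sq

theorem val_raw (p q : IQ) : val (IQ.raw p q) = (2 : ℝ) • (val p * val q) := by
  apply Quaternion.ext <;>
    simp only [Quaternion.re_smul, Quaternion.imI_smul, Quaternion.imJ_smul, Quaternion.imK_smul,
      Quaternion.re_mul, Quaternion.imI_mul, Quaternion.imJ_mul, Quaternion.imK_mul, smul_eq_mul] <;>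
    simp only [val_re, val_imI, val_imJ, val_imK, IQ.raw] <;> push_cast <;>
    simp only [div_mul_div_comm, prod_re] <;> push_cast <;> ring

theorem val_half {d e : IQ} (h : val d = (2 : ℝ) • val e) : IQ.half d = e := by
  have hd : d = IQ.smul 2 e := val_inj (by rw [h, val_smul]; simp [two_smul])
  subst hd
  cases e
  simp [IQ.half, IQ.smul]

theorem val_qI : val ⟨0, 0, 2, 0, 0, 0, 0, 0⟩ = qI := by
  apply Quaternion.ext <;> simp [val, qI]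

theorem val_gen : val ⟨1, 0, 1, -1, 0, 0, 0, 1⟩ = (⟨1 / 2, sig / 2, 0, tau / 2⟩ : ℍ[ℝ]) := by
  apply Quaternion.ext <;> simp [val, sig, tau] <;> ring

theorem val_hI : val IQ.hI = icoH := by
  apply Quaternion.ext <;> simp [val, IQ.hI, icoH, tau] <;> ring

end Cfsg.Lib.J2

end
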