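import Cfsg.Agent.Spor.J2.Lattice

/-!
Data: units, lines, normal forms.
-/

set_option autoImplicit false
set_option maxRecDepth 100000
set_option maxHeartbeats 4000000

namespace Cfsg.Lib.J2

/-- the icosian units -/
def units : List IQ := [
  ⟨-2, 0, 0, 0, 0, 0, 0, 0⟩,
  ⟨-1, 0, -1, 0, -1, 0, -1, 0⟩,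
  ⟨-1, 0, -1, 0, -1, 0, 1, 0⟩,
  ⟨-1, 0, -1, 0, 1, 0, -1, 0⟩,
  ⟨-1, 0, -1, 0, 1, 0, 1, 0⟩,
  ⟨-1, 0, -1, 1, 0, 0, 0, -1⟩,
  ⟨-1, 0, -1, 1, 0, 0, 0, 1⟩,
  ⟨-1, 0, 0, -1, -1, 1, 0, 0⟩,
  ⟨-1, 0, 0, -1, 1, -1, 0, 0⟩,
  ⟨-1, 0, 0, 0, 0, -1, -1, 1⟩,
  ⟨-1, 0, 0, 0, 0, -1, 1, -1⟩,
  ⟨-1, 0, 0, 0, 0, 1, -1, 1⟩,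
  ⟨-1, 0, 0, 0, 0, 1, 1, -1⟩,
  ⟨-1, 0, 0, 1, -1, 1, 0, 0⟩,
  ⟨-1, 0, 0, 1, 1, -1, 0, 0⟩,
  ⟨-1, 0, 1, -1, 0, 0, 0, -1⟩,
  ⟨-1, 0, 1, -1, 0, 0, 0, 1⟩,
  ⟨-1, 0, 1, 0, -1, 0, -1, 0⟩,
  ⟨-1, 0, 1, 0, -1, 0, 1, 0⟩,
  ⟨-1, 0, 1, 0, 1, 0, -1, 0⟩,
  ⟨-1, 0, 1, 0, 1, 0, 1, 0⟩,
  ⟨-1, 1, -1, 0, 0, -1, 0, 0⟩,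
  ⟨-1, 1, -1, 0, 0, 1, 0, 0⟩,
  ⟨-1, 1, 0, -1, 0, 0, -1, 0⟩,
  ⟨-1, 1, 0, -1, 0, 0, 1, 0⟩,
  ⟨-1, 1, 0, 0, -1, 0, 0, -1⟩,
  ⟨-1, 1, 0, 0, -1, 0, 0, 1⟩,
  ⟨-1, 1, 0, 0, 1, 0, 0, -1⟩,
  ⟨-1, 1, 0, 0, 1, 0, 0, 1⟩,
  ⟨-1, 1, 0, 1, 0, 0, -1, 0⟩,
  ⟨-1, 1, 0, 1, 0, 0, 1, 0⟩,
  ⟨-1, 1, 1, 0, 0, -1, 0, 0⟩,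
  ⟨-1, 1, 1, 0, 0, 1, 0, 0⟩,
  ⟨0, -1, -1, 0, 0, 0, -1, 1⟩,
  ⟨0, -1, -1, 0, 0, 0, 1, -1⟩,
  ⟨0, -1, -1, 1, -1, 0, 0, 0⟩,
  ⟨0, -1, -1, 1, 1, 0, 0, 0⟩,
  ⟨0, -1, 0, 0, -1, 1, -1, 0⟩,
  ⟨0, -1, 0, 0, -1, 1, 1, 0⟩,
  ⟨0, -1, 0, 0, 1, -1, -1, 0⟩,
  ⟨0, -1, 0, 0, 1, -1, 1, 0⟩,
  ⟨0, -1, 1, -1, -1, 0, 0, 0⟩,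
  ⟨0, -1, 1, -1, 1, 0, 0, 0⟩,
  ⟨0, -1, 1, 0, 0, 0, -1, 1⟩,
  ⟨0, -1, 1, 0, 0, 0, 1, -1⟩,
  ⟨0, 0, -2, 0, 0, 0, 0, 0⟩,
  ⟨0, 0, -1, 0, -1, 1, 0, -1⟩,
  ⟨0, 0, -1, 0, -1, 1, 0, 1⟩,
  ⟨0, 0, -1, 0, 1, -1, 0, -1⟩,
  ⟨0, 0, -1, 0, 1, -1, 0, 1⟩,
  ⟨0, 0, -1, 1, 0, -1, -1, 0⟩,
  ⟨0, 0, -1, 1, 0, -1, 1, 0⟩,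
  ⟨0, 0, -1, 1, 0, 1, -1, 0⟩,
  ⟨0, 0, -1, 1, 0, 1, 1, 0⟩,
  ⟨0, 0, 0, -1, -1, 0, -1, 1⟩,
  ⟨0, 0, 0, -1, -1, 0, 1, -1⟩,
  ⟨0, 0, 0, -1, 1, 0, -1, 1⟩,
  ⟨0, 0, 0, -1, 1, 0, 1, -1⟩,
  ⟨0, 0, 0, 0, -2, 0, 0, 0⟩,
  ⟨0, 0, 0, 0, 0, 0, -2, 0⟩,
  ⟨0, 0, 0, 0, 0, 0, 2, 0⟩,
  ⟨0, 0, 0, 0, 2, 0, 0, 0⟩,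
  ⟨0, 0, 0, 1, -1, 0, -1, 1⟩,
  ⟨0, 0, 0, 1, -1, 0, 1, -1⟩,
  ⟨0, 0, 0, 1, 1, 0, -1, 1⟩,
  ⟨0, 0, 0, 1, 1, 0, 1, -1⟩,
  ⟨0, 0, 1, -1, 0, -1, -1, 0⟩,
  ⟨0, 0, 1, -1, 0, -1, 1, 0⟩,
  ⟨0, 0, 1, -1, 0, 1, -1, 0⟩,
  ⟨0, 0, 1, -1, 0, 1, 1, 0⟩,
  ⟨0, 0, 1, 0, -1, 1, 0, -1⟩,
  ⟨0, 0, 1, 0, -1, 1, 0, 1⟩,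
  ⟨0, 0, 1, 0, 1, -1, 0, -1⟩,
  ⟨0, 0, 1, 0, 1, -1, 0, 1⟩,
  ⟨0, 0, 2, 0, 0, 0, 0, 0⟩,
  ⟨0, 1, -1, 0, 0, 0, -1, 1⟩,
  ⟨0, 1, -1, 0, 0, 0, 1, -1⟩,
  ⟨0, 1, -1, 1, -1, 0, 0, 0⟩,
  ⟨0, 1, -1, 1, 1, 0, 0, 0⟩,
  ⟨0, 1, 0, 0, -1, 1, -1, 0⟩,
  ⟨0, 1, 0, 0, -1, 1, 1, 0⟩,
  ⟨0, 1, 0, 0, 1, -1, -1, 0⟩,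
  ⟨0, 1, 0, 0, 1, -1, 1, 0⟩,
  ⟨0, 1, 1, -1, -1, 0, 0, 0⟩,
  ⟨0, 1, 1, -1, 1, 0, 0, 0⟩,
  ⟨0, 1, 1, 0, 0, 0, -1, 1⟩,
  ⟨0, 1, 1, 0, 0, 0, 1, -1⟩,
  ⟨1, -1, -1, 0, 0, -1, 0, 0⟩,
  ⟨1, -1, -1, 0, 0, 1, 0, 0⟩,
  ⟨1, -1, 0, -1, 0, 0, -1, 0⟩,
  ⟨1, -1, 0, -1, 0, 0, 1, 0⟩,
  ⟨1, -1, 0, 0, -1, 0, 0, -1⟩,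
  ⟨1, -1, 0, 0, -1, 0, 0, 1⟩,
  ⟨1, -1, 0, 0, 1, 0, 0, -1⟩,
  ⟨1, -1, 0, 0, 1, 0, 0, 1⟩,
  ⟨1, -1, 0, 1, 0, 0, -1, 0⟩,
  ⟨1, -1, 0, 1, 0, 0, 1, 0⟩,
  ⟨1, -1, 1, 0, 0, -1, 0, 0⟩,
  ⟨1, -1, 1, 0, 0, 1, 0, 0⟩,
  ⟨1, 0, -1, 0, -1, 0, -1, 0⟩,
  ⟨1, 0, -1, 0, -1, 0, 1, 0⟩,
  ⟨1, 0, -1, 0, 1, 0, -1, 0⟩,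
  ⟨1, 0, -1, 0, 1, 0, 1, 0⟩,
  ⟨1, 0, -1, 1, 0, 0, 0, -1⟩,
  ⟨1, 0, -1, 1, 0, 0, 0, 1⟩,
  ⟨1, 0, 0, -1, -1, 1, 0, 0⟩,
  ⟨1, 0, 0, -1, 1, -1, 0, 0⟩,
  ⟨1, 0, 0, 0, 0, -1, -1, 1⟩,
  ⟨1, 0, 0, 0, 0, -1, 1, -1⟩,
  ⟨1, 0, 0, 0, 0, 1, -1, 1⟩,
  ⟨1, 0, 0, 0, 0, 1, 1, -1⟩,
  ⟨1, 0, 0, 1, -1, 1, 0, 0⟩,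
  ⟨1, 0, 0, 1, 1, -1, 0, 0⟩,
  ⟨1, 0, 1, -1, 0, 0, 0, -1⟩,
  ⟨1, 0, 1, -1, 0, 0, 0, 1⟩,
  ⟨1, 0, 1, 0, -1, 0, -1, 0⟩,
  ⟨1, 0, 1, 0, -1, 0, 1, 0⟩,
  ⟨1, 0, 1, 0, 1, 0, -1, 0⟩,
  ⟨1, 0, 1, 0, 1, 0, 1, 0⟩,
  ⟨2, 0, 0, 0, 0, 0, 0, 0⟩
]

/-- some lines -/
def lines0 : List V3 := [
  ⟨⟨4, 0, 0, 0, 0, 0, 0, 0⟩, ⟨0, 0, 0, 0, 0, 0, 0, 0⟩, ⟨0, 0, 0, 0, 0, 0, 0, 0⟩⟩,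
  ⟨⟨0, 0, 0, 0, 0, 0, 0, 0⟩, ⟨4, 0, 0, 0, 0, 0, 0, 0⟩, ⟨0, 0, 0, 0, 0, 0, 0, 0⟩⟩,
  ⟨⟨0, 0, 0, 0, 0, 0, 0, 0⟩, ⟨0, 0, 0, 0, 0, 0, 0, 0⟩, ⟨4, 0, 0, 0, 0, 0, 0, 0⟩⟩,
  ⟨⟨-2, 0, -2, 0, 0, 0, 0, 0⟩, ⟨-2, 0, -2, 0, 0, 0, 0, 0⟩, ⟨0, 0, 0, 0, 0, 0, 0, 0⟩⟩,
  ⟨⟨-2, 0, -2, 0, 0, 0, 0, 0⟩, ⟨-2, 0, 2, 0, 0, 0, 0, 0⟩, ⟨0, 0, 0, 0, 0, 0, 0, 0⟩⟩,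
  ⟨⟨-2, 0, -2, 0, 0, 0, 0, 0⟩, ⟨0, 0, 0, 0, -2, 0, -2, 0⟩, ⟨0, 0, 0, 0, 0, 0, 0, 0⟩⟩,
  ⟨⟨-2, 0, -2, 0, 0, 0, 0, 0⟩, ⟨0, 0, 0, 0, -2, 0, 2, 0⟩, ⟨0, 0, 0, 0, 0, 0, 0, 0⟩⟩,
  ⟨⟨-2, 0, -2, 0, 0, 0, 0, 0⟩, ⟨0, 0, 0, 0, 0, 0, 0, 0⟩, ⟨-2, 0, -2, 0, 0, 0, 0, 0⟩⟩,
  ⟨⟨-2, 0, -2, 0, 0, 0, 0, 0⟩, ⟨0, 0, 0, 0, 0, 0, 0, 0⟩, ⟨-2, 0, 2, 0, 0, 0, 0, 0⟩⟩,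
  ⟨⟨-2, 0, -2, 0, 0, 0, 0, 0⟩, ⟨0, 0, 0, 0, 0, 0, 0, 0⟩, ⟨0, 0, 0, 0, -2, 0, -2, 0⟩⟩,
  ⟨⟨-2, 0, -2, 0, 0, 0, 0, 0⟩, ⟨0, 0, 0, 0, 0, 0, 0, 0⟩, ⟨0, 0, 0, 0, -2, 0, 2, 0⟩⟩,
  ⟨⟨-2, 0, -2, 0, 0, 0, 0, 0⟩, ⟨0, 0, 0, 0, 0, 0, 0, 0⟩, ⟨0, 0, 0, 0, 2, 0, -2, 0⟩⟩,
  ⟨⟨-2, 0, -2, 0, 0, 0, 0, 0⟩, ⟨0, 0, 0, 0, 0, 0, 0, 0⟩, ⟨0, 0, 0, 0, 2, 0, 2, 0⟩⟩,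
  ⟨⟨-2, 0, -2, 0, 0, 0, 0, 0⟩, ⟨0, 0, 0, 0, 0, 0, 0, 0⟩, ⟨2, 0, -2, 0, 0, 0, 0, 0⟩⟩,
  ⟨⟨-2, 0, -2, 0, 0, 0, 0, 0⟩, ⟨0, 0, 0, 0, 0, 0, 0, 0⟩, ⟨2, 0, 2, 0, 0, 0, 0, 0⟩⟩,
  ⟨⟨-2, 0, -2, 0, 0, 0, 0, 0⟩, ⟨0, 0, 0, 0, 2, 0, -2, 0⟩, ⟨0, 0, 0, 0, 0, 0, 0, 0⟩⟩,
  ⟨⟨-2, 0, -2, 0, 0, 0, 0, 0⟩, ⟨0, 0, 0, 0, 2, 0, 2, 0⟩, ⟨0, 0, 0, 0, 0, 0, 0, 0⟩⟩,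
  ⟨⟨-2, 0, -2, 0, 0, 0, 0, 0⟩, ⟨2, 0, -2, 0, 0, 0, 0, 0⟩, ⟨0, 0, 0, 0, 0, 0, 0, 0⟩⟩,
  ⟨⟨-2, 0, -2, 0, 0, 0, 0, 0⟩, ⟨2, 0, 2, 0, 0, 0, 0, 0⟩, ⟨0, 0, 0, 0, 0, 0, 0, 0⟩⟩,
  ⟨⟨0, 0, 0, 0, 0, 0, 0, 0⟩, ⟨-2, 0, -2, 0, 0, 0, 0, 0⟩, ⟨-2, 0, -2, 0, 0, 0, 0, 0⟩⟩,
  ⟨⟨0, 0, 0, 0, 0, 0, 0, 0⟩, ⟨-2, 0, -2, 0, 0, 0, 0, 0⟩, ⟨-2, 0, 2, 0, 0, 0, 0, 0⟩⟩,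
  ⟨⟨0, 0, 0, 0, 0, 0, 0, 0⟩, ⟨-2, 0, -2, 0, 0, 0, 0, 0⟩, ⟨0, 0, 0, 0, -2, 0, -2, 0⟩⟩,
  ⟨⟨0, 0, 0, 0, 0, 0, 0, 0⟩, ⟨-2, 0, -2, 0, 0, 0, 0, 0⟩, ⟨0, 0, 0, 0, -2, 0, 2, 0⟩⟩,
  ⟨⟨0, 0, 0, 0, 0, 0, 0, 0⟩, ⟨-2, 0, -2, 0, 0, 0, 0, 0⟩, ⟨0, 0, 0, 0, 2, 0, -2, 0⟩⟩,
  ⟨⟨0, 0, 0, 0, 0, 0, 0, 0⟩, ⟨-2, 0, -2, 0, 0, 0, 0, 0⟩, ⟨0, 0, 0, 0, 2, 0, 2, 0⟩⟩,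
  ⟨⟨0, 0, 0, 0, 0, 0, 0, 0⟩, ⟨-2, 0, -2, 0, 0, 0, 0, 0⟩, ⟨2, 0, -2, 0, 0, 0, 0, 0⟩⟩,
  ⟨⟨0, 0, 0, 0, 0, 0, 0, 0⟩, ⟨-2, 0, -2, 0, 0, 0, 0, 0⟩, ⟨2, 0, 2, 0, 0, 0, 0, 0⟩⟩,
  ⟨⟨-2, 0, 0, 0, 0, 0, 0, 0⟩, ⟨-2, 0, 0, 0, 0, 0, 0, 0⟩, ⟨-1, 0, -1, 0, 1, 0, -1, 2⟩⟩,
  ⟨⟨-2, 0, 0, 0, 0, 0, 0, 0⟩, ⟨-2, 0, 0, 0, 0, 0, 0, 0⟩, ⟨-1, 0, -1, 2, -1, 0, 1, 0⟩⟩,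
  ⟨⟨-2, 0, 0, 0, 0, 0, 0, 0⟩, ⟨-2, 0, 0, 0, 0, 0, 0, 0⟩, ⟨-1, 0, 1, 0, -1, 2, -1, 0⟩⟩,
  ⟨⟨-2, 0, 0, 0, 0, 0, 0, 0⟩, ⟨-2, 0, 0, 0, 0, 0, 0, 0⟩, ⟨-1, 2, 1, 0, 1, 0, 1, 0⟩⟩,
  ⟨⟨-2, 0, 0, 0, 0, 0, 0, 0⟩, ⟨-2, 0, 0, 0, 0, 0, 0, 0⟩, ⟨1, -2, -1, 0, -1, 0, -1, 0⟩⟩,
  ⟨⟨-2, 0, 0, 0, 0, 0, 0, 0⟩, ⟨-2, 0, 0, 0, 0, 0, 0, 0⟩, ⟨1, 0, -1, 0, 1, -2, 1, 0⟩⟩,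
  ⟨⟨-2, 0, 0, 0, 0, 0, 0, 0⟩, ⟨-2, 0, 0, 0, 0, 0, 0, 0⟩, ⟨1, 0, 1, -2, 1, 0, -1, 0⟩⟩,
  ⟨⟨-2, 0, 0, 0, 0, 0, 0, 0⟩, ⟨-2, 0, 0, 0, 0, 0, 0, 0⟩, ⟨1, 0, 1, 0, -1, 0, 1, -2⟩⟩,
  ⟨⟨-2, 0, 0, 0, 0, 0, 0, 0⟩, ⟨-1, 0, -1, 0, -1, 0, 1, -2⟩, ⟨0, 0, -2, 0, 0, 0, 0, 0⟩⟩,
  ⟨⟨-2, 0, 0, 0, 0, 0, 0, 0⟩, ⟨-1, 0, -1, 0, -1, 0, 1, -2⟩, ⟨0, 0, 2, 0, 0, 0, 0, 0⟩⟩,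
  ⟨⟨-2, 0, 0, 0, 0, 0, 0, 0⟩, ⟨-1, 0, -1, 0, -1, 2, 1, 0⟩, ⟨0, 0, 0, 0, -2, 0, 0, 0⟩⟩,
  ⟨⟨-2, 0, 0, 0, 0, 0, 0, 0⟩, ⟨-1, 0, -1, 0, -1, 2, 1, 0⟩, ⟨0, 0, 0, 0, 2, 0, 0, 0⟩⟩,
  ⟨⟨-2, 0, 0, 0, 0, 0, 0, 0⟩, ⟨-1, 0, -1, 0, 1, -2, -1, 0⟩, ⟨0, 0, 0, 0, 0, 0, -2, 0⟩⟩,
  ⟨⟨-2, 0, 0, 0, 0, 0, 0, 0⟩, ⟨-1, 0, -1, 0, 1, -2, -1, 0⟩, ⟨0, 0, 0, 0, 0, 0, 2, 0⟩⟩,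
  ⟨⟨-2, 0, 0, 0, 0, 0, 0, 0⟩, ⟨-1, 0, -1, 0, 1, 0, -1, 2⟩, ⟨-2, 0, 0, 0, 0, 0, 0, 0⟩⟩,
  ⟨⟨-2, 0, 0, 0, 0, 0, 0, 0⟩, ⟨-1, 0, -1, 0, 1, 0, -1, 2⟩, ⟨2, 0, 0, 0, 0, 0, 0, 0⟩⟩,
  ⟨⟨-2, 0, 0, 0, 0, 0, 0, 0⟩, ⟨-1, 0, -1, 2, -1, 0, 1, 0⟩, ⟨-2, 0, 0, 0, 0, 0, 0, 0⟩⟩,
  ⟨⟨-2, 0, 0, 0, 0, 0, 0, 0⟩, ⟨-1, 0, -1, 2, -1, 0, 1, 0⟩, ⟨2, 0, 0, 0, 0, 0, 0, 0⟩⟩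
]

/-- some lines -/
def lines1 : List V3 := [
  ⟨⟨-2, 0, 0, 0, 0, 0, 0, 0⟩, ⟨-1, 0, -1, 2, 1, 0, -1, 0⟩, ⟨0, 0, -2, 0, 0, 0, 0, 0⟩⟩,
  ⟨⟨-2, 0, 0, 0, 0, 0, 0, 0⟩, ⟨-1, 0, -1, 2, 1, 0, -1, 0⟩, ⟨0, 0, 2, 0, 0, 0, 0, 0⟩⟩,
  ⟨⟨-2, 0, 0, 0, 0, 0, 0, 0⟩, ⟨-1, 0, 1, -2, -1, 0, -1, 0⟩, ⟨0, 0, 0, 0, -2, 0, 0, 0⟩⟩,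
  ⟨⟨-2, 0, 0, 0, 0, 0, 0, 0⟩, ⟨-1, 0, 1, -2, -1, 0, -1, 0⟩, ⟨0, 0, 0, 0, 2, 0, 0, 0⟩⟩,
  ⟨⟨-2, 0, 0, 0, 0, 0, 0, 0⟩, ⟨-1, 0, 1, -2, 1, 0, 1, 0⟩, ⟨0, 0, 0, 0, 0, 0, -2, 0⟩⟩,
  ⟨⟨-2, 0, 0, 0, 0, 0, 0, 0⟩, ⟨-1, 0, 1, -2, 1, 0, 1, 0⟩, ⟨0, 0, 0, 0, 0, 0, 2, 0⟩⟩,
  ⟨⟨-2, 0, 0, 0, 0, 0, 0, 0⟩, ⟨-1, 0, 1, 0, -1, 0, -1, 2⟩, ⟨0, 0, 0, 0, 0, 0, -2, 0⟩⟩,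
  ⟨⟨-2, 0, 0, 0, 0, 0, 0, 0⟩, ⟨-1, 0, 1, 0, -1, 0, -1, 2⟩, ⟨0, 0, 0, 0, 0, 0, 2, 0⟩⟩,
  ⟨⟨-2, 0, 0, 0, 0, 0, 0, 0⟩, ⟨-1, 0, 1, 0, -1, 2, -1, 0⟩, ⟨-2, 0, 0, 0, 0, 0, 0, 0⟩⟩,
  ⟨⟨-2, 0, 0, 0, 0, 0, 0, 0⟩, ⟨-1, 0, 1, 0, -1, 2, -1, 0⟩, ⟨2, 0, 0, 0, 0, 0, 0, 0⟩⟩,
  ⟨⟨-2, 0, 0, 0, 0, 0, 0, 0⟩, ⟨-1, 0, 1, 0, 1, -2, 1, 0⟩, ⟨0, 0, -2, 0, 0, 0, 0, 0⟩⟩,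
  ⟨⟨-2, 0, 0, 0, 0, 0, 0, 0⟩, ⟨-1, 0, 1, 0, 1, -2, 1, 0⟩, ⟨0, 0, 2, 0, 0, 0, 0, 0⟩⟩,
  ⟨⟨-2, 0, 0, 0, 0, 0, 0, 0⟩, ⟨-1, 0, 1, 0, 1, 0, 1, -2⟩, ⟨0, 0, 0, 0, -2, 0, 0, 0⟩⟩,
  ⟨⟨-2, 0, 0, 0, 0, 0, 0, 0⟩, ⟨-1, 0, 1, 0, 1, 0, 1, -2⟩, ⟨0, 0, 0, 0, 2, 0, 0, 0⟩⟩,
  ⟨⟨-2, 0, 0, 0, 0, 0, 0, 0⟩, ⟨-1, 2, -1, 0, -1, 0, 1, 0⟩, ⟨0, 0, 0, 0, 0, 0, -2, 0⟩⟩,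
  ⟨⟨-2, 0, 0, 0, 0, 0, 0, 0⟩, ⟨-1, 2, -1, 0, -1, 0, 1, 0⟩, ⟨0, 0, 0, 0, 0, 0, 2, 0⟩⟩,
  ⟨⟨-2, 0, 0, 0, 0, 0, 0, 0⟩, ⟨-1, 2, -1, 0, 1, 0, -1, 0⟩, ⟨0, 0, 0, 0, -2, 0, 0, 0⟩⟩,
  ⟨⟨-2, 0, 0, 0, 0, 0, 0, 0⟩, ⟨-1, 2, -1, 0, 1, 0, -1, 0⟩, ⟨0, 0, 0, 0, 2, 0, 0, 0⟩⟩,
  ⟨⟨-2, 0, 0, 0, 0, 0, 0, 0⟩, ⟨-1, 2, 1, 0, -1, 0, -1, 0⟩, ⟨0, 0, -2, 0, 0, 0, 0, 0⟩⟩,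
  ⟨⟨-2, 0, 0, 0, 0, 0, 0, 0⟩, ⟨-1, 2, 1, 0, -1, 0, -1, 0⟩, ⟨0, 0, 2, 0, 0, 0, 0, 0⟩⟩,
  ⟨⟨-2, 0, 0, 0, 0, 0, 0, 0⟩, ⟨-1, 2, 1, 0, 1, 0, 1, 0⟩, ⟨-2, 0, 0, 0, 0, 0, 0, 0⟩⟩,
  ⟨⟨-2, 0, 0, 0, 0, 0, 0, 0⟩, ⟨-1, 2, 1, 0, 1, 0, 1, 0⟩, ⟨2, 0, 0, 0, 0, 0, 0, 0⟩⟩,
  ⟨⟨-2, 0, 0, 0, 0, 0, 0, 0⟩, ⟨0, 0, -2, 0, 0, 0, 0, 0⟩, ⟨-1, 0, -1, 0, -1, 0, 1, -2⟩⟩,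
  ⟨⟨-2, 0, 0, 0, 0, 0, 0, 0⟩, ⟨0, 0, -2, 0, 0, 0, 0, 0⟩, ⟨-1, 0, -1, 2, 1, 0, -1, 0⟩⟩,
  ⟨⟨-2, 0, 0, 0, 0, 0, 0, 0⟩, ⟨0, 0, -2, 0, 0, 0, 0, 0⟩, ⟨-1, 0, 1, 0, 1, -2, 1, 0⟩⟩,
  ⟨⟨-2, 0, 0, 0, 0, 0, 0, 0⟩, ⟨0, 0, -2, 0, 0, 0, 0, 0⟩, ⟨-1, 2, 1, 0, -1, 0, -1, 0⟩⟩,
  ⟨⟨-2, 0, 0, 0, 0, 0, 0, 0⟩, ⟨0, 0, -2, 0, 0, 0, 0, 0⟩, ⟨1, -2, -1, 0, 1, 0, 1, 0⟩⟩,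
  ⟨⟨-2, 0, 0, 0, 0, 0, 0, 0⟩, ⟨0, 0, -2, 0, 0, 0, 0, 0⟩, ⟨1, 0, -1, 0, -1, 2, -1, 0⟩⟩,
  ⟨⟨-2, 0, 0, 0, 0, 0, 0, 0⟩, ⟨0, 0, -2, 0, 0, 0, 0, 0⟩, ⟨1, 0, 1, -2, -1, 0, 1, 0⟩⟩,
  ⟨⟨-2, 0, 0, 0, 0, 0, 0, 0⟩, ⟨0, 0, -2, 0, 0, 0, 0, 0⟩, ⟨1, 0, 1, 0, 1, 0, -1, 2⟩⟩,
  ⟨⟨-2, 0, 0, 0, 0, 0, 0, 0⟩, ⟨0, 0, 0, 0, -2, 0, 0, 0⟩, ⟨-1, 0, -1, 0, -1, 2, 1, 0⟩⟩,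
  ⟨⟨-2, 0, 0, 0, 0, 0, 0, 0⟩, ⟨0, 0, 0, 0, -2, 0, 0, 0⟩, ⟨-1, 0, 1, -2, -1, 0, -1, 0⟩⟩,
  ⟨⟨-2, 0, 0, 0, 0, 0, 0, 0⟩, ⟨0, 0, 0, 0, -2, 0, 0, 0⟩, ⟨-1, 0, 1, 0, 1, 0, 1, -2⟩⟩,
  ⟨⟨-2, 0, 0, 0, 0, 0, 0, 0⟩, ⟨0, 0, 0, 0, -2, 0, 0, 0⟩, ⟨-1, 2, -1, 0, 1, 0, -1, 0⟩⟩,
  ⟨⟨-2, 0, 0, 0, 0, 0, 0, 0⟩, ⟨0, 0, 0, 0, -2, 0, 0, 0⟩, ⟨1, -2, 1, 0, -1, 0, 1, 0⟩⟩,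
  ⟨⟨-2, 0, 0, 0, 0, 0, 0, 0⟩, ⟨0, 0, 0, 0, -2, 0, 0, 0⟩, ⟨1, 0, -1, 0, -1, 0, -1, 2⟩⟩,
  ⟨⟨-2, 0, 0, 0, 0, 0, 0, 0⟩, ⟨0, 0, 0, 0, -2, 0, 0, 0⟩, ⟨1, 0, -1, 2, 1, 0, 1, 0⟩⟩,
  ⟨⟨-2, 0, 0, 0, 0, 0, 0, 0⟩, ⟨0, 0, 0, 0, -2, 0, 0, 0⟩, ⟨1, 0, 1, 0, 1, -2, -1, 0⟩⟩,
  ⟨⟨-2, 0, 0, 0, 0, 0, 0, 0⟩, ⟨0, 0, 0, 0, 0, 0, -2, 0⟩, ⟨-1, 0, -1, 0, 1, -2, -1, 0⟩⟩,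
  ⟨⟨-2, 0, 0, 0, 0, 0, 0, 0⟩, ⟨0, 0, 0, 0, 0, 0, -2, 0⟩, ⟨-1, 0, 1, -2, 1, 0, 1, 0⟩⟩,
  ⟨⟨-2, 0, 0, 0, 0, 0, 0, 0⟩, ⟨0, 0, 0, 0, 0, 0, -2, 0⟩, ⟨-1, 0, 1, 0, -1, 0, -1, 2⟩⟩,
  ⟨⟨-2, 0, 0, 0, 0, 0, 0, 0⟩, ⟨0, 0, 0, 0, 0, 0, -2, 0⟩, ⟨-1, 2, -1, 0, -1, 0, 1, 0⟩⟩,
  ⟨⟨-2, 0, 0, 0, 0, 0, 0, 0⟩, ⟨0, 0, 0, 0, 0, 0, -2, 0⟩, ⟨1, -2, 1, 0, 1, 0, -1, 0⟩⟩,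
  ⟨⟨-2, 0, 0, 0, 0, 0, 0, 0⟩, ⟨0, 0, 0, 0, 0, 0, -2, 0⟩, ⟨1, 0, -1, 0, 1, 0, 1, -2⟩⟩,
  ⟨⟨-2, 0, 0, 0, 0, 0, 0, 0⟩, ⟨0, 0, 0, 0, 0, 0, -2, 0⟩, ⟨1, 0, -1, 2, -1, 0, -1, 0⟩⟩
]

/-- some lines -/
def lines2 : List V3 := [
  ⟨⟨-2, 0, 0, 0, 0, 0, 0, 0⟩, ⟨0, 0, 0, 0, 0, 0, -2, 0⟩, ⟨1, 0, 1, 0, -1, 2, 1, 0⟩⟩,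
  ⟨⟨-2, 0, 0, 0, 0, 0, 0, 0⟩, ⟨0, 0, 0, 0, 0, 0, 2, 0⟩, ⟨-1, 0, -1, 0, 1, -2, -1, 0⟩⟩,
  ⟨⟨-2, 0, 0, 0, 0, 0, 0, 0⟩, ⟨0, 0, 0, 0, 0, 0, 2, 0⟩, ⟨-1, 0, 1, -2, 1, 0, 1, 0⟩⟩,
  ⟨⟨-2, 0, 0, 0, 0, 0, 0, 0⟩, ⟨0, 0, 0, 0, 0, 0, 2, 0⟩, ⟨-1, 0, 1, 0, -1, 0, -1, 2⟩⟩,
  ⟨⟨-2, 0, 0, 0, 0, 0, 0, 0⟩, ⟨0, 0, 0, 0, 0, 0, 2, 0⟩, ⟨-1, 2, -1, 0, -1, 0, 1, 0⟩⟩,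
  ⟨⟨-2, 0, 0, 0, 0, 0, 0, 0⟩, ⟨0, 0, 0, 0, 0, 0, 2, 0⟩, ⟨1, -2, 1, 0, 1, 0, -1, 0⟩⟩,
  ⟨⟨-2, 0, 0, 0, 0, 0, 0, 0⟩, ⟨0, 0, 0, 0, 0, 0, 2, 0⟩, ⟨1, 0, -1, 0, 1, 0, 1, -2⟩⟩,
  ⟨⟨-2, 0, 0, 0, 0, 0, 0, 0⟩, ⟨0, 0, 0, 0, 0, 0, 2, 0⟩, ⟨1, 0, -1, 2, -1, 0, -1, 0⟩⟩,
  ⟨⟨-2, 0, 0, 0, 0, 0, 0, 0⟩, ⟨0, 0, 0, 0, 0, 0, 2, 0⟩, ⟨1, 0, 1, 0, -1, 2, 1, 0⟩⟩,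
  ⟨⟨-2, 0, 0, 0, 0, 0, 0, 0⟩, ⟨0, 0, 0, 0, 2, 0, 0, 0⟩, ⟨-1, 0, -1, 0, -1, 2, 1, 0⟩⟩,
  ⟨⟨-2, 0, 0, 0, 0, 0, 0, 0⟩, ⟨0, 0, 0, 0, 2, 0, 0, 0⟩, ⟨-1, 0, 1, -2, -1, 0, -1, 0⟩⟩,
  ⟨⟨-2, 0, 0, 0, 0, 0, 0, 0⟩, ⟨0, 0, 0, 0, 2, 0, 0, 0⟩, ⟨-1, 0, 1, 0, 1, 0, 1, -2⟩⟩,
  ⟨⟨-2, 0, 0, 0, 0, 0, 0, 0⟩, ⟨0, 0, 0, 0, 2, 0, 0, 0⟩, ⟨-1, 2, -1, 0, 1, 0, -1, 0⟩⟩,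
  ⟨⟨-2, 0, 0, 0, 0, 0, 0, 0⟩, ⟨0, 0, 0, 0, 2, 0, 0, 0⟩, ⟨1, -2, 1, 0, -1, 0, 1, 0⟩⟩,
  ⟨⟨-2, 0, 0, 0, 0, 0, 0, 0⟩, ⟨0, 0, 0, 0, 2, 0, 0, 0⟩, ⟨1, 0, -1, 0, -1, 0, -1, 2⟩⟩,
  ⟨⟨-2, 0, 0, 0, 0, 0, 0, 0⟩, ⟨0, 0, 0, 0, 2, 0, 0, 0⟩, ⟨1, 0, -1, 2, 1, 0, 1, 0⟩⟩,
  ⟨⟨-2, 0, 0, 0, 0, 0, 0, 0⟩, ⟨0, 0, 0, 0, 2, 0, 0, 0⟩, ⟨1, 0, 1, 0, 1, -2, -1, 0⟩⟩,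
  ⟨⟨-2, 0, 0, 0, 0, 0, 0, 0⟩, ⟨0, 0, 2, 0, 0, 0, 0, 0⟩, ⟨-1, 0, -1, 0, -1, 0, 1, -2⟩⟩,
  ⟨⟨-2, 0, 0, 0, 0, 0, 0, 0⟩, ⟨0, 0, 2, 0, 0, 0, 0, 0⟩, ⟨-1, 0, -1, 2, 1, 0, -1, 0⟩⟩,
  ⟨⟨-2, 0, 0, 0, 0, 0, 0, 0⟩, ⟨0, 0, 2, 0, 0, 0, 0, 0⟩, ⟨-1, 0, 1, 0, 1, -2, 1, 0⟩⟩,
  ⟨⟨-2, 0, 0, 0, 0, 0, 0, 0⟩, ⟨0, 0, 2, 0, 0, 0, 0, 0⟩, ⟨-1, 2, 1, 0, -1, 0, -1, 0⟩⟩,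
  ⟨⟨-2, 0, 0, 0, 0, 0, 0, 0⟩, ⟨0, 0, 2, 0, 0, 0, 0, 0⟩, ⟨1, -2, -1, 0, 1, 0, 1, 0⟩⟩,
  ⟨⟨-2, 0, 0, 0, 0, 0, 0, 0⟩, ⟨0, 0, 2, 0, 0, 0, 0, 0⟩, ⟨1, 0, -1, 0, -1, 2, -1, 0⟩⟩,
  ⟨⟨-2, 0, 0, 0, 0, 0, 0, 0⟩, ⟨0, 0, 2, 0, 0, 0, 0, 0⟩, ⟨1, 0, 1, -2, -1, 0, 1, 0⟩⟩,
  ⟨⟨-2, 0, 0, 0, 0, 0, 0, 0⟩, ⟨0, 0, 2, 0, 0, 0, 0, 0⟩, ⟨1, 0, 1, 0, 1, 0, -1, 2⟩⟩,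
  ⟨⟨-2, 0, 0, 0, 0, 0, 0, 0⟩, ⟨1, -2, -1, 0, -1, 0, -1, 0⟩, ⟨-2, 0, 0, 0, 0, 0, 0, 0⟩⟩,
  ⟨⟨-2, 0, 0, 0, 0, 0, 0, 0⟩, ⟨1, -2, -1, 0, -1, 0, -1, 0⟩, ⟨2, 0, 0, 0, 0, 0, 0, 0⟩⟩,
  ⟨⟨-2, 0, 0, 0, 0, 0, 0, 0⟩, ⟨1, -2, -1, 0, 1, 0, 1, 0⟩, ⟨0, 0, -2, 0, 0, 0, 0, 0⟩⟩,
  ⟨⟨-2, 0, 0, 0, 0, 0, 0, 0⟩, ⟨1, -2, -1, 0, 1, 0, 1, 0⟩, ⟨0, 0, 2, 0, 0, 0, 0, 0⟩⟩,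
  ⟨⟨-2, 0, 0, 0, 0, 0, 0, 0⟩, ⟨1, -2, 1, 0, -1, 0, 1, 0⟩, ⟨0, 0, 0, 0, -2, 0, 0, 0⟩⟩,
  ⟨⟨-2, 0, 0, 0, 0, 0, 0, 0⟩, ⟨1, -2, 1, 0, -1, 0, 1, 0⟩, ⟨0, 0, 0, 0, 2, 0, 0, 0⟩⟩,
  ⟨⟨-2, 0, 0, 0, 0, 0, 0, 0⟩, ⟨1, -2, 1, 0, 1, 0, -1, 0⟩, ⟨0, 0, 0, 0, 0, 0, -2, 0⟩⟩,
  ⟨⟨-2, 0, 0, 0, 0, 0, 0, 0⟩, ⟨1, -2, 1, 0, 1, 0, -1, 0⟩, ⟨0, 0, 0, 0, 0, 0, 2, 0⟩⟩,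
  ⟨⟨-2, 0, 0, 0, 0, 0, 0, 0⟩, ⟨1, 0, -1, 0, -1, 0, -1, 2⟩, ⟨0, 0, 0, 0, -2, 0, 0, 0⟩⟩,
  ⟨⟨-2, 0, 0, 0, 0, 0, 0, 0⟩, ⟨1, 0, -1, 0, -1, 0, -1, 2⟩, ⟨0, 0, 0, 0, 2, 0, 0, 0⟩⟩,
  ⟨⟨-2, 0, 0, 0, 0, 0, 0, 0⟩, ⟨1, 0, -1, 0, -1, 2, -1, 0⟩, ⟨0, 0, -2, 0, 0, 0, 0, 0⟩⟩,
  ⟨⟨-2, 0, 0, 0, 0, 0, 0, 0⟩, ⟨1, 0, -1, 0, -1, 2, -1, 0⟩, ⟨0, 0, 2, 0, 0, 0, 0, 0⟩⟩,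
  ⟨⟨-2, 0, 0, 0, 0, 0, 0, 0⟩, ⟨1, 0, -1, 0, 1, -2, 1, 0⟩, ⟨-2, 0, 0, 0, 0, 0, 0, 0⟩⟩,
  ⟨⟨-2, 0, 0, 0, 0, 0, 0, 0⟩, ⟨1, 0, -1, 0, 1, -2, 1, 0⟩, ⟨2, 0, 0, 0, 0, 0, 0, 0⟩⟩,
  ⟨⟨-2, 0, 0, 0, 0, 0, 0, 0⟩, ⟨1, 0, -1, 0, 1, 0, 1, -2⟩, ⟨0, 0, 0, 0, 0, 0, -2, 0⟩⟩,
  ⟨⟨-2, 0, 0, 0, 0, 0, 0, 0⟩, ⟨1, 0, -1, 0, 1, 0, 1, -2⟩, ⟨0, 0, 0, 0, 0, 0, 2, 0⟩⟩,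
  ⟨⟨-2, 0, 0, 0, 0, 0, 0, 0⟩, ⟨1, 0, -1, 2, -1, 0, -1, 0⟩, ⟨0, 0, 0, 0, 0, 0, -2, 0⟩⟩,
  ⟨⟨-2, 0, 0, 0, 0, 0, 0, 0⟩, ⟨1, 0, -1, 2, -1, 0, -1, 0⟩, ⟨0, 0, 0, 0, 0, 0, 2, 0⟩⟩,
  ⟨⟨-2, 0, 0, 0, 0, 0, 0, 0⟩, ⟨1, 0, -1, 2, 1, 0, 1, 0⟩, ⟨0, 0, 0, 0, -2, 0, 0, 0⟩⟩,
  ⟨⟨-2, 0, 0, 0, 0, 0, 0, 0⟩, ⟨1, 0, -1, 2, 1, 0, 1, 0⟩, ⟨0, 0, 0, 0, 2, 0, 0, 0⟩⟩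
]

/-- some lines -/
def lines3 : List V3 := [
  ⟨⟨-2, 0, 0, 0, 0, 0, 0, 0⟩, ⟨1, 0, 1, -2, -1, 0, 1, 0⟩, ⟨0, 0, -2, 0, 0, 0, 0, 0⟩⟩,
  ⟨⟨-2, 0, 0, 0, 0, 0, 0, 0⟩, ⟨1, 0, 1, -2, -1, 0, 1, 0⟩, ⟨0, 0, 2, 0, 0, 0, 0, 0⟩⟩,
  ⟨⟨-2, 0, 0, 0, 0, 0, 0, 0⟩, ⟨1, 0, 1, -2, 1, 0, -1, 0⟩, ⟨-2, 0, 0, 0, 0, 0, 0, 0⟩⟩,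
  ⟨⟨-2, 0, 0, 0, 0, 0, 0, 0⟩, ⟨1, 0, 1, -2, 1, 0, -1, 0⟩, ⟨2, 0, 0, 0, 0, 0, 0, 0⟩⟩,
  ⟨⟨-2, 0, 0, 0, 0, 0, 0, 0⟩, ⟨1, 0, 1, 0, -1, 0, 1, -2⟩, ⟨-2, 0, 0, 0, 0, 0, 0, 0⟩⟩,
  ⟨⟨-2, 0, 0, 0, 0, 0, 0, 0⟩, ⟨1, 0, 1, 0, -1, 0, 1, -2⟩, ⟨2, 0, 0, 0, 0, 0, 0, 0⟩⟩,
  ⟨⟨-2, 0, 0, 0, 0, 0, 0, 0⟩, ⟨1, 0, 1, 0, -1, 2, 1, 0⟩, ⟨0, 0, 0, 0, 0, 0, -2, 0⟩⟩,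
  ⟨⟨-2, 0, 0, 0, 0, 0, 0, 0⟩, ⟨1, 0, 1, 0, -1, 2, 1, 0⟩, ⟨0, 0, 0, 0, 0, 0, 2, 0⟩⟩,
  ⟨⟨-2, 0, 0, 0, 0, 0, 0, 0⟩, ⟨1, 0, 1, 0, 1, -2, -1, 0⟩, ⟨0, 0, 0, 0, -2, 0, 0, 0⟩⟩,
  ⟨⟨-2, 0, 0, 0, 0, 0, 0, 0⟩, ⟨1, 0, 1, 0, 1, -2, -1, 0⟩, ⟨0, 0, 0, 0, 2, 0, 0, 0⟩⟩,
  ⟨⟨-2, 0, 0, 0, 0, 0, 0, 0⟩, ⟨1, 0, 1, 0, 1, 0, -1, 2⟩, ⟨0, 0, -2, 0, 0, 0, 0, 0⟩⟩,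
  ⟨⟨-2, 0, 0, 0, 0, 0, 0, 0⟩, ⟨1, 0, 1, 0, 1, 0, -1, 2⟩, ⟨0, 0, 2, 0, 0, 0, 0, 0⟩⟩,
  ⟨⟨-2, 0, 0, 0, 0, 0, 0, 0⟩, ⟨2, 0, 0, 0, 0, 0, 0, 0⟩, ⟨-1, 0, -1, 0, 1, 0, -1, 2⟩⟩,
  ⟨⟨-2, 0, 0, 0, 0, 0, 0, 0⟩, ⟨2, 0, 0, 0, 0, 0, 0, 0⟩, ⟨-1, 0, -1, 2, -1, 0, 1, 0⟩⟩,
  ⟨⟨-2, 0, 0, 0, 0, 0, 0, 0⟩, ⟨2, 0, 0, 0, 0, 0, 0, 0⟩, ⟨-1, 0, 1, 0, -1, 2, -1, 0⟩⟩,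
  ⟨⟨-2, 0, 0, 0, 0, 0, 0, 0⟩, ⟨2, 0, 0, 0, 0, 0, 0, 0⟩, ⟨-1, 2, 1, 0, 1, 0, 1, 0⟩⟩,
  ⟨⟨-2, 0, 0, 0, 0, 0, 0, 0⟩, ⟨2, 0, 0, 0, 0, 0, 0, 0⟩, ⟨1, -2, -1, 0, -1, 0, -1, 0⟩⟩,
  ⟨⟨-2, 0, 0, 0, 0, 0, 0, 0⟩, ⟨2, 0, 0, 0, 0, 0, 0, 0⟩, ⟨1, 0, -1, 0, 1, -2, 1, 0⟩⟩,
  ⟨⟨-2, 0, 0, 0, 0, 0, 0, 0⟩, ⟨2, 0, 0, 0, 0, 0, 0, 0⟩, ⟨1, 0, 1, -2, 1, 0, -1, 0⟩⟩,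
  ⟨⟨-2, 0, 0, 0, 0, 0, 0, 0⟩, ⟨2, 0, 0, 0, 0, 0, 0, 0⟩, ⟨1, 0, 1, 0, -1, 0, 1, -2⟩⟩,
  ⟨⟨-1, 0, -1, 0, -1, 0, 1, -2⟩, ⟨-2, 0, 0, 0, 0, 0, 0, 0⟩, ⟨0, 0, -2, 0, 0, 0, 0, 0⟩⟩,
  ⟨⟨-1, 0, -1, 0, -1, 0, 1, -2⟩, ⟨-2, 0, 0, 0, 0, 0, 0, 0⟩, ⟨0, 0, 2, 0, 0, 0, 0, 0⟩⟩,
  ⟨⟨-1, 0, -1, 0, -1, 0, 1, -2⟩, ⟨0, 0, -2, 0, 0, 0, 0, 0⟩, ⟨-2, 0, 0, 0, 0, 0, 0, 0⟩⟩,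
  ⟨⟨-1, 0, -1, 0, -1, 0, 1, -2⟩, ⟨0, 0, -2, 0, 0, 0, 0, 0⟩, ⟨2, 0, 0, 0, 0, 0, 0, 0⟩⟩,
  ⟨⟨-1, 0, -1, 0, -1, 0, 1, -2⟩, ⟨0, 0, 0, 0, -2, 0, 0, 0⟩, ⟨0, 0, 0, 0, 0, 0, -2, 0⟩⟩,
  ⟨⟨-1, 0, -1, 0, -1, 0, 1, -2⟩, ⟨0, 0, 0, 0, -2, 0, 0, 0⟩, ⟨0, 0, 0, 0, 0, 0, 2, 0⟩⟩,
  ⟨⟨-1, 0, -1, 0, -1, 0, 1, -2⟩, ⟨0, 0, 0, 0, 0, 0, -2, 0⟩, ⟨0, 0, 0, 0, -2, 0, 0, 0⟩⟩,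
  ⟨⟨-1, 0, -1, 0, -1, 0, 1, -2⟩, ⟨0, 0, 0, 0, 0, 0, -2, 0⟩, ⟨0, 0, 0, 0, 2, 0, 0, 0⟩⟩,
  ⟨⟨-1, 0, -1, 0, -1, 0, 1, -2⟩, ⟨0, 0, 0, 0, 0, 0, 2, 0⟩, ⟨0, 0, 0, 0, -2, 0, 0, 0⟩⟩,
  ⟨⟨-1, 0, -1, 0, -1, 0, 1, -2⟩, ⟨0, 0, 0, 0, 0, 0, 2, 0⟩, ⟨0, 0, 0, 0, 2, 0, 0, 0⟩⟩,
  ⟨⟨-1, 0, -1, 0, -1, 0, 1, -2⟩, ⟨0, 0, 0, 0, 2, 0, 0, 0⟩, ⟨0, 0, 0, 0, 0, 0, -2, 0⟩⟩,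
  ⟨⟨-1, 0, -1, 0, -1, 0, 1, -2⟩, ⟨0, 0, 0, 0, 2, 0, 0, 0⟩, ⟨0, 0, 0, 0, 0, 0, 2, 0⟩⟩,
  ⟨⟨-1, 0, -1, 0, -1, 0, 1, -2⟩, ⟨0, 0, 2, 0, 0, 0, 0, 0⟩, ⟨-2, 0, 0, 0, 0, 0, 0, 0⟩⟩,
  ⟨⟨-1, 0, -1, 0, -1, 0, 1, -2⟩, ⟨0, 0, 2, 0, 0, 0, 0, 0⟩, ⟨2, 0, 0, 0, 0, 0, 0, 0⟩⟩,
  ⟨⟨-1, 0, -1, 0, -1, 0, 1, -2⟩, ⟨2, 0, 0, 0, 0, 0, 0, 0⟩, ⟨0, 0, -2, 0, 0, 0, 0, 0⟩⟩,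
  ⟨⟨-1, 0, -1, 0, -1, 0, 1, -2⟩, ⟨2, 0, 0, 0, 0, 0, 0, 0⟩, ⟨0, 0, 2, 0, 0, 0, 0, 0⟩⟩,
  ⟨⟨-1, 0, -1, 0, -1, 2, 1, 0⟩, ⟨-2, 0, 0, 0, 0, 0, 0, 0⟩, ⟨0, 0, 0, 0, -2, 0, 0, 0⟩⟩,
  ⟨⟨-1, 0, -1, 0, -1, 2, 1, 0⟩, ⟨-2, 0, 0, 0, 0, 0, 0, 0⟩, ⟨0, 0, 0, 0, 2, 0, 0, 0⟩⟩,
  ⟨⟨-1, 0, -1, 0, -1, 2, 1, 0⟩, ⟨0, 0, -2, 0, 0, 0, 0, 0⟩, ⟨0, 0, 0, 0, 0, 0, -2, 0⟩⟩,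
  ⟨⟨-1, 0, -1, 0, -1, 2, 1, 0⟩, ⟨0, 0, -2, 0, 0, 0, 0, 0⟩, ⟨0, 0, 0, 0, 0, 0, 2, 0⟩⟩,
  ⟨⟨-1, 0, -1, 0, -1, 2, 1, 0⟩, ⟨0, 0, 0, 0, -2, 0, 0, 0⟩, ⟨-2, 0, 0, 0, 0, 0, 0, 0⟩⟩,
  ⟨⟨-1, 0, -1, 0, -1, 2, 1, 0⟩, ⟨0, 0, 0, 0, -2, 0, 0, 0⟩, ⟨2, 0, 0, 0, 0, 0, 0, 0⟩⟩,
  ⟨⟨-1, 0, -1, 0, -1, 2, 1, 0⟩, ⟨0, 0, 0, 0, 0, 0, -2, 0⟩, ⟨0, 0, -2, 0, 0, 0, 0, 0⟩⟩,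
  ⟨⟨-1, 0, -1, 0, -1, 2, 1, 0⟩, ⟨0, 0, 0, 0, 0, 0, -2, 0⟩, ⟨0, 0, 2, 0, 0, 0, 0, 0⟩⟩,
  ⟨⟨-1, 0, -1, 0, -1, 2, 1, 0⟩, ⟨0, 0, 0, 0, 0, 0, 2, 0⟩, ⟨0, 0, -2, 0, 0, 0, 0, 0⟩⟩
]

/-- some lines -/
def lines4 : List V3 := [
  ⟨⟨-1, 0, -1, 0, -1, 2, 1, 0⟩, ⟨0, 0, 0, 0, 0, 0, 2, 0⟩, ⟨0, 0, 2, 0, 0, 0, 0, 0⟩⟩,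
  ⟨⟨-1, 0, -1, 0, -1, 2, 1, 0⟩, ⟨0, 0, 0, 0, 2, 0, 0, 0⟩, ⟨-2, 0, 0, 0, 0, 0, 0, 0⟩⟩,
  ⟨⟨-1, 0, -1, 0, -1, 2, 1, 0⟩, ⟨0, 0, 0, 0, 2, 0, 0, 0⟩, ⟨2, 0, 0, 0, 0, 0, 0, 0⟩⟩,
  ⟨⟨-1, 0, -1, 0, -1, 2, 1, 0⟩, ⟨0, 0, 2, 0, 0, 0, 0, 0⟩, ⟨0, 0, 0, 0, 0, 0, -2, 0⟩⟩,
  ⟨⟨-1, 0, -1, 0, -1, 2, 1, 0⟩, ⟨0, 0, 2, 0, 0, 0, 0, 0⟩, ⟨0, 0, 0, 0, 0, 0, 2, 0⟩⟩,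
  ⟨⟨-1, 0, -1, 0, -1, 2, 1, 0⟩, ⟨2, 0, 0, 0, 0, 0, 0, 0⟩, ⟨0, 0, 0, 0, -2, 0, 0, 0⟩⟩,
  ⟨⟨-1, 0, -1, 0, -1, 2, 1, 0⟩, ⟨2, 0, 0, 0, 0, 0, 0, 0⟩, ⟨0, 0, 0, 0, 2, 0, 0, 0⟩⟩,
  ⟨⟨-1, 0, -1, 0, 1, -2, -1, 0⟩, ⟨-2, 0, 0, 0, 0, 0, 0, 0⟩, ⟨0, 0, 0, 0, 0, 0, -2, 0⟩⟩,
  ⟨⟨-1, 0, -1, 0, 1, -2, -1, 0⟩, ⟨-2, 0, 0, 0, 0, 0, 0, 0⟩, ⟨0, 0, 0, 0, 0, 0, 2, 0⟩⟩,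
  ⟨⟨-1, 0, -1, 0, 1, -2, -1, 0⟩, ⟨0, 0, -2, 0, 0, 0, 0, 0⟩, ⟨0, 0, 0, 0, -2, 0, 0, 0⟩⟩,
  ⟨⟨-1, 0, -1, 0, 1, -2, -1, 0⟩, ⟨0, 0, -2, 0, 0, 0, 0, 0⟩, ⟨0, 0, 0, 0, 2, 0, 0, 0⟩⟩,
  ⟨⟨-1, 0, -1, 0, 1, -2, -1, 0⟩, ⟨0, 0, 0, 0, -2, 0, 0, 0⟩, ⟨0, 0, -2, 0, 0, 0, 0, 0⟩⟩,
  ⟨⟨-1, 0, -1, 0, 1, -2, -1, 0⟩, ⟨0, 0, 0, 0, -2, 0, 0, 0⟩, ⟨0, 0, 2, 0, 0, 0, 0, 0⟩⟩,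
  ⟨⟨-1, 0, -1, 0, 1, -2, -1, 0⟩, ⟨0, 0, 0, 0, 0, 0, -2, 0⟩, ⟨-2, 0, 0, 0, 0, 0, 0, 0⟩⟩,
  ⟨⟨-1, 0, -1, 0, 1, -2, -1, 0⟩, ⟨0, 0, 0, 0, 0, 0, -2, 0⟩, ⟨2, 0, 0, 0, 0, 0, 0, 0⟩⟩,
  ⟨⟨-1, 0, -1, 0, 1, -2, -1, 0⟩, ⟨0, 0, 0, 0, 0, 0, 2, 0⟩, ⟨-2, 0, 0, 0, 0, 0, 0, 0⟩⟩,
  ⟨⟨-1, 0, -1, 0, 1, -2, -1, 0⟩, ⟨0, 0, 0, 0, 0, 0, 2, 0⟩, ⟨2, 0, 0, 0, 0, 0, 0, 0⟩⟩,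
  ⟨⟨-1, 0, -1, 0, 1, -2, -1, 0⟩, ⟨0, 0, 0, 0, 2, 0, 0, 0⟩, ⟨0, 0, -2, 0, 0, 0, 0, 0⟩⟩,
  ⟨⟨-1, 0, -1, 0, 1, -2, -1, 0⟩, ⟨0, 0, 0, 0, 2, 0, 0, 0⟩, ⟨0, 0, 2, 0, 0, 0, 0, 0⟩⟩,
  ⟨⟨-1, 0, -1, 0, 1, -2, -1, 0⟩, ⟨0, 0, 2, 0, 0, 0, 0, 0⟩, ⟨0, 0, 0, 0, -2, 0, 0, 0⟩⟩,
  ⟨⟨-1, 0, -1, 0, 1, -2, -1, 0⟩, ⟨0, 0, 2, 0, 0, 0, 0, 0⟩, ⟨0, 0, 0, 0, 2, 0, 0, 0⟩⟩,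
  ⟨⟨-1, 0, -1, 0, 1, -2, -1, 0⟩, ⟨2, 0, 0, 0, 0, 0, 0, 0⟩, ⟨0, 0, 0, 0, 0, 0, -2, 0⟩⟩,
  ⟨⟨-1, 0, -1, 0, 1, -2, -1, 0⟩, ⟨2, 0, 0, 0, 0, 0, 0, 0⟩, ⟨0, 0, 0, 0, 0, 0, 2, 0⟩⟩,
  ⟨⟨-1, 0, -1, 0, 1, 0, -1, 2⟩, ⟨-2, 0, 0, 0, 0, 0, 0, 0⟩, ⟨-2, 0, 0, 0, 0, 0, 0, 0⟩⟩,
  ⟨⟨-1, 0, -1, 0, 1, 0, -1, 2⟩, ⟨-2, 0, 0, 0, 0, 0, 0, 0⟩, ⟨2, 0, 0, 0, 0, 0, 0, 0⟩⟩,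
  ⟨⟨-1, 0, -1, 0, 1, 0, -1, 2⟩, ⟨0, 0, -2, 0, 0, 0, 0, 0⟩, ⟨0, 0, -2, 0, 0, 0, 0, 0⟩⟩,
  ⟨⟨-1, 0, -1, 0, 1, 0, -1, 2⟩, ⟨0, 0, -2, 0, 0, 0, 0, 0⟩, ⟨0, 0, 2, 0, 0, 0, 0, 0⟩⟩,
  ⟨⟨-1, 0, -1, 0, 1, 0, -1, 2⟩, ⟨0, 0, 0, 0, -2, 0, 0, 0⟩, ⟨0, 0, 0, 0, -2, 0, 0, 0⟩⟩,
  ⟨⟨-1, 0, -1, 0, 1, 0, -1, 2⟩, ⟨0, 0, 0, 0, -2, 0, 0, 0⟩, ⟨0, 0, 0, 0, 2, 0, 0, 0⟩⟩,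
  ⟨⟨-1, 0, -1, 0, 1, 0, -1, 2⟩, ⟨0, 0, 0, 0, 0, 0, -2, 0⟩, ⟨0, 0, 0, 0, 0, 0, -2, 0⟩⟩,
  ⟨⟨-1, 0, -1, 0, 1, 0, -1, 2⟩, ⟨0, 0, 0, 0, 0, 0, -2, 0⟩, ⟨0, 0, 0, 0, 0, 0, 2, 0⟩⟩,
  ⟨⟨-1, 0, -1, 0, 1, 0, -1, 2⟩, ⟨0, 0, 0, 0, 0, 0, 2, 0⟩, ⟨0, 0, 0, 0, 0, 0, -2, 0⟩⟩,
  ⟨⟨-1, 0, -1, 0, 1, 0, -1, 2⟩, ⟨0, 0, 0, 0, 0, 0, 2, 0⟩, ⟨0, 0, 0, 0, 0, 0, 2, 0⟩⟩,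
  ⟨⟨-1, 0, -1, 0, 1, 0, -1, 2⟩, ⟨0, 0, 0, 0, 2, 0, 0, 0⟩, ⟨0, 0, 0, 0, -2, 0, 0, 0⟩⟩,
  ⟨⟨-1, 0, -1, 0, 1, 0, -1, 2⟩, ⟨0, 0, 0, 0, 2, 0, 0, 0⟩, ⟨0, 0, 0, 0, 2, 0, 0, 0⟩⟩,
  ⟨⟨-1, 0, -1, 0, 1, 0, -1, 2⟩, ⟨0, 0, 2, 0, 0, 0, 0, 0⟩, ⟨0, 0, -2, 0, 0, 0, 0, 0⟩⟩,
  ⟨⟨-1, 0, -1, 0, 1, 0, -1, 2⟩, ⟨0, 0, 2, 0, 0, 0, 0, 0⟩, ⟨0, 0, 2, 0, 0, 0, 0, 0⟩⟩,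
  ⟨⟨-1, 0, -1, 0, 1, 0, -1, 2⟩, ⟨2, 0, 0, 0, 0, 0, 0, 0⟩, ⟨-2, 0, 0, 0, 0, 0, 0, 0⟩⟩,
  ⟨⟨-1, 0, -1, 0, 1, 0, -1, 2⟩, ⟨2, 0, 0, 0, 0, 0, 0, 0⟩, ⟨2, 0, 0, 0, 0, 0, 0, 0⟩⟩,
  ⟨⟨-2, 2, 0, 0, 0, 0, 0, 0⟩, ⟨-1, 0, -1, 0, -1, 0, 1, 0⟩, ⟨0, -1, 0, -1, 0, 1, 0, 1⟩⟩,
  ⟨⟨-2, 2, 0, 0, 0, 0, 0, 0⟩, ⟨-1, 0, -1, 0, -1, 0, 1, 0⟩, ⟨0, 1, 0, 1, 0, -1, 0, -1⟩⟩,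
  ⟨⟨-2, 2, 0, 0, 0, 0, 0, 0⟩, ⟨-1, 0, -1, 0, 1, 0, -1, 0⟩, ⟨0, -1, 0, 1, 0, 1, 0, -1⟩⟩,
  ⟨⟨-2, 2, 0, 0, 0, 0, 0, 0⟩, ⟨-1, 0, -1, 0, 1, 0, -1, 0⟩, ⟨0, 1, 0, -1, 0, -1, 0, 1⟩⟩,
  ⟨⟨-2, 2, 0, 0, 0, 0, 0, 0⟩, ⟨-1, 0, 1, 0, -1, 0, -1, 0⟩, ⟨0, -1, 0, 1, 0, -1, 0, 1⟩⟩,
  ⟨⟨-2, 2, 0, 0, 0, 0, 0, 0⟩, ⟨-1, 0, 1, 0, -1, 0, -1, 0⟩, ⟨0, 1, 0, -1, 0, 1, 0, -1⟩⟩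
]

/-- some lines -/
def lines5 : List V3 := [
  ⟨⟨-2, 2, 0, 0, 0, 0, 0, 0⟩, ⟨-1, 0, 1, 0, 1, 0, 1, 0⟩, ⟨0, -1, 0, -1, 0, -1, 0, -1⟩⟩,
  ⟨⟨-2, 2, 0, 0, 0, 0, 0, 0⟩, ⟨-1, 0, 1, 0, 1, 0, 1, 0⟩, ⟨0, 1, 0, 1, 0, 1, 0, 1⟩⟩,
  ⟨⟨-2, 2, 0, 0, 0, 0, 0, 0⟩, ⟨0, -1, 0, -1, 0, -1, 0, -1⟩, ⟨-1, 0, 1, 0, 1, 0, 1, 0⟩⟩,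
  ⟨⟨-2, 2, 0, 0, 0, 0, 0, 0⟩, ⟨0, -1, 0, -1, 0, -1, 0, -1⟩, ⟨1, 0, -1, 0, -1, 0, -1, 0⟩⟩,
  ⟨⟨-2, 2, 0, 0, 0, 0, 0, 0⟩, ⟨0, -1, 0, -1, 0, 1, 0, 1⟩, ⟨-1, 0, -1, 0, -1, 0, 1, 0⟩⟩,
  ⟨⟨-2, 2, 0, 0, 0, 0, 0, 0⟩, ⟨0, -1, 0, -1, 0, 1, 0, 1⟩, ⟨1, 0, 1, 0, 1, 0, -1, 0⟩⟩,
  ⟨⟨-2, 2, 0, 0, 0, 0, 0, 0⟩, ⟨0, -1, 0, 1, 0, -1, 0, 1⟩, ⟨-1, 0, 1, 0, -1, 0, -1, 0⟩⟩,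
  ⟨⟨-2, 2, 0, 0, 0, 0, 0, 0⟩, ⟨0, -1, 0, 1, 0, -1, 0, 1⟩, ⟨1, 0, -1, 0, 1, 0, 1, 0⟩⟩,
  ⟨⟨-2, 2, 0, 0, 0, 0, 0, 0⟩, ⟨0, -1, 0, 1, 0, 1, 0, -1⟩, ⟨-1, 0, -1, 0, 1, 0, -1, 0⟩⟩,
  ⟨⟨-2, 2, 0, 0, 0, 0, 0, 0⟩, ⟨0, -1, 0, 1, 0, 1, 0, -1⟩, ⟨1, 0, 1, 0, -1, 0, 1, 0⟩⟩,
  ⟨⟨-2, 2, 0, 0, 0, 0, 0, 0⟩, ⟨0, 1, 0, -1, 0, -1, 0, 1⟩, ⟨-1, 0, -1, 0, 1, 0, -1, 0⟩⟩,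
  ⟨⟨-2, 2, 0, 0, 0, 0, 0, 0⟩, ⟨0, 1, 0, -1, 0, -1, 0, 1⟩, ⟨1, 0, 1, 0, -1, 0, 1, 0⟩⟩,
  ⟨⟨-2, 2, 0, 0, 0, 0, 0, 0⟩, ⟨0, 1, 0, -1, 0, 1, 0, -1⟩, ⟨-1, 0, 1, 0, -1, 0, -1, 0⟩⟩,
  ⟨⟨-2, 2, 0, 0, 0, 0, 0, 0⟩, ⟨0, 1, 0, -1, 0, 1, 0, -1⟩, ⟨1, 0, -1, 0, 1, 0, 1, 0⟩⟩,
  ⟨⟨-2, 2, 0, 0, 0, 0, 0, 0⟩, ⟨0, 1, 0, 1, 0, -1, 0, -1⟩, ⟨-1, 0, -1, 0, -1, 0, 1, 0⟩⟩,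
  ⟨⟨-2, 2, 0, 0, 0, 0, 0, 0⟩, ⟨0, 1, 0, 1, 0, -1, 0, -1⟩, ⟨1, 0, 1, 0, 1, 0, -1, 0⟩⟩,
  ⟨⟨-2, 2, 0, 0, 0, 0, 0, 0⟩, ⟨0, 1, 0, 1, 0, 1, 0, 1⟩, ⟨-1, 0, 1, 0, 1, 0, 1, 0⟩⟩,
  ⟨⟨-2, 2, 0, 0, 0, 0, 0, 0⟩, ⟨0, 1, 0, 1, 0, 1, 0, 1⟩, ⟨1, 0, -1, 0, -1, 0, -1, 0⟩⟩,
  ⟨⟨-2, 2, 0, 0, 0, 0, 0, 0⟩, ⟨1, 0, -1, 0, -1, 0, -1, 0⟩, ⟨0, -1, 0, -1, 0, -1, 0, -1⟩⟩,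
  ⟨⟨-2, 2, 0, 0, 0, 0, 0, 0⟩, ⟨1, 0, -1, 0, -1, 0, -1, 0⟩, ⟨0, 1, 0, 1, 0, 1, 0, 1⟩⟩,
  ⟨⟨-2, 2, 0, 0, 0, 0, 0, 0⟩, ⟨1, 0, -1, 0, 1, 0, 1, 0⟩, ⟨0, -1, 0, 1, 0, -1, 0, 1⟩⟩,
  ⟨⟨-2, 2, 0, 0, 0, 0, 0, 0⟩, ⟨1, 0, -1, 0, 1, 0, 1, 0⟩, ⟨0, 1, 0, -1, 0, 1, 0, -1⟩⟩,
  ⟨⟨-2, 2, 0, 0, 0, 0, 0, 0⟩, ⟨1, 0, 1, 0, -1, 0, 1, 0⟩, ⟨0, -1, 0, 1, 0, 1, 0, -1⟩⟩,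
  ⟨⟨-2, 2, 0, 0, 0, 0, 0, 0⟩, ⟨1, 0, 1, 0, -1, 0, 1, 0⟩, ⟨0, 1, 0, -1, 0, -1, 0, 1⟩⟩,
  ⟨⟨-2, 2, 0, 0, 0, 0, 0, 0⟩, ⟨1, 0, 1, 0, 1, 0, -1, 0⟩, ⟨0, -1, 0, -1, 0, 1, 0, 1⟩⟩,
  ⟨⟨-2, 2, 0, 0, 0, 0, 0, 0⟩, ⟨1, 0, 1, 0, 1, 0, -1, 0⟩, ⟨0, 1, 0, 1, 0, -1, 0, -1⟩⟩,
  ⟨⟨-1, 0, -1, 0, -1, 0, 1, 0⟩, ⟨-2, 2, 0, 0, 0, 0, 0, 0⟩, ⟨0, -1, 0, -1, 0, 1, 0, 1⟩⟩,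
  ⟨⟨-1, 0, -1, 0, -1, 0, 1, 0⟩, ⟨-2, 2, 0, 0, 0, 0, 0, 0⟩, ⟨0, 1, 0, 1, 0, -1, 0, -1⟩⟩,
  ⟨⟨-1, 0, -1, 0, -1, 0, 1, 0⟩, ⟨0, -1, 0, -1, 0, -1, 0, -1⟩, ⟨0, 0, 0, 0, -2, 2, 0, 0⟩⟩,
  ⟨⟨-1, 0, -1, 0, -1, 0, 1, 0⟩, ⟨0, -1, 0, -1, 0, -1, 0, -1⟩, ⟨0, 0, 0, 0, 2, -2, 0, 0⟩⟩,
  ⟨⟨-1, 0, -1, 0, -1, 0, 1, 0⟩, ⟨0, -1, 0, -1, 0, 1, 0, 1⟩, ⟨-2, 2, 0, 0, 0, 0, 0, 0⟩⟩,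
  ⟨⟨-1, 0, -1, 0, -1, 0, 1, 0⟩, ⟨0, -1, 0, -1, 0, 1, 0, 1⟩, ⟨2, -2, 0, 0, 0, 0, 0, 0⟩⟩,
  ⟨⟨-1, 0, -1, 0, -1, 0, 1, 0⟩, ⟨0, -1, 0, 1, 0, -1, 0, 1⟩, ⟨0, 0, -2, 2, 0, 0, 0, 0⟩⟩,
  ⟨⟨-1, 0, -1, 0, -1, 0, 1, 0⟩, ⟨0, -1, 0, 1, 0, -1, 0, 1⟩, ⟨0, 0, 2, -2, 0, 0, 0, 0⟩⟩,
  ⟨⟨-1, 0, -1, 0, -1, 0, 1, 0⟩, ⟨0, -1, 0, 1, 0, 1, 0, -1⟩, ⟨0, 0, 0, 0, 0, 0, -2, 2⟩⟩,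
  ⟨⟨-1, 0, -1, 0, -1, 0, 1, 0⟩, ⟨0, -1, 0, 1, 0, 1, 0, -1⟩, ⟨0, 0, 0, 0, 0, 0, 2, -2⟩⟩,
  ⟨⟨-1, 0, -1, 0, -1, 0, 1, 0⟩, ⟨0, 0, -2, 2, 0, 0, 0, 0⟩, ⟨0, -1, 0, 1, 0, -1, 0, 1⟩⟩,
  ⟨⟨-1, 0, -1, 0, -1, 0, 1, 0⟩, ⟨0, 0, -2, 2, 0, 0, 0, 0⟩, ⟨0, 1, 0, -1, 0, 1, 0, -1⟩⟩,
  ⟨⟨-1, 0, -1, 0, -1, 0, 1, 0⟩, ⟨0, 0, 0, 0, -2, 2, 0, 0⟩, ⟨0, -1, 0, -1, 0, -1, 0, -1⟩⟩,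
  ⟨⟨-1, 0, -1, 0, -1, 0, 1, 0⟩, ⟨0, 0, 0, 0, -2, 2, 0, 0⟩, ⟨0, 1, 0, 1, 0, 1, 0, 1⟩⟩,
  ⟨⟨-1, 0, -1, 0, -1, 0, 1, 0⟩, ⟨0, 0, 0, 0, 0, 0, -2, 2⟩, ⟨0, -1, 0, 1, 0, 1, 0, -1⟩⟩,
  ⟨⟨-1, 0, -1, 0, -1, 0, 1, 0⟩, ⟨0, 0, 0, 0, 0, 0, -2, 2⟩, ⟨0, 1, 0, -1, 0, -1, 0, 1⟩⟩,
  ⟨⟨-1, 0, -1, 0, -1, 0, 1, 0⟩, ⟨0, 0, 0, 0, 0, 0, 2, -2⟩, ⟨0, -1, 0, 1, 0, 1, 0, -1⟩⟩,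
  ⟨⟨-1, 0, -1, 0, -1, 0, 1, 0⟩, ⟨0, 0, 0, 0, 0, 0, 2, -2⟩, ⟨0, 1, 0, -1, 0, -1, 0, 1⟩⟩,
  ⟨⟨-1, 0, -1, 0, -1, 0, 1, 0⟩, ⟨0, 0, 0, 0, 2, -2, 0, 0⟩, ⟨0, -1, 0, -1, 0, -1, 0, -1⟩⟩
]

/-- some lines -/
def lines6 : List V3 := [
  ⟨⟨-1, 0, -1, 0, -1, 0, 1, 0⟩, ⟨0, 0, 0, 0, 2, -2, 0, 0⟩, ⟨0, 1, 0, 1, 0, 1, 0, 1⟩⟩,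
  ⟨⟨-1, 0, -1, 0, -1, 0, 1, 0⟩, ⟨0, 0, 2, -2, 0, 0, 0, 0⟩, ⟨0, -1, 0, 1, 0, -1, 0, 1⟩⟩,
  ⟨⟨-1, 0, -1, 0, -1, 0, 1, 0⟩, ⟨0, 0, 2, -2, 0, 0, 0, 0⟩, ⟨0, 1, 0, -1, 0, 1, 0, -1⟩⟩,
  ⟨⟨-1, 0, -1, 0, -1, 0, 1, 0⟩, ⟨0, 1, 0, -1, 0, -1, 0, 1⟩, ⟨0, 0, 0, 0, 0, 0, -2, 2⟩⟩,
  ⟨⟨-1, 0, -1, 0, -1, 0, 1, 0⟩, ⟨0, 1, 0, -1, 0, -1, 0, 1⟩, ⟨0, 0, 0, 0, 0, 0, 2, -2⟩⟩,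
  ⟨⟨-1, 0, -1, 0, -1, 0, 1, 0⟩, ⟨0, 1, 0, -1, 0, 1, 0, -1⟩, ⟨0, 0, -2, 2, 0, 0, 0, 0⟩⟩,
  ⟨⟨-1, 0, -1, 0, -1, 0, 1, 0⟩, ⟨0, 1, 0, -1, 0, 1, 0, -1⟩, ⟨0, 0, 2, -2, 0, 0, 0, 0⟩⟩,
  ⟨⟨-1, 0, -1, 0, -1, 0, 1, 0⟩, ⟨0, 1, 0, 1, 0, -1, 0, -1⟩, ⟨-2, 2, 0, 0, 0, 0, 0, 0⟩⟩,
  ⟨⟨-1, 0, -1, 0, -1, 0, 1, 0⟩, ⟨0, 1, 0, 1, 0, -1, 0, -1⟩, ⟨2, -2, 0, 0, 0, 0, 0, 0⟩⟩,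
  ⟨⟨-1, 0, -1, 0, -1, 0, 1, 0⟩, ⟨0, 1, 0, 1, 0, 1, 0, 1⟩, ⟨0, 0, 0, 0, -2, 2, 0, 0⟩⟩,
  ⟨⟨-1, 0, -1, 0, -1, 0, 1, 0⟩, ⟨0, 1, 0, 1, 0, 1, 0, 1⟩, ⟨0, 0, 0, 0, 2, -2, 0, 0⟩⟩,
  ⟨⟨-1, 0, -1, 0, -1, 0, 1, 0⟩, ⟨2, -2, 0, 0, 0, 0, 0, 0⟩, ⟨0, -1, 0, -1, 0, 1, 0, 1⟩⟩,
  ⟨⟨-1, 0, -1, 0, -1, 0, 1, 0⟩, ⟨2, -2, 0, 0, 0, 0, 0, 0⟩, ⟨0, 1, 0, 1, 0, -1, 0, -1⟩⟩,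
  ⟨⟨0, -1, 0, -1, 0, -1, 0, -1⟩, ⟨-2, 2, 0, 0, 0, 0, 0, 0⟩, ⟨-1, 0, 1, 0, 1, 0, 1, 0⟩⟩,
  ⟨⟨0, -1, 0, -1, 0, -1, 0, -1⟩, ⟨-2, 2, 0, 0, 0, 0, 0, 0⟩, ⟨1, 0, -1, 0, -1, 0, -1, 0⟩⟩,
  ⟨⟨0, -1, 0, -1, 0, -1, 0, -1⟩, ⟨-1, 0, -1, 0, -1, 0, 1, 0⟩, ⟨0, 0, 0, 0, -2, 2, 0, 0⟩⟩,
  ⟨⟨0, -1, 0, -1, 0, -1, 0, -1⟩, ⟨-1, 0, -1, 0, -1, 0, 1, 0⟩, ⟨0, 0, 0, 0, 2, -2, 0, 0⟩⟩,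
  ⟨⟨0, -1, 0, -1, 0, -1, 0, -1⟩, ⟨-1, 0, -1, 0, 1, 0, -1, 0⟩, ⟨0, 0, -2, 2, 0, 0, 0, 0⟩⟩,
  ⟨⟨0, -1, 0, -1, 0, -1, 0, -1⟩, ⟨-1, 0, -1, 0, 1, 0, -1, 0⟩, ⟨0, 0, 2, -2, 0, 0, 0, 0⟩⟩,
  ⟨⟨0, -1, 0, -1, 0, -1, 0, -1⟩, ⟨-1, 0, 1, 0, -1, 0, -1, 0⟩, ⟨0, 0, 0, 0, 0, 0, -2, 2⟩⟩,
  ⟨⟨0, -1, 0, -1, 0, -1, 0, -1⟩, ⟨-1, 0, 1, 0, -1, 0, -1, 0⟩, ⟨0, 0, 0, 0, 0, 0, 2, -2⟩⟩,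
  ⟨⟨0, -1, 0, -1, 0, -1, 0, -1⟩, ⟨-1, 0, 1, 0, 1, 0, 1, 0⟩, ⟨-2, 2, 0, 0, 0, 0, 0, 0⟩⟩,
  ⟨⟨0, -1, 0, -1, 0, -1, 0, -1⟩, ⟨-1, 0, 1, 0, 1, 0, 1, 0⟩, ⟨2, -2, 0, 0, 0, 0, 0, 0⟩⟩,
  ⟨⟨0, -1, 0, -1, 0, -1, 0, -1⟩, ⟨0, 0, -2, 2, 0, 0, 0, 0⟩, ⟨-1, 0, -1, 0, 1, 0, -1, 0⟩⟩,
  ⟨⟨0, -1, 0, -1, 0, -1, 0, -1⟩, ⟨0, 0, -2, 2, 0, 0, 0, 0⟩, ⟨1, 0, 1, 0, -1, 0, 1, 0⟩⟩,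
  ⟨⟨0, -1, 0, -1, 0, -1, 0, -1⟩, ⟨0, 0, 0, 0, -2, 2, 0, 0⟩, ⟨-1, 0, -1, 0, -1, 0, 1, 0⟩⟩,
  ⟨⟨0, -1, 0, -1, 0, -1, 0, -1⟩, ⟨0, 0, 0, 0, -2, 2, 0, 0⟩, ⟨1, 0, 1, 0, 1, 0, -1, 0⟩⟩,
  ⟨⟨0, -1, 0, -1, 0, -1, 0, -1⟩, ⟨0, 0, 0, 0, 0, 0, -2, 2⟩, ⟨-1, 0, 1, 0, -1, 0, -1, 0⟩⟩,
  ⟨⟨0, -1, 0, -1, 0, -1, 0, -1⟩, ⟨0, 0, 0, 0, 0, 0, -2, 2⟩, ⟨1, 0, -1, 0, 1, 0, 1, 0⟩⟩,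
  ⟨⟨0, -1, 0, -1, 0, -1, 0, -1⟩, ⟨0, 0, 0, 0, 0, 0, 2, -2⟩, ⟨-1, 0, 1, 0, -1, 0, -1, 0⟩⟩,
  ⟨⟨0, -1, 0, -1, 0, -1, 0, -1⟩, ⟨0, 0, 0, 0, 0, 0, 2, -2⟩, ⟨1, 0, -1, 0, 1, 0, 1, 0⟩⟩,
  ⟨⟨0, -1, 0, -1, 0, -1, 0, -1⟩, ⟨0, 0, 0, 0, 2, -2, 0, 0⟩, ⟨-1, 0, -1, 0, -1, 0, 1, 0⟩⟩,
  ⟨⟨0, -1, 0, -1, 0, -1, 0, -1⟩, ⟨0, 0, 0, 0, 2, -2, 0, 0⟩, ⟨1, 0, 1, 0, 1, 0, -1, 0⟩⟩,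
  ⟨⟨0, -1, 0, -1, 0, -1, 0, -1⟩, ⟨0, 0, 2, -2, 0, 0, 0, 0⟩, ⟨-1, 0, -1, 0, 1, 0, -1, 0⟩⟩,
  ⟨⟨0, -1, 0, -1, 0, -1, 0, -1⟩, ⟨0, 0, 2, -2, 0, 0, 0, 0⟩, ⟨1, 0, 1, 0, -1, 0, 1, 0⟩⟩,
  ⟨⟨0, -1, 0, -1, 0, -1, 0, -1⟩, ⟨1, 0, -1, 0, -1, 0, -1, 0⟩, ⟨-2, 2, 0, 0, 0, 0, 0, 0⟩⟩,
  ⟨⟨0, -1, 0, -1, 0, -1, 0, -1⟩, ⟨1, 0, -1, 0, -1, 0, -1, 0⟩, ⟨2, -2, 0, 0, 0, 0, 0, 0⟩⟩,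
  ⟨⟨0, -1, 0, -1, 0, -1, 0, -1⟩, ⟨1, 0, -1, 0, 1, 0, 1, 0⟩, ⟨0, 0, 0, 0, 0, 0, -2, 2⟩⟩,
  ⟨⟨0, -1, 0, -1, 0, -1, 0, -1⟩, ⟨1, 0, -1, 0, 1, 0, 1, 0⟩, ⟨0, 0, 0, 0, 0, 0, 2, -2⟩⟩,
  ⟨⟨0, -1, 0, -1, 0, -1, 0, -1⟩, ⟨1, 0, 1, 0, -1, 0, 1, 0⟩, ⟨0, 0, -2, 2, 0, 0, 0, 0⟩⟩,
  ⟨⟨0, -1, 0, -1, 0, -1, 0, -1⟩, ⟨1, 0, 1, 0, -1, 0, 1, 0⟩, ⟨0, 0, 2, -2, 0, 0, 0, 0⟩⟩,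
  ⟨⟨0, -1, 0, -1, 0, -1, 0, -1⟩, ⟨1, 0, 1, 0, 1, 0, -1, 0⟩, ⟨0, 0, 0, 0, -2, 2, 0, 0⟩⟩,
  ⟨⟨0, -1, 0, -1, 0, -1, 0, -1⟩, ⟨1, 0, 1, 0, 1, 0, -1, 0⟩, ⟨0, 0, 0, 0, 2, -2, 0, 0⟩⟩,
  ⟨⟨0, -1, 0, -1, 0, -1, 0, -1⟩, ⟨2, -2, 0, 0, 0, 0, 0, 0⟩, ⟨-1, 0, 1, 0, 1, 0, 1, 0⟩⟩,
  ⟨⟨0, -1, 0, -1, 0, -1, 0, -1⟩, ⟨2, -2, 0, 0, 0, 0, 0, 0⟩, ⟨1, 0, -1, 0, -1, 0, -1, 0⟩⟩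
]

/-- representatives of the 315 lines -/
def lines : List V3 := lines0 ++ lines1 ++ lines2 ++ lines3 ++ lines4 ++ lines5 ++ lines6

/-- normal forms of minimal vectors with their lines -/
def forms : List (V3 × ℕ × IQ) := [
  (⟨⟨0, 0, 0, 0, 0, 0, 0, 0⟩, ⟨1, -2, 1, 0, 1, 0, 1, 0⟩, ⟨-1, 0, -1, 0, 1, -2, 1, 0⟩⟩, 21, ⟨-1, 1, 0, -1, 0, 0, -1, 0⟩),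
  (⟨⟨0, 0, 0, 0, 0, 0, 0, 0⟩, ⟨1, -2, 1, 0, 1, 0, 1, 0⟩, ⟨-1, 0, 1, -2, 1, 0, -1, 0⟩⟩, 25, ⟨-1, 1, 0, -1, 0, 0, -1, 0⟩),
  (⟨⟨0, 0, 0, 0, 0, 0, 0, 0⟩, ⟨1, -2, 1, 0, 1, 0, 1, 0⟩, ⟨-1, 0, 1, 0, -1, 0, 1, -2⟩⟩, 23, ⟨-1, 1, 0, -1, 0, 0, -1, 0⟩),
  (⟨⟨0, 0, 0, 0, 0, 0, 0, 0⟩, ⟨1, -2, 1, 0, 1, 0, 1, 0⟩, ⟨-1, 2, -1, 0, -1, 0, -1, 0⟩⟩, 26, ⟨-1, 1, 0, -1, 0, 0, -1, 0⟩),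
  (⟨⟨0, 0, 0, 0, 0, 0, 0, 0⟩, ⟨1, -2, 1, 0, 1, 0, 1, 0⟩, ⟨1, -2, 1, 0, 1, 0, 1, 0⟩⟩, 19, ⟨-1, 1, 0, -1, 0, 0, -1, 0⟩),
  (⟨⟨0, 0, 0, 0, 0, 0, 0, 0⟩, ⟨1, -2, 1, 0, 1, 0, 1, 0⟩, ⟨1, 0, -1, 0, 1, 0, -1, 2⟩⟩, 22, ⟨-1, 1, 0, -1, 0, 0, -1, 0⟩),
  (⟨⟨0, 0, 0, 0, 0, 0, 0, 0⟩, ⟨1, -2, 1, 0, 1, 0, 1, 0⟩, ⟨1, 0, -1, 2, -1, 0, 1, 0⟩⟩, 20, ⟨-1, 1, 0, -1, 0, 0, -1, 0⟩),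
  (⟨⟨0, 0, 0, 0, 0, 0, 0, 0⟩, ⟨1, -2, 1, 0, 1, 0, 1, 0⟩, ⟨1, 0, 1, 0, -1, 2, -1, 0⟩⟩, 24, ⟨-1, 1, 0, -1, 0, 0, -1, 0⟩),
  (⟨⟨2, 0, 0, 0, 0, 0, 0, 0⟩, ⟨-2, 0, 0, 0, 0, 0, 0, 0⟩, ⟨-1, 0, -1, 0, 1, 0, -1, 2⟩⟩, 154, ⟨-2, 0, 0, 0, 0, 0, 0, 0⟩),
  (⟨⟨2, 0, 0, 0, 0, 0, 0, 0⟩, ⟨-2, 0, 0, 0, 0, 0, 0, 0⟩, ⟨-1, 0, -1, 2, -1, 0, 1, 0⟩⟩, 153, ⟨-2, 0, 0, 0, 0, 0, 0, 0⟩),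
  (⟨⟨2, 0, 0, 0, 0, 0, 0, 0⟩, ⟨-2, 0, 0, 0, 0, 0, 0, 0⟩, ⟨-1, 0, 1, 0, -1, 2, -1, 0⟩⟩, 152, ⟨-2, 0, 0, 0, 0, 0, 0, 0⟩),
  (⟨⟨2, 0, 0, 0, 0, 0, 0, 0⟩, ⟨-2, 0, 0, 0, 0, 0, 0, 0⟩, ⟨-1, 2, 1, 0, 1, 0, 1, 0⟩⟩, 151, ⟨-2, 0, 0, 0, 0, 0, 0, 0⟩),
  (⟨⟨2, 0, 0, 0, 0, 0, 0, 0⟩, ⟨-2, 0, 0, 0, 0, 0, 0, 0⟩, ⟨1, -2, -1, 0, -1, 0, -1, 0⟩⟩, 150, ⟨-2, 0, 0, 0, 0, 0, 0, 0⟩),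
  (⟨⟨2, 0, 0, 0, 0, 0, 0, 0⟩, ⟨-2, 0, 0, 0, 0, 0, 0, 0⟩, ⟨1, 0, -1, 0, 1, -2, 1, 0⟩⟩, 149, ⟨-2, 0, 0, 0, 0, 0, 0, 0⟩),
  (⟨⟨2, 0, 0, 0, 0, 0, 0, 0⟩, ⟨-2, 0, 0, 0, 0, 0, 0, 0⟩, ⟨1, 0, 1, -2, 1, 0, -1, 0⟩⟩, 148, ⟨-2, 0, 0, 0, 0, 0, 0, 0⟩),
  (⟨⟨2, 0, 0, 0, 0, 0, 0, 0⟩, ⟨-2, 0, 0, 0, 0, 0, 0, 0⟩, ⟨1, 0, 1, 0, -1, 0, 1, -2⟩⟩, 147, ⟨-2, 0, 0, 0, 0, 0, 0, 0⟩),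
  (⟨⟨2, 0, 0, 0, 0, 0, 0, 0⟩, ⟨0, -1, 0, -1, 0, -1, 0, 1⟩, ⟨-1, 1, -1, 1, 1, -1, 1, -1⟩⟩, 259, ⟨-1, 0, 1, 0, 1, 0, -1, 0⟩),
  (⟨⟨2, 0, 0, 0, 0, 0, 0, 0⟩, ⟨0, -1, 0, -1, 0, -1, 0, 1⟩, ⟨1, -1, 1, -1, -1, 1, -1, 1⟩⟩, 260, ⟨-1, 0, 1, 0, 1, 0, -1, 0⟩),
  (⟨⟨2, 0, 0, 0, 0, 0, 0, 0⟩, ⟨0, -1, 0, -1, 0, 1, 0, -1⟩, ⟨-1, 1, 1, -1, 1, -1, -1, 1⟩⟩, 278, ⟨-1, 0, 1, 0, 1, 0, -1, 0⟩),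
  (⟨⟨2, 0, 0, 0, 0, 0, 0, 0⟩, ⟨0, -1, 0, -1, 0, 1, 0, -1⟩, ⟨1, -1, -1, 1, -1, 1, 1, -1⟩⟩, 277, ⟨-1, 0, 1, 0, 1, 0, -1, 0⟩),
  (⟨⟨2, 0, 0, 0, 0, 0, 0, 0⟩, ⟨0, -1, 0, 1, 0, -1, 0, -1⟩, ⟨-1, 1, 1, -1, -1, 1, 1, -1⟩⟩, 280, ⟨-1, 0, 1, 0, 1, 0, -1, 0⟩),
  (⟨⟨2, 0, 0, 0, 0, 0, 0, 0⟩, ⟨0, -1, 0, 1, 0, -1, 0, -1⟩, ⟨1, -1, -1, 1, 1, -1, -1, 1⟩⟩, 279, ⟨-1, 0, 1, 0, 1, 0, -1, 0⟩),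
  (⟨⟨2, 0, 0, 0, 0, 0, 0, 0⟩, ⟨0, -1, 0, 1, 0, 1, 0, 1⟩, ⟨-1, 1, -1, 1, -1, 1, -1, 1⟩⟩, 276, ⟨-1, 0, 1, 0, 1, 0, -1, 0⟩),
  (⟨⟨2, 0, 0, 0, 0, 0, 0, 0⟩, ⟨0, -1, 0, 1, 0, 1, 0, 1⟩, ⟨1, -1, 1, -1, 1, -1, 1, -1⟩⟩, 275, ⟨-1, 0, 1, 0, 1, 0, -1, 0⟩),
  (⟨⟨2, 0, 0, 0, 0, 0, 0, 0⟩, ⟨0, 0, -2, 0, 0, 0, 0, 0⟩, ⟨-1, 0, -1, 0, -1, 0, 1, -2⟩⟩, 114, ⟨-2, 0, 0, 0, 0, 0, 0, 0⟩),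
  (⟨⟨2, 0, 0, 0, 0, 0, 0, 0⟩, ⟨0, 0, -2, 0, 0, 0, 0, 0⟩, ⟨-1, 0, -1, 2, 1, 0, -1, 0⟩⟩, 113, ⟨-2, 0, 0, 0, 0, 0, 0, 0⟩),
  (⟨⟨2, 0, 0, 0, 0, 0, 0, 0⟩, ⟨0, 0, -2, 0, 0, 0, 0, 0⟩, ⟨-1, 0, 1, 0, 1, -2, 1, 0⟩⟩, 112, ⟨-2, 0, 0, 0, 0, 0, 0, 0⟩),
  (⟨⟨2, 0, 0, 0, 0, 0, 0, 0⟩, ⟨0, 0, -2, 0, 0, 0, 0, 0⟩, ⟨-1, 2, 1, 0, -1, 0, -1, 0⟩⟩, 111, ⟨-2, 0, 0, 0, 0, 0, 0, 0⟩),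
  (⟨⟨2, 0, 0, 0, 0, 0, 0, 0⟩, ⟨0, 0, -2, 0, 0, 0, 0, 0⟩, ⟨1, -2, -1, 0, 1, 0, 1, 0⟩⟩, 110, ⟨-2, 0, 0, 0, 0, 0, 0, 0⟩),
  (⟨⟨2, 0, 0, 0, 0, 0, 0, 0⟩, ⟨0, 0, -2, 0, 0, 0, 0, 0⟩, ⟨1, 0, -1, 0, -1, 2, -1, 0⟩⟩, 109, ⟨-2, 0, 0, 0, 0, 0, 0, 0⟩),
  (⟨⟨2, 0, 0, 0, 0, 0, 0, 0⟩, ⟨0, 0, -2, 0, 0, 0, 0, 0⟩, ⟨1, 0, 1, -2, -1, 0, 1, 0⟩⟩, 108, ⟨-2, 0, 0, 0, 0, 0, 0, 0⟩),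
  (⟨⟨2, 0, 0, 0, 0, 0, 0, 0⟩, ⟨0, 0, -2, 0, 0, 0, 0, 0⟩, ⟨1, 0, 1, 0, 1, 0, -1, 2⟩⟩, 107, ⟨-2, 0, 0, 0, 0, 0, 0, 0⟩),
  (⟨⟨2, 0, 0, 0, 0, 0, 0, 0⟩, ⟨0, 0, 0, 0, -2, 0, 0, 0⟩, ⟨-1, 0, -1, 0, -1, 2, 1, 0⟩⟩, 106, ⟨-2, 0, 0, 0, 0, 0, 0, 0⟩),
  (⟨⟨2, 0, 0, 0, 0, 0, 0, 0⟩, ⟨0, 0, 0, 0, -2, 0, 0, 0⟩, ⟨-1, 0, 1, -2, -1, 0, -1, 0⟩⟩, 105, ⟨-2, 0, 0, 0, 0, 0, 0, 0⟩),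
  (⟨⟨2, 0, 0, 0, 0, 0, 0, 0⟩, ⟨0, 0, 0, 0, -2, 0, 0, 0⟩, ⟨-1, 0, 1, 0, 1, 0, 1, -2⟩⟩, 104, ⟨-2, 0, 0, 0, 0, 0, 0, 0⟩),
  (⟨⟨2, 0, 0, 0, 0, 0, 0, 0⟩, ⟨0, 0, 0, 0, -2, 0, 0, 0⟩, ⟨-1, 2, -1, 0, 1, 0, -1, 0⟩⟩, 103, ⟨-2, 0, 0, 0, 0, 0, 0, 0⟩),
  (⟨⟨2, 0, 0, 0, 0, 0, 0, 0⟩, ⟨0, 0, 0, 0, -2, 0, 0, 0⟩, ⟨1, -2, 1, 0, -1, 0, 1, 0⟩⟩, 102, ⟨-2, 0, 0, 0, 0, 0, 0, 0⟩),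
  (⟨⟨2, 0, 0, 0, 0, 0, 0, 0⟩, ⟨0, 0, 0, 0, -2, 0, 0, 0⟩, ⟨1, 0, -1, 0, -1, 0, -1, 2⟩⟩, 101, ⟨-2, 0, 0, 0, 0, 0, 0, 0⟩),
  (⟨⟨2, 0, 0, 0, 0, 0, 0, 0⟩, ⟨0, 0, 0, 0, -2, 0, 0, 0⟩, ⟨1, 0, -1, 2, 1, 0, 1, 0⟩⟩, 100, ⟨-2, 0, 0, 0, 0, 0, 0, 0⟩),
  (⟨⟨2, 0, 0, 0, 0, 0, 0, 0⟩, ⟨0, 0, 0, 0, -2, 0, 0, 0⟩, ⟨1, 0, 1, 0, 1, -2, -1, 0⟩⟩, 99, ⟨-2, 0, 0, 0, 0, 0, 0, 0⟩),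
  (⟨⟨2, 0, 0, 0, 0, 0, 0, 0⟩, ⟨0, 0, 0, 0, 0, 0, -2, 0⟩, ⟨-1, 0, -1, 0, 1, -2, -1, 0⟩⟩, 98, ⟨-2, 0, 0, 0, 0, 0, 0, 0⟩),
  (⟨⟨2, 0, 0, 0, 0, 0, 0, 0⟩, ⟨0, 0, 0, 0, 0, 0, -2, 0⟩, ⟨-1, 0, 1, -2, 1, 0, 1, 0⟩⟩, 97, ⟨-2, 0, 0, 0, 0, 0, 0, 0⟩),
  (⟨⟨2, 0, 0, 0, 0, 0, 0, 0⟩, ⟨0, 0, 0, 0, 0, 0, -2, 0⟩, ⟨-1, 0, 1, 0, -1, 0, -1, 2⟩⟩, 96, ⟨-2, 0, 0, 0, 0, 0, 0, 0⟩),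
  (⟨⟨2, 0, 0, 0, 0, 0, 0, 0⟩, ⟨0, 0, 0, 0, 0, 0, -2, 0⟩, ⟨-1, 2, -1, 0, -1, 0, 1, 0⟩⟩, 95, ⟨-2, 0, 0, 0, 0, 0, 0, 0⟩),
  (⟨⟨2, 0, 0, 0, 0, 0, 0, 0⟩, ⟨0, 0, 0, 0, 0, 0, -2, 0⟩, ⟨1, -2, 1, 0, 1, 0, -1, 0⟩⟩, 94, ⟨-2, 0, 0, 0, 0, 0, 0, 0⟩),
  (⟨⟨2, 0, 0, 0, 0, 0, 0, 0⟩, ⟨0, 0, 0, 0, 0, 0, -2, 0⟩, ⟨1, 0, -1, 0, 1, 0, 1, -2⟩⟩, 93, ⟨-2, 0, 0, 0, 0, 0, 0, 0⟩),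
  (⟨⟨2, 0, 0, 0, 0, 0, 0, 0⟩, ⟨0, 0, 0, 0, 0, 0, -2, 0⟩, ⟨1, 0, -1, 2, -1, 0, -1, 0⟩⟩, 92, ⟨-2, 0, 0, 0, 0, 0, 0, 0⟩),
  (⟨⟨2, 0, 0, 0, 0, 0, 0, 0⟩, ⟨0, 0, 0, 0, 0, 0, -2, 0⟩, ⟨1, 0, 1, 0, -1, 2, 1, 0⟩⟩, 91, ⟨-2, 0, 0, 0, 0, 0, 0, 0⟩),
  (⟨⟨2, 0, 0, 0, 0, 0, 0, 0⟩, ⟨0, 0, 0, 0, 0, 0, 2, 0⟩, ⟨-1, 0, -1, 0, 1, -2, -1, 0⟩⟩, 90, ⟨-2, 0, 0, 0, 0, 0, 0, 0⟩),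
  (⟨⟨2, 0, 0, 0, 0, 0, 0, 0⟩, ⟨0, 0, 0, 0, 0, 0, 2, 0⟩, ⟨-1, 0, 1, -2, 1, 0, 1, 0⟩⟩, 89, ⟨-2, 0, 0, 0, 0, 0, 0, 0⟩),
  (⟨⟨2, 0, 0, 0, 0, 0, 0, 0⟩, ⟨0, 0, 0, 0, 0, 0, 2, 0⟩, ⟨-1, 0, 1, 0, -1, 0, -1, 2⟩⟩, 88, ⟨-2, 0, 0, 0, 0, 0, 0, 0⟩),
  (⟨⟨2, 0, 0, 0, 0, 0, 0, 0⟩, ⟨0, 0, 0, 0, 0, 0, 2, 0⟩, ⟨-1, 2, -1, 0, -1, 0, 1, 0⟩⟩, 87, ⟨-2, 0, 0, 0, 0, 0, 0, 0⟩),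
  (⟨⟨2, 0, 0, 0, 0, 0, 0, 0⟩, ⟨0, 0, 0, 0, 0, 0, 2, 0⟩, ⟨1, -2, 1, 0, 1, 0, -1, 0⟩⟩, 86, ⟨-2, 0, 0, 0, 0, 0, 0, 0⟩),
  (⟨⟨2, 0, 0, 0, 0, 0, 0, 0⟩, ⟨0, 0, 0, 0, 0, 0, 2, 0⟩, ⟨1, 0, -1, 0, 1, 0, 1, -2⟩⟩, 85, ⟨-2, 0, 0, 0, 0, 0, 0, 0⟩),
  (⟨⟨2, 0, 0, 0, 0, 0, 0, 0⟩, ⟨0, 0, 0, 0, 0, 0, 2, 0⟩, ⟨1, 0, -1, 2, -1, 0, -1, 0⟩⟩, 84, ⟨-2, 0, 0, 0, 0, 0, 0, 0⟩),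
  (⟨⟨2, 0, 0, 0, 0, 0, 0, 0⟩, ⟨0, 0, 0, 0, 0, 0, 2, 0⟩, ⟨1, 0, 1, 0, -1, 2, 1, 0⟩⟩, 83, ⟨-2, 0, 0, 0, 0, 0, 0, 0⟩),
  (⟨⟨2, 0, 0, 0, 0, 0, 0, 0⟩, ⟨0, 0, 0, 0, 2, 0, 0, 0⟩, ⟨-1, 0, -1, 0, -1, 2, 1, 0⟩⟩, 82, ⟨-2, 0, 0, 0, 0, 0, 0, 0⟩),
  (⟨⟨2, 0, 0, 0, 0, 0, 0, 0⟩, ⟨0, 0, 0, 0, 2, 0, 0, 0⟩, ⟨-1, 0, 1, -2, -1, 0, -1, 0⟩⟩, 81, ⟨-2, 0, 0, 0, 0, 0, 0, 0⟩),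
  (⟨⟨2, 0, 0, 0, 0, 0, 0, 0⟩, ⟨0, 0, 0, 0, 2, 0, 0, 0⟩, ⟨-1, 0, 1, 0, 1, 0, 1, -2⟩⟩, 80, ⟨-2, 0, 0, 0, 0, 0, 0, 0⟩),
  (⟨⟨2, 0, 0, 0, 0, 0, 0, 0⟩, ⟨0, 0, 0, 0, 2, 0, 0, 0⟩, ⟨-1, 2, -1, 0, 1, 0, -1, 0⟩⟩, 79, ⟨-2, 0, 0, 0, 0, 0, 0, 0⟩),
  (⟨⟨2, 0, 0, 0, 0, 0, 0, 0⟩, ⟨0, 0, 0, 0, 2, 0, 0, 0⟩, ⟨1, -2, 1, 0, -1, 0, 1, 0⟩⟩, 78, ⟨-2, 0, 0, 0, 0, 0, 0, 0⟩),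
  (⟨⟨2, 0, 0, 0, 0, 0, 0, 0⟩, ⟨0, 0, 0, 0, 2, 0, 0, 0⟩, ⟨1, 0, -1, 0, -1, 0, -1, 2⟩⟩, 77, ⟨-2, 0, 0, 0, 0, 0, 0, 0⟩),
  (⟨⟨2, 0, 0, 0, 0, 0, 0, 0⟩, ⟨0, 0, 0, 0, 2, 0, 0, 0⟩, ⟨1, 0, -1, 2, 1, 0, 1, 0⟩⟩, 76, ⟨-2, 0, 0, 0, 0, 0, 0, 0⟩),
  (⟨⟨2, 0, 0, 0, 0, 0, 0, 0⟩, ⟨0, 0, 0, 0, 2, 0, 0, 0⟩, ⟨1, 0, 1, 0, 1, -2, -1, 0⟩⟩, 75, ⟨-2, 0, 0, 0, 0, 0, 0, 0⟩),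
  (⟨⟨2, 0, 0, 0, 0, 0, 0, 0⟩, ⟨0, 0, 2, 0, 0, 0, 0, 0⟩, ⟨-1, 0, -1, 0, -1, 0, 1, -2⟩⟩, 74, ⟨-2, 0, 0, 0, 0, 0, 0, 0⟩),
  (⟨⟨2, 0, 0, 0, 0, 0, 0, 0⟩, ⟨0, 0, 2, 0, 0, 0, 0, 0⟩, ⟨-1, 0, -1, 2, 1, 0, -1, 0⟩⟩, 73, ⟨-2, 0, 0, 0, 0, 0, 0, 0⟩),
  (⟨⟨2, 0, 0, 0, 0, 0, 0, 0⟩, ⟨0, 0, 2, 0, 0, 0, 0, 0⟩, ⟨-1, 0, 1, 0, 1, -2, 1, 0⟩⟩, 72, ⟨-2, 0, 0, 0, 0, 0, 0, 0⟩),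
  (⟨⟨2, 0, 0, 0, 0, 0, 0, 0⟩, ⟨0, 0, 2, 0, 0, 0, 0, 0⟩, ⟨-1, 2, 1, 0, -1, 0, -1, 0⟩⟩, 71, ⟨-2, 0, 0, 0, 0, 0, 0, 0⟩),
  (⟨⟨2, 0, 0, 0, 0, 0, 0, 0⟩, ⟨0, 0, 2, 0, 0, 0, 0, 0⟩, ⟨1, -2, -1, 0, 1, 0, 1, 0⟩⟩, 70, ⟨-2, 0, 0, 0, 0, 0, 0, 0⟩),
  (⟨⟨2, 0, 0, 0, 0, 0, 0, 0⟩, ⟨0, 0, 2, 0, 0, 0, 0, 0⟩, ⟨1, 0, -1, 0, -1, 2, -1, 0⟩⟩, 69, ⟨-2, 0, 0, 0, 0, 0, 0, 0⟩),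
  (⟨⟨2, 0, 0, 0, 0, 0, 0, 0⟩, ⟨0, 0, 2, 0, 0, 0, 0, 0⟩, ⟨1, 0, 1, -2, -1, 0, 1, 0⟩⟩, 68, ⟨-2, 0, 0, 0, 0, 0, 0, 0⟩),
  (⟨⟨2, 0, 0, 0, 0, 0, 0, 0⟩, ⟨0, 0, 2, 0, 0, 0, 0, 0⟩, ⟨1, 0, 1, 0, 1, 0, -1, 2⟩⟩, 67, ⟨-2, 0, 0, 0, 0, 0, 0, 0⟩),
  (⟨⟨2, 0, 0, 0, 0, 0, 0, 0⟩, ⟨0, 1, 0, -1, 0, -1, 0, -1⟩, ⟨-1, 1, -1, 1, -1, 1, -1, 1⟩⟩, 258, ⟨-1, 0, 1, 0, 1, 0, -1, 0⟩),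
  (⟨⟨2, 0, 0, 0, 0, 0, 0, 0⟩, ⟨0, 1, 0, -1, 0, -1, 0, -1⟩, ⟨1, -1, 1, -1, 1, -1, 1, -1⟩⟩, 257, ⟨-1, 0, 1, 0, 1, 0, -1, 0⟩),
  (⟨⟨2, 0, 0, 0, 0, 0, 0, 0⟩, ⟨0, 1, 0, -1, 0, 1, 0, 1⟩, ⟨-1, 1, 1, -1, -1, 1, 1, -1⟩⟩, 254, ⟨-1, 0, 1, 0, 1, 0, -1, 0⟩),
  (⟨⟨2, 0, 0, 0, 0, 0, 0, 0⟩, ⟨0, 1, 0, -1, 0, 1, 0, 1⟩, ⟨1, -1, -1, 1, 1, -1, -1, 1⟩⟩, 253, ⟨-1, 0, 1, 0, 1, 0, -1, 0⟩),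
  (⟨⟨2, 0, 0, 0, 0, 0, 0, 0⟩, ⟨0, 1, 0, 1, 0, -1, 0, 1⟩, ⟨-1, 1, 1, -1, 1, -1, -1, 1⟩⟩, 256, ⟨-1, 0, 1, 0, 1, 0, -1, 0⟩),
  (⟨⟨2, 0, 0, 0, 0, 0, 0, 0⟩, ⟨0, 1, 0, 1, 0, -1, 0, 1⟩, ⟨1, -1, -1, 1, -1, 1, 1, -1⟩⟩, 255, ⟨-1, 0, 1, 0, 1, 0, -1, 0⟩),
  (⟨⟨2, 0, 0, 0, 0, 0, 0, 0⟩, ⟨0, 1, 0, 1, 0, 1, 0, -1⟩, ⟨-1, 1, -1, 1, 1, -1, 1, -1⟩⟩, 273, ⟨-1, 0, 1, 0, 1, 0, -1, 0⟩),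
  (⟨⟨2, 0, 0, 0, 0, 0, 0, 0⟩, ⟨0, 1, 0, 1, 0, 1, 0, -1⟩, ⟨1, -1, 1, -1, -1, 1, -1, 1⟩⟩, 274, ⟨-1, 0, 1, 0, 1, 0, -1, 0⟩),
  (⟨⟨2, 0, 0, 0, 0, 0, 0, 0⟩, ⟨2, 0, 0, 0, 0, 0, 0, 0⟩, ⟨-1, 0, -1, 0, 1, 0, -1, 2⟩⟩, 34, ⟨-2, 0, 0, 0, 0, 0, 0, 0⟩),
  (⟨⟨2, 0, 0, 0, 0, 0, 0, 0⟩, ⟨2, 0, 0, 0, 0, 0, 0, 0⟩, ⟨-1, 0, -1, 2, -1, 0, 1, 0⟩⟩, 33, ⟨-2, 0, 0, 0, 0, 0, 0, 0⟩),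
  (⟨⟨2, 0, 0, 0, 0, 0, 0, 0⟩, ⟨2, 0, 0, 0, 0, 0, 0, 0⟩, ⟨-1, 0, 1, 0, -1, 2, -1, 0⟩⟩, 32, ⟨-2, 0, 0, 0, 0, 0, 0, 0⟩),
  (⟨⟨2, 0, 0, 0, 0, 0, 0, 0⟩, ⟨2, 0, 0, 0, 0, 0, 0, 0⟩, ⟨-1, 2, 1, 0, 1, 0, 1, 0⟩⟩, 31, ⟨-2, 0, 0, 0, 0, 0, 0, 0⟩),
  (⟨⟨2, 0, 0, 0, 0, 0, 0, 0⟩, ⟨2, 0, 0, 0, 0, 0, 0, 0⟩, ⟨1, -2, -1, 0, -1, 0, -1, 0⟩⟩, 30, ⟨-2, 0, 0, 0, 0, 0, 0, 0⟩),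
  (⟨⟨2, 0, 0, 0, 0, 0, 0, 0⟩, ⟨2, 0, 0, 0, 0, 0, 0, 0⟩, ⟨1, 0, -1, 0, 1, -2, 1, 0⟩⟩, 29, ⟨-2, 0, 0, 0, 0, 0, 0, 0⟩),
  (⟨⟨2, 0, 0, 0, 0, 0, 0, 0⟩, ⟨2, 0, 0, 0, 0, 0, 0, 0⟩, ⟨1, 0, 1, -2, 1, 0, -1, 0⟩⟩, 28, ⟨-2, 0, 0, 0, 0, 0, 0, 0⟩),
  (⟨⟨2, 0, 0, 0, 0, 0, 0, 0⟩, ⟨2, 0, 0, 0, 0, 0, 0, 0⟩, ⟨1, 0, 1, 0, -1, 0, 1, -2⟩⟩, 27, ⟨-2, 0, 0, 0, 0, 0, 0, 0⟩)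
]

/-- images of the lines under a coordinate swap -/
def swapXYData : List (ℕ × IQ) := [
  (1, ⟨2, 0, 0, 0, 0, 0, 0, 0⟩),
  (0, ⟨2, 0, 0, 0, 0, 0, 0, 0⟩),
  (2, ⟨2, 0, 0, 0, 0, 0, 0, 0⟩),
  (3, ⟨2, 0, 0, 0, 0, 0, 0, 0⟩),
  (17, ⟨0, 0, -2, 0, 0, 0, 0, 0⟩),
  (16, ⟨0, 0, 0, 0, 0, 0, 2, 0⟩),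
  (15, ⟨0, 0, 0, 0, 2, 0, 0, 0⟩),
  (19, ⟨2, 0, 0, 0, 0, 0, 0, 0⟩),
  (20, ⟨2, 0, 0, 0, 0, 0, 0, 0⟩),
  (21, ⟨2, 0, 0, 0, 0, 0, 0, 0⟩),
  (22, ⟨2, 0, 0, 0, 0, 0, 0, 0⟩),
  (23, ⟨2, 0, 0, 0, 0, 0, 0, 0⟩),
  (24, ⟨2, 0, 0, 0, 0, 0, 0, 0⟩),
  (25, ⟨2, 0, 0, 0, 0, 0, 0, 0⟩),
  (26, ⟨2, 0, 0, 0, 0, 0, 0, 0⟩),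
  (6, ⟨0, 0, 0, 0, -2, 0, 0, 0⟩),
  (5, ⟨0, 0, 0, 0, 0, 0, -2, 0⟩),
  (4, ⟨0, 0, 2, 0, 0, 0, 0, 0⟩),
  (18, ⟨-2, 0, 0, 0, 0, 0, 0, 0⟩),
  (7, ⟨2, 0, 0, 0, 0, 0, 0, 0⟩),
  (8, ⟨2, 0, 0, 0, 0, 0, 0, 0⟩),
  (9, ⟨2, 0, 0, 0, 0, 0, 0, 0⟩),
  (10, ⟨2, 0, 0, 0, 0, 0, 0, 0⟩),
  (11, ⟨2, 0, 0, 0, 0, 0, 0, 0⟩),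
  (12, ⟨2, 0, 0, 0, 0, 0, 0, 0⟩),
  (13, ⟨2, 0, 0, 0, 0, 0, 0, 0⟩),
  (14, ⟨2, 0, 0, 0, 0, 0, 0, 0⟩),
  (27, ⟨2, 0, 0, 0, 0, 0, 0, 0⟩),
  (28, ⟨2, 0, 0, 0, 0, 0, 0, 0⟩),
  (29, ⟨2, 0, 0, 0, 0, 0, 0, 0⟩),
  (30, ⟨2, 0, 0, 0, 0, 0, 0, 0⟩),
  (31, ⟨2, 0, 0, 0, 0, 0, 0, 0⟩),
  (32, ⟨2, 0, 0, 0, 0, 0, 0, 0⟩),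
  (33, ⟨2, 0, 0, 0, 0, 0, 0, 0⟩),
  (34, ⟨2, 0, 0, 0, 0, 0, 0, 0⟩),
  (155, ⟨2, 0, 0, 0, 0, 0, 0, 0⟩),
  (156, ⟨2, 0, 0, 0, 0, 0, 0, 0⟩),
  (171, ⟨2, 0, 0, 0, 0, 0, 0, 0⟩),
  (172, ⟨2, 0, 0, 0, 0, 0, 0, 0⟩),
  (187, ⟨2, 0, 0, 0, 0, 0, 0, 0⟩),
  (188, ⟨2, 0, 0, 0, 0, 0, 0, 0⟩),
  (203, ⟨2, 0, 0, 0, 0, 0, 0, 0⟩),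
  (204, ⟨2, 0, 0, 0, 0, 0, 0, 0⟩),
  (214, ⟨0, 0, 0, 0, 2, 0, 0, 0⟩),
  (213, ⟨0, 0, 0, 0, 2, 0, 0, 0⟩),
  (160, ⟨0, 0, 0, 0, -2, 0, 0, 0⟩),
  (159, ⟨0, 0, 0, 0, -2, 0, 0, 0⟩),
  (179, ⟨0, 0, 0, 0, 0, 0, 2, 0⟩),
  (180, ⟨0, 0, 0, 0, 0, 0, 2, 0⟩),
  (194, ⟨0, 0, 0, 0, 0, 0, -2, 0⟩),
  (193, ⟨0, 0, 0, 0, 0, 0, -2, 0⟩),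
  (190, ⟨0, 0, -2, 0, 0, 0, 0, 0⟩),
  (189, ⟨0, 0, -2, 0, 0, 0, 0, 0⟩),
  (205, ⟨0, 0, -2, 0, 0, 0, 0, 0⟩),
  (206, ⟨0, 0, -2, 0, 0, 0, 0, 0⟩),
  (158, ⟨0, 0, -2, 0, 0, 0, 0, 0⟩),
  (157, ⟨0, 0, -2, 0, 0, 0, 0, 0⟩),
  (173, ⟨0, 0, -2, 0, 0, 0, 0, 0⟩),
  (174, ⟨0, 0, -2, 0, 0, 0, 0, 0⟩),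
  (198, ⟨0, 0, 0, 0, 2, 0, 0, 0⟩),
  (197, ⟨0, 0, 0, 0, 2, 0, 0, 0⟩),
  (176, ⟨0, 0, 0, 0, -2, 0, 0, 0⟩),
  (175, ⟨0, 0, 0, 0, -2, 0, 0, 0⟩),
  (164, ⟨0, 0, 0, 0, 0, 0, 2, 0⟩),
  (163, ⟨0, 0, 0, 0, 0, 0, 2, 0⟩),
  (209, ⟨0, 0, 0, 0, 0, 0, -2, 0⟩),
  (210, ⟨0, 0, 0, 0, 0, 0, -2, 0⟩),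
  (109, ⟨0, 0, 2, 0, 0, 0, 0, 0⟩),
  (110, ⟨0, 0, 2, 0, 0, 0, 0, 0⟩),
  (114, ⟨0, 0, 2, 0, 0, 0, 0, 0⟩),
  (113, ⟨0, 0, 2, 0, 0, 0, 0, 0⟩),
  (108, ⟨0, 0, 2, 0, 0, 0, 0, 0⟩),
  (107, ⟨0, 0, 2, 0, 0, 0, 0, 0⟩),
  (111, ⟨0, 0, 2, 0, 0, 0, 0, 0⟩),
  (112, ⟨0, 0, 2, 0, 0, 0, 0, 0⟩),
  (102, ⟨0, 0, 0, 0, 2, 0, 0, 0⟩),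
  (101, ⟨0, 0, 0, 0, 2, 0, 0, 0⟩),
  (105, ⟨0, 0, 0, 0, 2, 0, 0, 0⟩),
  (106, ⟨0, 0, 0, 0, 2, 0, 0, 0⟩),
  (99, ⟨0, 0, 0, 0, 2, 0, 0, 0⟩),
  (100, ⟨0, 0, 0, 0, 2, 0, 0, 0⟩),
  (104, ⟨0, 0, 0, 0, 2, 0, 0, 0⟩),
  (103, ⟨0, 0, 0, 0, 2, 0, 0, 0⟩),
  (92, ⟨0, 0, 0, 0, 0, 0, 2, 0⟩),
  (98, ⟨0, 0, 0, 0, 0, 0, 2, 0⟩),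
  (94, ⟨0, 0, 0, 0, 0, 0, 2, 0⟩),
  (96, ⟨0, 0, 0, 0, 0, 0, 2, 0⟩),
  (93, ⟨0, 0, 0, 0, 0, 0, 2, 0⟩),
  (95, ⟨0, 0, 0, 0, 0, 0, 2, 0⟩),
  (91, ⟨0, 0, 0, 0, 0, 0, 2, 0⟩),
  (97, ⟨0, 0, 0, 0, 0, 0, 2, 0⟩),
  (89, ⟨0, 0, 0, 0, 0, 0, -2, 0⟩),
  (83, ⟨0, 0, 0, 0, 0, 0, -2, 0⟩),
  (87, ⟨0, 0, 0, 0, 0, 0, -2, 0⟩),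
  (85, ⟨0, 0, 0, 0, 0, 0, -2, 0⟩),
  (88, ⟨0, 0, 0, 0, 0, 0, -2, 0⟩),
  (86, ⟨0, 0, 0, 0, 0, 0, -2, 0⟩),
  (90, ⟨0, 0, 0, 0, 0, 0, -2, 0⟩),
  (84, ⟨0, 0, 0, 0, 0, 0, -2, 0⟩),
  (79, ⟨0, 0, 0, 0, -2, 0, 0, 0⟩),
  (80, ⟨0, 0, 0, 0, -2, 0, 0, 0⟩),
  (76, ⟨0, 0, 0, 0, -2, 0, 0, 0⟩),
  (75, ⟨0, 0, 0, 0, -2, 0, 0, 0⟩),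
  (82, ⟨0, 0, 0, 0, -2, 0, 0, 0⟩),
  (81, ⟨0, 0, 0, 0, -2, 0, 0, 0⟩),
  (77, ⟨0, 0, 0, 0, -2, 0, 0, 0⟩),
  (78, ⟨0, 0, 0, 0, -2, 0, 0, 0⟩),
  (72, ⟨0, 0, -2, 0, 0, 0, 0, 0⟩),
  (71, ⟨0, 0, -2, 0, 0, 0, 0, 0⟩),
  (67, ⟨0, 0, -2, 0, 0, 0, 0, 0⟩),
  (68, ⟨0, 0, -2, 0, 0, 0, 0, 0⟩),
  (73, ⟨0, 0, -2, 0, 0, 0, 0, 0⟩),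
  (74, ⟨0, 0, -2, 0, 0, 0, 0, 0⟩),
  (70, ⟨0, 0, -2, 0, 0, 0, 0, 0⟩),
  (69, ⟨0, 0, -2, 0, 0, 0, 0, 0⟩),
  (212, ⟨0, 0, 0, 0, 0, 0, 2, 0⟩),
  (211, ⟨0, 0, 0, 0, 0, 0, 2, 0⟩),
  (161, ⟨0, 0, 0, 0, 0, 0, -2, 0⟩),
  (162, ⟨0, 0, 0, 0, 0, 0, -2, 0⟩),
  (181, ⟨0, 0, 0, 0, 2, 0, 0, 0⟩),
  (182, ⟨0, 0, 0, 0, 2, 0, 0, 0⟩),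
  (191, ⟨0, 0, 0, 0, -2, 0, 0, 0⟩),
  (192, ⟨0, 0, 0, 0, -2, 0, 0, 0⟩),
  (184, ⟨0, 0, 2, 0, 0, 0, 0, 0⟩),
  (183, ⟨0, 0, 2, 0, 0, 0, 0, 0⟩),
  (167, ⟨0, 0, 2, 0, 0, 0, 0, 0⟩),
  (168, ⟨0, 0, 2, 0, 0, 0, 0, 0⟩),
  (216, ⟨0, 0, 2, 0, 0, 0, 0, 0⟩),
  (215, ⟨0, 0, 2, 0, 0, 0, 0, 0⟩),
  (199, ⟨0, 0, 2, 0, 0, 0, 0, 0⟩),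
  (200, ⟨0, 0, 2, 0, 0, 0, 0, 0⟩),
  (195, ⟨0, 0, 0, 0, 0, 0, 2, 0⟩),
  (196, ⟨0, 0, 0, 0, 0, 0, 2, 0⟩),
  (178, ⟨0, 0, 0, 0, 0, 0, -2, 0⟩),
  (177, ⟨0, 0, 0, 0, 0, 0, -2, 0⟩),
  (165, ⟨0, 0, 0, 0, 2, 0, 0, 0⟩),
  (166, ⟨0, 0, 0, 0, 2, 0, 0, 0⟩),
  (207, ⟨0, 0, 0, 0, -2, 0, 0, 0⟩),
  (208, ⟨0, 0, 0, 0, -2, 0, 0, 0⟩),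
  (218, ⟨-2, 0, 0, 0, 0, 0, 0, 0⟩),
  (217, ⟨-2, 0, 0, 0, 0, 0, 0, 0⟩),
  (202, ⟨-2, 0, 0, 0, 0, 0, 0, 0⟩),
  (201, ⟨-2, 0, 0, 0, 0, 0, 0, 0⟩),
  (186, ⟨-2, 0, 0, 0, 0, 0, 0, 0⟩),
  (185, ⟨-2, 0, 0, 0, 0, 0, 0, 0⟩),
  (170, ⟨-2, 0, 0, 0, 0, 0, 0, 0⟩),
  (169, ⟨-2, 0, 0, 0, 0, 0, 0, 0⟩),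
  (154, ⟨-2, 0, 0, 0, 0, 0, 0, 0⟩),
  (153, ⟨-2, 0, 0, 0, 0, 0, 0, 0⟩),
  (152, ⟨-2, 0, 0, 0, 0, 0, 0, 0⟩),
  (151, ⟨-2, 0, 0, 0, 0, 0, 0, 0⟩),
  (150, ⟨-2, 0, 0, 0, 0, 0, 0, 0⟩),
  (149, ⟨-2, 0, 0, 0, 0, 0, 0, 0⟩),
  (148, ⟨-2, 0, 0, 0, 0, 0, 0, 0⟩),
  (147, ⟨-2, 0, 0, 0, 0, 0, 0, 0⟩),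
  (35, ⟨2, 0, 0, 0, 0, 0, 0, 0⟩),
  (36, ⟨2, 0, 0, 0, 0, 0, 0, 0⟩),
  (56, ⟨0, 0, 2, 0, 0, 0, 0, 0⟩),
  (55, ⟨0, 0, 2, 0, 0, 0, 0, 0⟩),
  (46, ⟨0, 0, 0, 0, 2, 0, 0, 0⟩),
  (45, ⟨0, 0, 0, 0, 2, 0, 0, 0⟩),
  (117, ⟨0, 0, 0, 0, 0, 0, 2, 0⟩),
  (118, ⟨0, 0, 0, 0, 0, 0, 2, 0⟩),
  (64, ⟨0, 0, 0, 0, 0, 0, -2, 0⟩),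
  (63, ⟨0, 0, 0, 0, 0, 0, -2, 0⟩),
  (135, ⟨0, 0, 0, 0, -2, 0, 0, 0⟩),
  (136, ⟨0, 0, 0, 0, -2, 0, 0, 0⟩),
  (125, ⟨0, 0, -2, 0, 0, 0, 0, 0⟩),
  (126, ⟨0, 0, -2, 0, 0, 0, 0, 0⟩),
  (146, ⟨-2, 0, 0, 0, 0, 0, 0, 0⟩),
  (145, ⟨-2, 0, 0, 0, 0, 0, 0, 0⟩),
  (37, ⟨2, 0, 0, 0, 0, 0, 0, 0⟩),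
  (38, ⟨2, 0, 0, 0, 0, 0, 0, 0⟩),
  (57, ⟨0, 0, 2, 0, 0, 0, 0, 0⟩),
  (58, ⟨0, 0, 2, 0, 0, 0, 0, 0⟩),
  (62, ⟨0, 0, 0, 0, 2, 0, 0, 0⟩),
  (61, ⟨0, 0, 0, 0, 2, 0, 0, 0⟩),
  (134, ⟨0, 0, 0, 0, 0, 0, 2, 0⟩),
  (133, ⟨0, 0, 0, 0, 0, 0, 2, 0⟩),
  (47, ⟨0, 0, 0, 0, 0, 0, -2, 0⟩),
  (48, ⟨0, 0, 0, 0, 0, 0, -2, 0⟩),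
  (119, ⟨0, 0, 0, 0, -2, 0, 0, 0⟩),
  (120, ⟨0, 0, 0, 0, -2, 0, 0, 0⟩),
  (124, ⟨0, 0, -2, 0, 0, 0, 0, 0⟩),
  (123, ⟨0, 0, -2, 0, 0, 0, 0, 0⟩),
  (144, ⟨-2, 0, 0, 0, 0, 0, 0, 0⟩),
  (143, ⟨-2, 0, 0, 0, 0, 0, 0, 0⟩),
  (39, ⟨2, 0, 0, 0, 0, 0, 0, 0⟩),
  (40, ⟨2, 0, 0, 0, 0, 0, 0, 0⟩),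
  (52, ⟨0, 0, 2, 0, 0, 0, 0, 0⟩),
  (51, ⟨0, 0, 2, 0, 0, 0, 0, 0⟩),
  (121, ⟨0, 0, 0, 0, 2, 0, 0, 0⟩),
  (122, ⟨0, 0, 0, 0, 2, 0, 0, 0⟩),
  (50, ⟨0, 0, 0, 0, 0, 0, 2, 0⟩),
  (49, ⟨0, 0, 0, 0, 0, 0, 2, 0⟩),
  (131, ⟨0, 0, 0, 0, 0, 0, -2, 0⟩),
  (132, ⟨0, 0, 0, 0, 0, 0, -2, 0⟩),
  (60, ⟨0, 0, 0, 0, -2, 0, 0, 0⟩),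
  (59, ⟨0, 0, 0, 0, -2, 0, 0, 0⟩),
  (129, ⟨0, 0, -2, 0, 0, 0, 0, 0⟩),
  (130, ⟨0, 0, -2, 0, 0, 0, 0, 0⟩),
  (142, ⟨-2, 0, 0, 0, 0, 0, 0, 0⟩),
  (141, ⟨-2, 0, 0, 0, 0, 0, 0, 0⟩),
  (41, ⟨2, 0, 0, 0, 0, 0, 0, 0⟩),
  (42, ⟨2, 0, 0, 0, 0, 0, 0, 0⟩),
  (53, ⟨0, 0, 2, 0, 0, 0, 0, 0⟩),
  (54, ⟨0, 0, 2, 0, 0, 0, 0, 0⟩),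
  (137, ⟨0, 0, 0, 0, 2, 0, 0, 0⟩),
  (138, ⟨0, 0, 0, 0, 2, 0, 0, 0⟩),
  (65, ⟨0, 0, 0, 0, 0, 0, 2, 0⟩),
  (66, ⟨0, 0, 0, 0, 0, 0, 2, 0⟩),
  (116, ⟨0, 0, 0, 0, 0, 0, -2, 0⟩),
  (115, ⟨0, 0, 0, 0, 0, 0, -2, 0⟩),
  (44, ⟨0, 0, 0, 0, -2, 0, 0, 0⟩),
  (43, ⟨0, 0, 0, 0, -2, 0, 0, 0⟩),
  (128, ⟨0, 0, -2, 0, 0, 0, 0, 0⟩),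
  (127, ⟨0, 0, -2, 0, 0, 0, 0, 0⟩),
  (140, ⟨-2, 0, 0, 0, 0, 0, 0, 0⟩),
  (139, ⟨-2, 0, 0, 0, 0, 0, 0, 0⟩),
  (251, ⟨2, 0, 0, 0, 0, 0, 0, 0⟩),
  (252, ⟨2, 0, 0, 0, 0, 0, 0, 0⟩),
  (263, ⟨0, 0, 0, 0, -2, 0, 0, 0⟩),
  (264, ⟨0, 0, 0, 0, -2, 0, 0, 0⟩),
  (268, ⟨0, 0, 0, 0, 0, 0, 2, 0⟩),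
  (267, ⟨0, 0, 0, 0, 0, 0, 2, 0⟩),
  (262, ⟨0, 0, -2, 0, 0, 0, 0, 0⟩),
  (261, ⟨0, 0, -2, 0, 0, 0, 0, 0⟩),
  (283, ⟨2, 0, 0, 0, 0, 0, 0, 0⟩),
  (284, ⟨2, 0, 0, 0, 0, 0, 0, 0⟩),
  (297, ⟨0, 0, 0, 0, 0, 0, -2, 0⟩),
  (298, ⟨0, 0, 0, 0, 0, 0, -2, 0⟩),
  (293, ⟨0, 0, -2, 0, 0, 0, 0, 0⟩),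
  (294, ⟨0, 0, -2, 0, 0, 0, 0, 0⟩),
  (295, ⟨0, 0, 0, 0, -2, 0, 0, 0⟩),
  (296, ⟨0, 0, 0, 0, -2, 0, 0, 0⟩),
  (302, ⟨0, 0, 0, 0, 2, 0, 0, 0⟩),
  (301, ⟨0, 0, 0, 0, 2, 0, 0, 0⟩),
  (304, ⟨0, 0, 2, 0, 0, 0, 0, 0⟩),
  (303, ⟨0, 0, 2, 0, 0, 0, 0, 0⟩),
  (300, ⟨0, 0, 0, 0, 0, 0, 2, 0⟩),
  (299, ⟨0, 0, 0, 0, 0, 0, 2, 0⟩),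
  (314, ⟨-2, 0, 0, 0, 0, 0, 0, 0⟩),
  (313, ⟨-2, 0, 0, 0, 0, 0, 0, 0⟩),
  (271, ⟨0, 0, 2, 0, 0, 0, 0, 0⟩),
  (272, ⟨0, 0, 2, 0, 0, 0, 0, 0⟩),
  (265, ⟨0, 0, 0, 0, 0, 0, -2, 0⟩),
  (266, ⟨0, 0, 0, 0, 0, 0, -2, 0⟩),
  (270, ⟨0, 0, 0, 0, 2, 0, 0, 0⟩),
  (269, ⟨0, 0, 0, 0, 2, 0, 0, 0⟩),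
  (282, ⟨-2, 0, 0, 0, 0, 0, 0, 0⟩),
  (281, ⟨-2, 0, 0, 0, 0, 0, 0, 0⟩),
  (219, ⟨2, 0, 0, 0, 0, 0, 0, 0⟩),
  (220, ⟨2, 0, 0, 0, 0, 0, 0, 0⟩),
  (285, ⟨2, 0, 0, 0, 0, 0, 0, 0⟩),
  (286, ⟨2, 0, 0, 0, 0, 0, 0, 0⟩),
  (289, ⟨0, 0, 0, 0, 0, 0, -2, 0⟩),
  (290, ⟨0, 0, 0, 0, 0, 0, -2, 0⟩),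
  (306, ⟨0, 0, -2, 0, 0, 0, 0, 0⟩),
  (305, ⟨0, 0, -2, 0, 0, 0, 0, 0⟩),
  (309, ⟨0, 0, 0, 0, -2, 0, 0, 0⟩),
  (310, ⟨0, 0, 0, 0, -2, 0, 0, 0⟩),
  (226, ⟨0, 0, 2, 0, 0, 0, 0, 0⟩),
  (225, ⟨0, 0, 2, 0, 0, 0, 0, 0⟩),
  (221, ⟨0, 0, 0, 0, 2, 0, 0, 0⟩),
  (222, ⟨0, 0, 0, 0, 2, 0, 0, 0⟩),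
  (245, ⟨0, 0, 0, 0, 0, 0, 2, 0⟩),
  (246, ⟨0, 0, 0, 0, 0, 0, 2, 0⟩),
  (224, ⟨0, 0, 0, 0, 0, 0, -2, 0⟩),
  (223, ⟨0, 0, 0, 0, 0, 0, -2, 0⟩),
  (248, ⟨0, 0, 0, 0, -2, 0, 0, 0⟩),
  (247, ⟨0, 0, 0, 0, -2, 0, 0, 0⟩),
  (243, ⟨0, 0, -2, 0, 0, 0, 0, 0⟩),
  (244, ⟨0, 0, -2, 0, 0, 0, 0, 0⟩),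
  (288, ⟨0, 0, 0, 0, 2, 0, 0, 0⟩),
  (287, ⟨0, 0, 0, 0, 2, 0, 0, 0⟩),
  (291, ⟨0, 0, 2, 0, 0, 0, 0, 0⟩),
  (292, ⟨0, 0, 2, 0, 0, 0, 0, 0⟩),
  (308, ⟨0, 0, 0, 0, 0, 0, 2, 0⟩),
  (307, ⟨0, 0, 0, 0, 0, 0, 2, 0⟩),
  (312, ⟨-2, 0, 0, 0, 0, 0, 0, 0⟩),
  (311, ⟨-2, 0, 0, 0, 0, 0, 0, 0⟩),
  (250, ⟨-2, 0, 0, 0, 0, 0, 0, 0⟩),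
  (249, ⟨-2, 0, 0, 0, 0, 0, 0, 0⟩),
  (227, ⟨2, 0, 0, 0, 0, 0, 0, 0⟩),
  (228, ⟨2, 0, 0, 0, 0, 0, 0, 0⟩),
  (253, ⟨2, 0, 0, 0, 0, 0, 0, 0⟩),
  (254, ⟨2, 0, 0, 0, 0, 0, 0, 0⟩),
  (274, ⟨0, 0, 0, 0, -2, 0, 0, 0⟩),
  (273, ⟨0, 0, 0, 0, -2, 0, 0, 0⟩),
  (255, ⟨0, 0, 0, 0, 0, 0, 2, 0⟩),
  (256, ⟨0, 0, 0, 0, 0, 0, 2, 0⟩),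
  (275, ⟨0, 0, -2, 0, 0, 0, 0, 0⟩),
  (276, ⟨0, 0, -2, 0, 0, 0, 0, 0⟩),
  (231, ⟨0, 0, 2, 0, 0, 0, 0, 0⟩),
  (232, ⟨0, 0, 2, 0, 0, 0, 0, 0⟩),
  (233, ⟨0, 0, 0, 0, 2, 0, 0, 0⟩),
  (234, ⟨0, 0, 0, 0, 2, 0, 0, 0⟩),
  (229, ⟨0, 0, 0, 0, 0, 0, 2, 0⟩),
  (230, ⟨0, 0, 0, 0, 0, 0, 2, 0⟩),
  (240, ⟨0, 0, 0, 0, 0, 0, -2, 0⟩),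
  (239, ⟨0, 0, 0, 0, 0, 0, -2, 0⟩),
  (236, ⟨0, 0, 0, 0, -2, 0, 0, 0⟩),
  (235, ⟨0, 0, 0, 0, -2, 0, 0, 0⟩),
  (238, ⟨0, 0, -2, 0, 0, 0, 0, 0⟩),
  (237, ⟨0, 0, -2, 0, 0, 0, 0, 0⟩),
  (258, ⟨0, 0, 2, 0, 0, 0, 0, 0⟩),
  (257, ⟨0, 0, 2, 0, 0, 0, 0, 0⟩),
  (278, ⟨0, 0, 0, 0, 0, 0, -2, 0⟩),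
  (277, ⟨0, 0, 0, 0, 0, 0, -2, 0⟩),
  (259, ⟨0, 0, 0, 0, 2, 0, 0, 0⟩),
  (260, ⟨0, 0, 0, 0, 2, 0, 0, 0⟩),
  (280, ⟨-2, 0, 0, 0, 0, 0, 0, 0⟩),
  (279, ⟨-2, 0, 0, 0, 0, 0, 0, 0⟩),
  (242, ⟨-2, 0, 0, 0, 0, 0, 0, 0⟩),
  (241, ⟨-2, 0, 0, 0, 0, 0, 0, 0⟩)
]

/-- images of the lines under a coordinate swap -/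
def swapXZData : List (ℕ × IQ) := [
  (2, ⟨2, 0, 0, 0, 0, 0, 0, 0⟩),
  (1, ⟨2, 0, 0, 0, 0, 0, 0, 0⟩),
  (0, ⟨2, 0, 0, 0, 0, 0, 0, 0⟩),
  (19, ⟨2, 0, 0, 0, 0, 0, 0, 0⟩),
  (25, ⟨0, 0, -2, 0, 0, 0, 0, 0⟩),
  (24, ⟨0, 0, 0, 0, 0, 0, 2, 0⟩),
  (23, ⟨0, 0, 0, 0, 2, 0, 0, 0⟩),
  (7, ⟨2, 0, 0, 0, 0, 0, 0, 0⟩),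
  (13, ⟨0, 0, -2, 0, 0, 0, 0, 0⟩),
  (12, ⟨0, 0, 0, 0, 0, 0, 2, 0⟩),
  (11, ⟨0, 0, 0, 0, 2, 0, 0, 0⟩),
  (10, ⟨0, 0, 0, 0, -2, 0, 0, 0⟩),
  (9, ⟨0, 0, 0, 0, 0, 0, -2, 0⟩),
  (8, ⟨0, 0, 2, 0, 0, 0, 0, 0⟩),
  (14, ⟨-2, 0, 0, 0, 0, 0, 0, 0⟩),
  (22, ⟨0, 0, 0, 0, -2, 0, 0, 0⟩),
  (21, ⟨0, 0, 0, 0, 0, 0, -2, 0⟩),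
  (20, ⟨0, 0, 2, 0, 0, 0, 0, 0⟩),
  (26, ⟨-2, 0, 0, 0, 0, 0, 0, 0⟩),
  (3, ⟨2, 0, 0, 0, 0, 0, 0, 0⟩),
  (17, ⟨0, 0, -2, 0, 0, 0, 0, 0⟩),
  (16, ⟨0, 0, 0, 0, 0, 0, 2, 0⟩),
  (15, ⟨0, 0, 0, 0, 2, 0, 0, 0⟩),
  (6, ⟨0, 0, 0, 0, -2, 0, 0, 0⟩),
  (5, ⟨0, 0, 0, 0, 0, 0, -2, 0⟩),
  (4, ⟨0, 0, 2, 0, 0, 0, 0, 0⟩),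
  (18, ⟨-2, 0, 0, 0, 0, 0, 0, 0⟩),
  (203, ⟨2, 0, 0, 0, 0, 0, 0, 0⟩),
  (214, ⟨0, 0, 0, 0, 2, 0, 0, 0⟩),
  (205, ⟨0, 0, -2, 0, 0, 0, 0, 0⟩),
  (209, ⟨0, 0, 0, 0, 0, 0, -2, 0⟩),
  (212, ⟨0, 0, 0, 0, 0, 0, 2, 0⟩),
  (216, ⟨0, 0, 2, 0, 0, 0, 0, 0⟩),
  (207, ⟨0, 0, 0, 0, -2, 0, 0, 0⟩),
  (218, ⟨-2, 0, 0, 0, 0, 0, 0, 0⟩),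
  (56, ⟨0, 0, 2, 0, 0, 0, 0, 0⟩),
  (125, ⟨0, 0, -2, 0, 0, 0, 0, 0⟩),
  (62, ⟨0, 0, 0, 0, 2, 0, 0, 0⟩),
  (119, ⟨0, 0, 0, 0, -2, 0, 0, 0⟩),
  (50, ⟨0, 0, 0, 0, 0, 0, 2, 0⟩),
  (131, ⟨0, 0, 0, 0, 0, 0, -2, 0⟩),
  (41, ⟨2, 0, 0, 0, 0, 0, 0, 0⟩),
  (140, ⟨-2, 0, 0, 0, 0, 0, 0, 0⟩),
  (43, ⟨2, 0, 0, 0, 0, 0, 0, 0⟩),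
  (138, ⟨-2, 0, 0, 0, 0, 0, 0, 0⟩),
  (64, ⟨0, 0, 2, 0, 0, 0, 0, 0⟩),
  (117, ⟨0, 0, -2, 0, 0, 0, 0, 0⟩),
  (58, ⟨0, 0, 0, 0, 2, 0, 0, 0⟩),
  (123, ⟨0, 0, 0, 0, -2, 0, 0, 0⟩),
  (142, ⟨0, 0, 0, 0, 0, 0, 2, 0⟩),
  (39, ⟨0, 0, 0, 0, 0, 0, -2, 0⟩),
  (60, ⟨0, 0, 0, 0, 0, 0, 2, 0⟩),
  (121, ⟨0, 0, 0, 0, 0, 0, -2, 0⟩),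
  (53, ⟨2, 0, 0, 0, 0, 0, 0, 0⟩),
  (128, ⟨-2, 0, 0, 0, 0, 0, 0, 0⟩),
  (146, ⟨0, 0, 2, 0, 0, 0, 0, 0⟩),
  (35, ⟨0, 0, -2, 0, 0, 0, 0, 0⟩),
  (134, ⟨0, 0, 0, 0, 2, 0, 0, 0⟩),
  (47, ⟨0, 0, 0, 0, -2, 0, 0, 0⟩),
  (130, ⟨0, 0, 0, 0, 0, 0, 2, 0⟩),
  (51, ⟨0, 0, 0, 0, 0, 0, -2, 0⟩),
  (144, ⟨0, 0, 0, 0, 2, 0, 0, 0⟩),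
  (37, ⟨0, 0, 0, 0, -2, 0, 0, 0⟩),
  (136, ⟨0, 0, 2, 0, 0, 0, 0, 0⟩),
  (45, ⟨0, 0, -2, 0, 0, 0, 0, 0⟩),
  (65, ⟨2, 0, 0, 0, 0, 0, 0, 0⟩),
  (116, ⟨-2, 0, 0, 0, 0, 0, 0, 0⟩),
  (157, ⟨2, 0, 0, 0, 0, 0, 0, 0⟩),
  (163, ⟨0, 0, 0, 0, -2, 0, 0, 0⟩),
  (169, ⟨0, 0, -2, 0, 0, 0, 0, 0⟩),
  (166, ⟨0, 0, 0, 0, 0, 0, 2, 0⟩),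
  (159, ⟨0, 0, 0, 0, 0, 0, -2, 0⟩),
  (156, ⟨0, 0, 2, 0, 0, 0, 0, 0⟩),
  (162, ⟨0, 0, 0, 0, 2, 0, 0, 0⟩),
  (168, ⟨-2, 0, 0, 0, 0, 0, 0, 0⟩),
  (175, ⟨2, 0, 0, 0, 0, 0, 0, 0⟩),
  (174, ⟨0, 0, 0, 0, 0, 0, 2, 0⟩),
  (177, ⟨0, 0, -2, 0, 0, 0, 0, 0⟩),
  (185, ⟨0, 0, 0, 0, -2, 0, 0, 0⟩),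
  (172, ⟨0, 0, 0, 0, 2, 0, 0, 0⟩),
  (180, ⟨0, 0, 2, 0, 0, 0, 0, 0⟩),
  (183, ⟨0, 0, 0, 0, 0, 0, -2, 0⟩),
  (182, ⟨-2, 0, 0, 0, 0, 0, 0, 0⟩),
  (193, ⟨2, 0, 0, 0, 0, 0, 0, 0⟩),
  (201, ⟨0, 0, 0, 0, 0, 0, -2, 0⟩),
  (197, ⟨0, 0, -2, 0, 0, 0, 0, 0⟩),
  (200, ⟨0, 0, 0, 0, 2, 0, 0, 0⟩),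
  (189, ⟨0, 0, 0, 0, -2, 0, 0, 0⟩),
  (192, ⟨0, 0, 2, 0, 0, 0, 0, 0⟩),
  (188, ⟨0, 0, 0, 0, 0, 0, 2, 0⟩),
  (196, ⟨-2, 0, 0, 0, 0, 0, 0, 0⟩),
  (195, ⟨2, 0, 0, 0, 0, 0, 0, 0⟩),
  (187, ⟨0, 0, 0, 0, 0, 0, -2, 0⟩),
  (191, ⟨0, 0, -2, 0, 0, 0, 0, 0⟩),
  (190, ⟨0, 0, 0, 0, 2, 0, 0, 0⟩),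
  (199, ⟨0, 0, 0, 0, -2, 0, 0, 0⟩),
  (198, ⟨0, 0, 2, 0, 0, 0, 0, 0⟩),
  (202, ⟨0, 0, 0, 0, 0, 0, 2, 0⟩),
  (194, ⟨-2, 0, 0, 0, 0, 0, 0, 0⟩),
  (181, ⟨2, 0, 0, 0, 0, 0, 0, 0⟩),
  (184, ⟨0, 0, 0, 0, 0, 0, 2, 0⟩),
  (179, ⟨0, 0, -2, 0, 0, 0, 0, 0⟩),
  (171, ⟨0, 0, 0, 0, -2, 0, 0, 0⟩),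
  (186, ⟨0, 0, 0, 0, 2, 0, 0, 0⟩),
  (178, ⟨0, 0, 2, 0, 0, 0, 0, 0⟩),
  (173, ⟨0, 0, 0, 0, 0, 0, -2, 0⟩),
  (176, ⟨-2, 0, 0, 0, 0, 0, 0, 0⟩),
  (167, ⟨2, 0, 0, 0, 0, 0, 0, 0⟩),
  (161, ⟨0, 0, 0, 0, -2, 0, 0, 0⟩),
  (155, ⟨0, 0, -2, 0, 0, 0, 0, 0⟩),
  (160, ⟨0, 0, 0, 0, 0, 0, 2, 0⟩),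
  (165, ⟨0, 0, 0, 0, 0, 0, -2, 0⟩),
  (170, ⟨0, 0, 2, 0, 0, 0, 0, 0⟩),
  (164, ⟨0, 0, 0, 0, 2, 0, 0, 0⟩),
  (158, ⟨-2, 0, 0, 0, 0, 0, 0, 0⟩),
  (115, ⟨2, 0, 0, 0, 0, 0, 0, 0⟩),
  (66, ⟨-2, 0, 0, 0, 0, 0, 0, 0⟩),
  (46, ⟨0, 0, 2, 0, 0, 0, 0, 0⟩),
  (135, ⟨0, 0, -2, 0, 0, 0, 0, 0⟩),
  (38, ⟨0, 0, 0, 0, 2, 0, 0, 0⟩),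
  (143, ⟨0, 0, 0, 0, -2, 0, 0, 0⟩),
  (52, ⟨0, 0, 0, 0, 0, 0, 2, 0⟩),
  (129, ⟨0, 0, 0, 0, 0, 0, -2, 0⟩),
  (48, ⟨0, 0, 0, 0, 2, 0, 0, 0⟩),
  (133, ⟨0, 0, 0, 0, -2, 0, 0, 0⟩),
  (36, ⟨0, 0, 2, 0, 0, 0, 0, 0⟩),
  (145, ⟨0, 0, -2, 0, 0, 0, 0, 0⟩),
  (127, ⟨2, 0, 0, 0, 0, 0, 0, 0⟩),
  (54, ⟨-2, 0, 0, 0, 0, 0, 0, 0⟩),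
  (122, ⟨0, 0, 0, 0, 0, 0, 2, 0⟩),
  (59, ⟨0, 0, 0, 0, 0, 0, -2, 0⟩),
  (40, ⟨0, 0, 0, 0, 0, 0, 2, 0⟩),
  (141, ⟨0, 0, 0, 0, 0, 0, -2, 0⟩),
  (124, ⟨0, 0, 0, 0, 2, 0, 0, 0⟩),
  (57, ⟨0, 0, 0, 0, -2, 0, 0, 0⟩),
  (118, ⟨0, 0, 2, 0, 0, 0, 0, 0⟩),
  (63, ⟨0, 0, -2, 0, 0, 0, 0, 0⟩),
  (137, ⟨2, 0, 0, 0, 0, 0, 0, 0⟩),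
  (44, ⟨-2, 0, 0, 0, 0, 0, 0, 0⟩),
  (139, ⟨2, 0, 0, 0, 0, 0, 0, 0⟩),
  (42, ⟨-2, 0, 0, 0, 0, 0, 0, 0⟩),
  (132, ⟨0, 0, 0, 0, 0, 0, 2, 0⟩),
  (49, ⟨0, 0, 0, 0, 0, 0, -2, 0⟩),
  (120, ⟨0, 0, 0, 0, 2, 0, 0, 0⟩),
  (61, ⟨0, 0, 0, 0, -2, 0, 0, 0⟩),
  (126, ⟨0, 0, 2, 0, 0, 0, 0, 0⟩),
  (55, ⟨0, 0, -2, 0, 0, 0, 0, 0⟩),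
  (217, ⟨2, 0, 0, 0, 0, 0, 0, 0⟩),
  (208, ⟨0, 0, 0, 0, 2, 0, 0, 0⟩),
  (215, ⟨0, 0, -2, 0, 0, 0, 0, 0⟩),
  (211, ⟨0, 0, 0, 0, 0, 0, -2, 0⟩),
  (210, ⟨0, 0, 0, 0, 0, 0, 2, 0⟩),
  (206, ⟨0, 0, 2, 0, 0, 0, 0, 0⟩),
  (213, ⟨0, 0, 0, 0, -2, 0, 0, 0⟩),
  (204, ⟨-2, 0, 0, 0, 0, 0, 0, 0⟩),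
  (109, ⟨0, 0, 2, 0, 0, 0, 0, 0⟩),
  (72, ⟨0, 0, -2, 0, 0, 0, 0, 0⟩),
  (67, ⟨2, 0, 0, 0, 0, 0, 0, 0⟩),
  (114, ⟨-2, 0, 0, 0, 0, 0, 0, 0⟩),
  (71, ⟨0, 0, 0, 0, 0, 0, 2, 0⟩),
  (110, ⟨0, 0, 0, 0, 0, 0, -2, 0⟩),
  (108, ⟨0, 0, 0, 0, 2, 0, 0, 0⟩),
  (73, ⟨0, 0, 0, 0, -2, 0, 0, 0⟩),
  (68, ⟨0, 0, 0, 0, 2, 0, 0, 0⟩),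
  (113, ⟨0, 0, 0, 0, -2, 0, 0, 0⟩),
  (111, ⟨0, 0, 0, 0, 0, 0, 2, 0⟩),
  (70, ⟨0, 0, 0, 0, 0, 0, -2, 0⟩),
  (107, ⟨2, 0, 0, 0, 0, 0, 0, 0⟩),
  (74, ⟨-2, 0, 0, 0, 0, 0, 0, 0⟩),
  (69, ⟨0, 0, 2, 0, 0, 0, 0, 0⟩),
  (112, ⟨0, 0, -2, 0, 0, 0, 0, 0⟩),
  (102, ⟨0, 0, 0, 0, 2, 0, 0, 0⟩),
  (79, ⟨0, 0, 0, 0, -2, 0, 0, 0⟩),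
  (105, ⟨0, 0, 0, 0, 0, 0, 2, 0⟩),
  (76, ⟨0, 0, 0, 0, 0, 0, -2, 0⟩),
  (75, ⟨2, 0, 0, 0, 0, 0, 0, 0⟩),
  (106, ⟨-2, 0, 0, 0, 0, 0, 0, 0⟩),
  (77, ⟨0, 0, 2, 0, 0, 0, 0, 0⟩),
  (104, ⟨0, 0, -2, 0, 0, 0, 0, 0⟩),
  (101, ⟨0, 0, 2, 0, 0, 0, 0, 0⟩),
  (80, ⟨0, 0, -2, 0, 0, 0, 0, 0⟩),
  (99, ⟨2, 0, 0, 0, 0, 0, 0, 0⟩),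
  (82, ⟨-2, 0, 0, 0, 0, 0, 0, 0⟩),
  (81, ⟨0, 0, 0, 0, 0, 0, 2, 0⟩),
  (100, ⟨0, 0, 0, 0, 0, 0, -2, 0⟩),
  (78, ⟨0, 0, 0, 0, 2, 0, 0, 0⟩),
  (103, ⟨0, 0, 0, 0, -2, 0, 0, 0⟩),
  (92, ⟨0, 0, 0, 0, 0, 0, 2, 0⟩),
  (89, ⟨0, 0, 0, 0, 0, 0, -2, 0⟩),
  (87, ⟨0, 0, 0, 0, 2, 0, 0, 0⟩),
  (94, ⟨0, 0, 0, 0, -2, 0, 0, 0⟩),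
  (93, ⟨0, 0, 2, 0, 0, 0, 0, 0⟩),
  (88, ⟨0, 0, -2, 0, 0, 0, 0, 0⟩),
  (83, ⟨2, 0, 0, 0, 0, 0, 0, 0⟩),
  (98, ⟨-2, 0, 0, 0, 0, 0, 0, 0⟩),
  (91, ⟨2, 0, 0, 0, 0, 0, 0, 0⟩),
  (90, ⟨-2, 0, 0, 0, 0, 0, 0, 0⟩),
  (85, ⟨0, 0, 2, 0, 0, 0, 0, 0⟩),
  (96, ⟨0, 0, -2, 0, 0, 0, 0, 0⟩),
  (95, ⟨0, 0, 0, 0, 2, 0, 0, 0⟩),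
  (86, ⟨0, 0, 0, 0, -2, 0, 0, 0⟩),
  (84, ⟨0, 0, 0, 0, 0, 0, 2, 0⟩),
  (97, ⟨0, 0, 0, 0, 0, 0, -2, 0⟩),
  (27, ⟨2, 0, 0, 0, 0, 0, 0, 0⟩),
  (154, ⟨-2, 0, 0, 0, 0, 0, 0, 0⟩),
  (29, ⟨0, 0, 2, 0, 0, 0, 0, 0⟩),
  (152, ⟨0, 0, -2, 0, 0, 0, 0, 0⟩),
  (33, ⟨0, 0, 0, 0, 2, 0, 0, 0⟩),
  (148, ⟨0, 0, 0, 0, -2, 0, 0, 0⟩),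
  (30, ⟨0, 0, 0, 0, 0, 0, 2, 0⟩),
  (151, ⟨0, 0, 0, 0, 0, 0, -2, 0⟩),
  (150, ⟨0, 0, 0, 0, 0, 0, 2, 0⟩),
  (31, ⟨0, 0, 0, 0, 0, 0, -2, 0⟩),
  (153, ⟨0, 0, 0, 0, 2, 0, 0, 0⟩),
  (28, ⟨0, 0, 0, 0, -2, 0, 0, 0⟩),
  (149, ⟨0, 0, 2, 0, 0, 0, 0, 0⟩),
  (32, ⟨0, 0, -2, 0, 0, 0, 0, 0⟩),
  (147, ⟨2, 0, 0, 0, 0, 0, 0, 0⟩),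
  (34, ⟨-2, 0, 0, 0, 0, 0, 0, 0⟩),
  (289, ⟨0, 0, 0, 0, 0, 0, -2, 0⟩),
  (308, ⟨0, 0, 0, 0, 0, 0, 2, 0⟩),
  (285, ⟨0, 0, 0, 0, -2, 0, 0, 0⟩),
  (312, ⟨0, 0, 0, 0, 2, 0, 0, 0⟩),
  (287, ⟨0, 0, -2, 0, 0, 0, 0, 0⟩),
  (310, ⟨0, 0, 2, 0, 0, 0, 0, 0⟩),
  (291, ⟨2, 0, 0, 0, 0, 0, 0, 0⟩),
  (306, ⟨-2, 0, 0, 0, 0, 0, 0, 0⟩),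
  (275, ⟨0, 0, -2, 0, 0, 0, 0, 0⟩),
  (258, ⟨0, 0, 2, 0, 0, 0, 0, 0⟩),
  (255, ⟨2, 0, 0, 0, 0, 0, 0, 0⟩),
  (278, ⟨-2, 0, 0, 0, 0, 0, 0, 0⟩),
  (274, ⟨0, 0, 0, 0, 0, 0, 2, 0⟩),
  (259, ⟨0, 0, 0, 0, 0, 0, -2, 0⟩),
  (253, ⟨0, 0, 0, 0, -2, 0, 0, 0⟩),
  (280, ⟨0, 0, 0, 0, 2, 0, 0, 0⟩),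
  (279, ⟨0, 0, 0, 0, -2, 0, 0, 0⟩),
  (254, ⟨0, 0, 0, 0, 2, 0, 0, 0⟩),
  (260, ⟨0, 0, 0, 0, 0, 0, 2, 0⟩),
  (273, ⟨0, 0, 0, 0, 0, 0, -2, 0⟩),
  (277, ⟨2, 0, 0, 0, 0, 0, 0, 0⟩),
  (256, ⟨-2, 0, 0, 0, 0, 0, 0, 0⟩),
  (257, ⟨0, 0, -2, 0, 0, 0, 0, 0⟩),
  (276, ⟨0, 0, 2, 0, 0, 0, 0, 0⟩),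
  (305, ⟨2, 0, 0, 0, 0, 0, 0, 0⟩),
  (292, ⟨-2, 0, 0, 0, 0, 0, 0, 0⟩),
  (309, ⟨0, 0, -2, 0, 0, 0, 0, 0⟩),
  (288, ⟨0, 0, 2, 0, 0, 0, 0, 0⟩),
  (311, ⟨0, 0, 0, 0, -2, 0, 0, 0⟩),
  (286, ⟨0, 0, 0, 0, 2, 0, 0, 0⟩),
  (307, ⟨0, 0, 0, 0, 0, 0, -2, 0⟩),
  (290, ⟨0, 0, 0, 0, 0, 0, 2, 0⟩),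
  (297, ⟨0, 0, 0, 0, 0, 0, -2, 0⟩),
  (300, ⟨0, 0, 0, 0, 0, 0, 2, 0⟩),
  (233, ⟨0, 0, 0, 0, 2, 0, 0, 0⟩),
  (236, ⟨0, 0, 0, 0, -2, 0, 0, 0⟩),
  (229, ⟨2, 0, 0, 0, 0, 0, 0, 0⟩),
  (240, ⟨-2, 0, 0, 0, 0, 0, 0, 0⟩),
  (241, ⟨0, 0, 2, 0, 0, 0, 0, 0⟩),
  (228, ⟨0, 0, -2, 0, 0, 0, 0, 0⟩),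
  (232, ⟨0, 0, 0, 0, 0, 0, 2, 0⟩),
  (237, ⟨0, 0, 0, 0, 0, 0, -2, 0⟩),
  (314, ⟨0, 0, -2, 0, 0, 0, 0, 0⟩),
  (283, ⟨0, 0, 2, 0, 0, 0, 0, 0⟩),
  (295, ⟨2, 0, 0, 0, 0, 0, 0, 0⟩),
  (302, ⟨-2, 0, 0, 0, 0, 0, 0, 0⟩),
  (294, ⟨0, 0, 0, 0, -2, 0, 0, 0⟩),
  (303, ⟨0, 0, 0, 0, 2, 0, 0, 0⟩),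
  (304, ⟨0, 0, 0, 0, -2, 0, 0, 0⟩),
  (293, ⟨0, 0, 0, 0, 2, 0, 0, 0⟩),
  (301, ⟨2, 0, 0, 0, 0, 0, 0, 0⟩),
  (296, ⟨-2, 0, 0, 0, 0, 0, 0, 0⟩),
  (284, ⟨0, 0, -2, 0, 0, 0, 0, 0⟩),
  (313, ⟨0, 0, 2, 0, 0, 0, 0, 0⟩),
  (238, ⟨0, 0, 0, 0, 0, 0, 2, 0⟩),
  (231, ⟨0, 0, 0, 0, 0, 0, -2, 0⟩),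
  (227, ⟨0, 0, 2, 0, 0, 0, 0, 0⟩),
  (242, ⟨0, 0, -2, 0, 0, 0, 0, 0⟩),
  (239, ⟨2, 0, 0, 0, 0, 0, 0, 0⟩),
  (230, ⟨-2, 0, 0, 0, 0, 0, 0, 0⟩),
  (235, ⟨0, 0, 0, 0, 2, 0, 0, 0⟩),
  (234, ⟨0, 0, 0, 0, -2, 0, 0, 0⟩),
  (299, ⟨0, 0, 0, 0, 0, 0, -2, 0⟩),
  (298, ⟨0, 0, 0, 0, 0, 0, 2, 0⟩),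
  (262, ⟨0, 0, -2, 0, 0, 0, 0, 0⟩),
  (271, ⟨0, 0, 2, 0, 0, 0, 0, 0⟩),
  (221, ⟨0, 0, 0, 0, 2, 0, 0, 0⟩),
  (248, ⟨0, 0, 0, 0, -2, 0, 0, 0⟩),
  (223, ⟨0, 0, 2, 0, 0, 0, 0, 0⟩),
  (246, ⟨0, 0, -2, 0, 0, 0, 0, 0⟩),
  (219, ⟨0, 0, 0, 0, 0, 0, 2, 0⟩),
  (250, ⟨0, 0, 0, 0, 0, 0, -2, 0⟩),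
  (225, ⟨2, 0, 0, 0, 0, 0, 0, 0⟩),
  (244, ⟨-2, 0, 0, 0, 0, 0, 0, 0⟩),
  (268, ⟨0, 0, 0, 0, -2, 0, 0, 0⟩),
  (265, ⟨0, 0, 0, 0, 2, 0, 0, 0⟩),
  (263, ⟨2, 0, 0, 0, 0, 0, 0, 0⟩),
  (270, ⟨-2, 0, 0, 0, 0, 0, 0, 0⟩),
  (251, ⟨0, 0, 0, 0, 0, 0, 2, 0⟩),
  (282, ⟨0, 0, 0, 0, 0, 0, -2, 0⟩),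
  (281, ⟨0, 0, 0, 0, 0, 0, 2, 0⟩),
  (252, ⟨0, 0, 0, 0, 0, 0, -2, 0⟩),
  (269, ⟨2, 0, 0, 0, 0, 0, 0, 0⟩),
  (264, ⟨-2, 0, 0, 0, 0, 0, 0, 0⟩),
  (266, ⟨0, 0, 0, 0, -2, 0, 0, 0⟩),
  (267, ⟨0, 0, 0, 0, 2, 0, 0, 0⟩),
  (243, ⟨2, 0, 0, 0, 0, 0, 0, 0⟩),
  (226, ⟨-2, 0, 0, 0, 0, 0, 0, 0⟩),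
  (249, ⟨0, 0, 0, 0, 0, 0, 2, 0⟩),
  (220, ⟨0, 0, 0, 0, 0, 0, -2, 0⟩),
  (245, ⟨0, 0, 2, 0, 0, 0, 0, 0⟩),
  (224, ⟨0, 0, -2, 0, 0, 0, 0, 0⟩),
  (247, ⟨0, 0, 0, 0, 2, 0, 0, 0⟩),
  (222, ⟨0, 0, 0, 0, -2, 0, 0, 0⟩),
  (272, ⟨0, 0, -2, 0, 0, 0, 0, 0⟩),
  (261, ⟨0, 0, 2, 0, 0, 0, 0, 0⟩)
]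

/-- pairs with small trace form -/
def smallPairs : List (ℤ × ℤ) := [(-3, 1), (-2, -1), (-2, 0), (-2, 1), (-2, 2), (-1, -1), (-1, 0), (-1, 1), (-1, 2), (0, -2), (0, -1), (0, 0), (0, 1), (0, 2), (1, -2), (1, -1), (1, 0), (1, 1), (2, -2), (2, -1), (2, 0), (2, 1), (3, -1)]

/-- quadruples by their squares -/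
def buckets : List ((ℤ × ℤ) × List (ℤ × ℤ × ℤ × ℤ)) := [
  ((0, 0), [(0, 0, 0, 0)]),
  ((1, 0), [(-1, 0, 0, 0), (0, 0, -1, 0), (0, 0, 1, 0), (1, 0, 0, 0)]),
  ((1, 1), [(0, -1, 0, 0), (0, 0, 0, -1), (0, 0, 0, 1), (0, 1, 0, 0)]),
  ((2, -1), [(-1, 1, 0, 0), (0, 0, -1, 1), (0, 0, 1, -1), (1, -1, 0, 0)]),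
  ((2, 0), [(-1, 0, -1, 0), (-1, 0, 1, 0), (1, 0, -1, 0), (1, 0, 1, 0)]),
  ((2, 1), [(-1, 0, 0, -1), (-1, 0, 0, 1), (0, -1, -1, 0), (0, -1, 1, 0), (0, 1, -1, 0), (0, 1, 1, 0), (1, 0, 0, -1), (1, 0, 0, 1)]),
  ((2, 2), [(0, -1, 0, -1), (0, -1, 0, 1), (0, 1, 0, -1), (0, 1, 0, 1)]),
  ((2, 3), [(-1, -1, 0, 0), (0, 0, -1, -1), (0, 0, 1, 1), (1, 1, 0, 0)]),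
  ((3, -1), [(-1, 0, -1, 1), (-1, 0, 1, -1), (-1, 1, -1, 0), (-1, 1, 1, 0), (1, -1, -1, 0), (1, -1, 1, 0), (1, 0, -1, 1), (1, 0, 1, -1)]),
  ((3, 0), [(-1, 1, 0, -1), (-1, 1, 0, 1), (0, -1, -1, 1), (0, -1, 1, -1), (0, 1, -1, 1), (0, 1, 1, -1), (1, -1, 0, -1), (1, -1, 0, 1)]),
  ((3, 3), [(-1, -1, -1, 0), (-1, -1, 1, 0), (-1, 0, -1, -1), (-1, 0, 1, 1), (1, 0, -1, -1), (1, 0, 1, 1), (1, 1, -1, 0), (1, 1, 1, 0)]),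
  ((3, 4), [(-1, -1, 0, -1), (-1, -1, 0, 1), (0, -1, -1, -1), (0, -1, 1, 1), (0, 1, -1, -1), (0, 1, 1, 1), (1, 1, 0, -1), (1, 1, 0, 1)]),
  ((4, -2), [(-1, 1, -1, 1), (-1, 1, 1, -1), (1, -1, -1, 1), (1, -1, 1, -1)]),
  ((4, 0), [(-2, 0, 0, 0), (0, 0, -2, 0), (0, 0, 2, 0), (2, 0, 0, 0)]),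
  ((4, 2), [(-1, -1, -1, 1), (-1, -1, 1, -1), (-1, 1, -1, -1), (-1, 1, 1, 1), (1, -1, -1, -1), (1, -1, 1, 1), (1, 1, -1, 1), (1, 1, 1, -1)]),
  ((4, 4), [(0, -2, 0, 0), (0, 0, 0, -2), (0, 0, 0, 2), (0, 2, 0, 0)]),
  ((4, 6), [(-1, -1, -1, -1), (-1, -1, 1, 1), (1, 1, -1, -1), (1, 1, 1, 1)]),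
  ((5, -3), [(-2, 1, 0, 0), (0, 0, -2, 1), (0, 0, 2, -1), (2, -1, 0, 0)]),
  ((5, 0), [(-2, 0, -1, 0), (-2, 0, 1, 0), (-1, 0, -2, 0), (-1, 0, 2, 0), (-1, 2, 0, 0), (0, 0, -1, 2), (0, 0, 1, -2), (1, -2, 0, 0), (1, 0, -2, 0), (1, 0, 2, 0), (2, 0, -1, 0), (2, 0, 1, 0)]),
  ((5, 1), [(-2, 0, 0, -1), (-2, 0, 0, 1), (0, -1, -2, 0), (0, -1, 2, 0), (0, 1, -2, 0), (0, 1, 2, 0), (2, 0, 0, -1), (2, 0, 0, 1)]),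
  ((5, 4), [(-1, 0, 0, -2), (-1, 0, 0, 2), (0, -2, -1, 0), (0, -2, 1, 0), (0, 2, -1, 0), (0, 2, 1, 0), (1, 0, 0, -2), (1, 0, 0, 2)]),
  ((5, 5), [(-2, -1, 0, 0), (0, -2, 0, -1), (0, -2, 0, 1), (0, -1, 0, -2), (0, -1, 0, 2), (0, 0, -2, -1), (0, 0, 2, 1), (0, 1, 0, -2), (0, 1, 0, 2), (0, 2, 0, -1), (0, 2, 0, 1), (2, 1, 0, 0)]),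
  ((6, -3), [(-2, 1, -1, 0), (-2, 1, 1, 0), (-1, 0, -2, 1), (-1, 0, 2, -1), (1, 0, -2, 1), (1, 0, 2, -1), (2, -1, -1, 0), (2, -1, 1, 0)]),
  ((6, -2), [(-2, 1, 0, -1), (-2, 1, 0, 1), (0, -1, -2, 1), (0, -1, 2, -1), (0, 1, -2, 1), (0, 1, 2, -1), (2, -1, 0, -1), (2, -1, 0, 1)]),
  ((6, -1), [(-2, 0, -1, 1), (-2, 0, 1, -1), (-1, 1, -2, 0), (-1, 1, 2, 0), (1, -1, -2, 0), (1, -1, 2, 0), (2, 0, -1, 1), (2, 0, 1, -1)]),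
  ((6, 0), [(-1, 0, -1, 2), (-1, 0, 1, -2), (-1, 2, -1, 0), (-1, 2, 1, 0), (1, -2, -1, 0), (1, -2, 1, 0), (1, 0, -1, 2), (1, 0, 1, -2)]),
  ((6, 1), [(-1, 2, 0, -1), (-1, 2, 0, 1), (0, -1, -1, 2), (0, -1, 1, -2), (0, 1, -1, 2), (0, 1, 1, -2), (1, -2, 0, -1), (1, -2, 0, 1)]),
  ((6, 3), [(-2, 0, -1, -1), (-2, 0, 1, 1), (-1, -1, -2, 0), (-1, -1, 2, 0), (-1, 1, 0, -2), (-1, 1, 0, 2), (0, -2, -1, 1), (0, -2, 1, -1), (0, 2, -1, 1), (0, 2, 1, -1), (1, -1, 0, -2), (1, -1, 0, 2), (1, 1, -2, 0), (1, 1, 2, 0), (2, 0, -1, -1), (2, 0, 1, 1)]),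
  ((7, -4), [(-2, 1, -1, 1), (-2, 1, 1, -1), (-1, 1, -2, 1), (-1, 1, 2, -1), (1, -1, -2, 1), (1, -1, 2, -1), (2, -1, -1, 1), (2, -1, 1, -1)]),
  ((7, -1), [(-1, 1, -1, 2), (-1, 1, 1, -2), (-1, 2, -1, 1), (-1, 2, 1, -1), (1, -2, -1, 1), (1, -2, 1, -1), (1, -1, -1, 2), (1, -1, 1, -2)]),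
  ((7, 0), [(-2, 1, -1, -1), (-2, 1, 1, 1), (-1, -1, -2, 1), (-1, -1, 2, -1), (1, 1, -2, 1), (1, 1, 2, -1), (2, -1, -1, -1), (2, -1, 1, 1)]),
  ((8, -4), [(-2, 2, 0, 0), (0, 0, -2, 2), (0, 0, 2, -2), (2, -2, 0, 0)]),
  ((8, 0), [(-2, 0, -2, 0), (-2, 0, 2, 0), (2, 0, -2, 0), (2, 0, 2, 0)]),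
  ((9, -4), [(-2, 2, -1, 0), (-2, 2, 1, 0), (-1, 0, -2, 2), (-1, 0, 2, -2), (1, 0, -2, 2), (1, 0, 2, -2), (2, -2, -1, 0), (2, -2, 1, 0)]),
  ((9, -3), [(-2, 0, -2, 1), (-2, 0, 2, -1), (-2, 1, -2, 0), (-2, 1, 2, 0), (-2, 2, 0, -1), (-2, 2, 0, 1), (0, -1, -2, 2), (0, -1, 2, -2), (0, 1, -2, 2), (0, 1, 2, -2), (2, -2, 0, -1), (2, -2, 0, 1), (2, -1, -2, 0), (2, -1, 2, 0), (2, 0, -2, 1), (2, 0, 2, -1)]),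
  ((10, -6), [(-2, 1, -2, 1), (-2, 1, 2, -1), (2, -1, -2, 1), (2, -1, 2, -1)]),
  ((10, -5), [(-3, 1, 0, 0), (-2, 2, -1, 1), (-2, 2, 1, -1), (-1, 1, -2, 2), (-1, 1, 2, -2), (0, 0, -3, 1), (0, 0, 3, -1), (1, -1, -2, 2), (1, -1, 2, -2), (2, -2, -1, 1), (2, -2, 1, -1), (3, -1, 0, 0)])
]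

end Cfsg.Lib.J2
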