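import Cfsg.Agent.Spor.J2.Ring

/-!
The icosian Leech lattice in coordinates, and reflections.
-/

set_option autoImplicit false
set_option linter.style.haveILetI false

noncomputable section

namespace Cfsg.Lib.J2

open Quaternion Cfsg.Spor

/-- quaternionic 3-space -/
abbrev Vec : Type := Fin 3 → ℍ[ℝ]

/-- coordinate triples -/
structure V3 where
  x : IQ
  y : IQ
  z : IQ
  deriving DecidableEq

namespace V3

def lmul (u : IQ) (v : V3) : V3 := ⟨IQ.mul u v.x, IQ.mul u v.y, IQ.mul u v.z⟩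

def allMem (v : V3) : Bool := IQ.mem v.x && IQ.mem v.y && IQ.mem v.z

def inL (v : V3) : Bool :=
  allMem v && IQ.inH (IQ.sub v.x v.y) && IQ.inH (IQ.sub v.y v.z) && IQ.inHB (IQ.add (IQ.add v.x v.y) v.z)

/-- four times the Hermitian norm -/
def norm4 (v : V3) : ℤ × ℤ :=
  ((IQ.norm4 v.x).1 + (IQ.norm4 v.y).1 + (IQ.norm4 v.z).1, (IQ.norm4 v.x).2 + (IQ.norm4 v.y).2 + (IQ.norm4 v.z).2)

def swapXY (v : V3) : V3 := ⟨v.y, v.x, v.z⟩

def swapXZ (v : V3) : V3 := ⟨v.z, v.y, v.x⟩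

end V3

/-- the vector with given coordinates -/
def vv (v : V3) : Vec := ![val v.x, val v.y, val v.z]

@[simp] theorem vv_zero (v : V3) : vv v 0 = val v.x := rfl
@[simp] theorem vv_one (v : V3) : vv v 1 = val v.y := rfl
@[simp] theorem vv_two (v : V3) : vv v 2 = val v.z := rfl

theorem vv_inj : Function.Injective vv := by
  intro v w h
  have h0 := congrFun h 0; have h1 := congrFun h 1; have h2 := congrFun h 2
  simp only [vv_zero, vv_one, vv_two] at h0 h1 h2
  cases v; cases w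
  simp only [V3.mk.injEq]
  exact ⟨val_inj h0, val_inj h1, val_inj h2⟩

theorem val_mem {d : IQ} (h : IQ.mem d = true) : val d ∈ icosians := icosians_iff.2 ⟨d, h, rfl⟩

theorem mem_of_val {d : IQ} (h : val d ∈ icosians) : IQ.mem d = true := by
  obtain ⟨e, he, hv⟩ := icosians_iff.1 h
  exact val_inj hv ▸ he

theorem leftIdeal_iff {d : IQ} :
    (IQ.inH d = true ↔ val d ∈ icosians ∧ val d ∈ leftIdeal icoH) ∧
    (IQ.inHB d = true ↔ val d ∈ icosians ∧ val d ∈ leftIdeal (star icoH)) :=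
  ⟨inH_iff.trans (and_congr_left fun _ => ⟨val_mem, mem_of_val⟩),
    inHB_iff.trans (and_congr_left fun _ => ⟨val_mem, mem_of_val⟩)⟩

theorem inL_iff (v : V3) : V3.inL v = true ↔ vv v ∈ icoLeech := by
  simp only [V3.inL, V3.allMem, Bool.and_eq_true, (leftIdeal_iff).1, (leftIdeal_iff).2, val_sub, val_add,
    icoLeech, Set.mem_setOf_eq, Fin.forall_fin_succ, IsEmpty.forall_iff, and_true, Fin.succ_zero_eq_one,
    Fin.succ_one_eq_two, vv_zero, vv_one, vv_two]
  constructor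
  · rintro ⟨⟨⟨⟨⟨hx, hy⟩, hz⟩, -, h1⟩, -, h2⟩, -, h3⟩
    exact ⟨⟨val_mem hx, val_mem hy, val_mem hz⟩, h1, h2, h3⟩
  · rintro ⟨⟨hx, hy, hz⟩, h1, h2, h3⟩
    exact ⟨⟨⟨⟨⟨mem_of_val hx, mem_of_val hy⟩, mem_of_val hz⟩, sub_mem hx hy, h1⟩, sub_mem hy hz, h2⟩,
      add_mem (add_mem hx hy) hz, h3⟩

theorem exists_coords {v : Vec} (hv : v ∈ icoLeech) : ∃ c, V3.inL c = true ∧ vv c = v := by
  obtain ⟨a, -, ha⟩ := icosians_iff.1 (hv.1 0)
  obtain ⟨b, -, hb⟩ := icosians_iff.1 (hv.1 1)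
  obtain ⟨c, -, hc⟩ := icosians_iff.1 (hv.1 2)
  have e : vv ⟨a, b, c⟩ = v := by
    funext t; fin_cases t <;> simp [ha, hb, hc]
  exact ⟨_, (inL_iff _).2 (e ▸ hv), e⟩

theorem leftIdeal_add {q a b : ℍ[ℝ]} (ha : a ∈ leftIdeal q) (hb : b ∈ leftIdeal q) : a + b ∈ leftIdeal q := by
  obtain ⟨x, hx, rfl⟩ := ha
  obtain ⟨y, hy, rfl⟩ := hb
  exact ⟨x + y, add_mem hx hy, (add_mul x y q).symm⟩

theorem leftIdeal_smul {q c a : ℍ[ℝ]} (hc : c ∈ icosians) (ha : a ∈ leftIdeal q) : c * a ∈ leftIdeal q := by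
  obtain ⟨x, hx, rfl⟩ := ha
  exact ⟨c * x, mul_mem hc hx, (mul_assoc c x q).symm⟩

theorem leech_add {v w : Vec} (hv : v ∈ icoLeech) (hw : w ∈ icoLeech) : v + w ∈ icoLeech :=
  ⟨fun t => add_mem (hv.1 t) (hw.1 t),
    by simpa [add_sub_add_comm] using leftIdeal_add hv.2.1 hw.2.1,
    by simpa [add_sub_add_comm] using leftIdeal_add hv.2.2.1 hw.2.2.1,
    by simpa [add_add_add_comm] using leftIdeal_add hv.2.2.2 hw.2.2.2⟩

theorem leech_smul {c : ℍ[ℝ]} {v : Vec} (hc : c ∈ icosians) (hv : v ∈ icoLeech) : c • v ∈ icoLeech :=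
  ⟨fun t => mul_mem hc (hv.1 t),
    by simpa [mul_sub] using leftIdeal_smul hc hv.2.1,
    by simpa [mul_sub] using leftIdeal_smul hc hv.2.2.1,
    by simpa [mul_add] using leftIdeal_smul hc hv.2.2.2⟩

theorem leech_sub {v w : Vec} (hv : v ∈ icoLeech) (hw : w ∈ icoLeech) : v - w ∈ icoLeech := by
  have := leech_add hv (leech_smul (neg_mem (one_mem icosians)) hw)
  simpa [sub_eq_add_neg] using this

theorem vv_lmul {u : IQ} {v : V3} (hu : IQ.mem u = true) (hv : V3.allMem v = true) :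
    V3.allMem (V3.lmul u v) = true ∧ vv (V3.lmul u v) = val u • vv v := by
  simp only [V3.allMem, Bool.and_eq_true] at hv
  obtain ⟨h1, e1⟩ := mem_mul hu hv.1.1
  obtain ⟨h2, e2⟩ := mem_mul hu hv.1.2
  obtain ⟨h3, e3⟩ := mem_mul hu hv.2
  refine ⟨by simp [V3.allMem, V3.lmul, h1, h2, h3], ?_⟩
  funext t; fin_cases t <;> simp [V3.lmul, e1, e2, e3]

/-- lifts generating the lattice over the icosians -/
def lat1 : V3 := ⟨IQ.one, IQ.one, ⟨-1, 0, -1, 0, 1, 0, -1, 2⟩⟩
/-- second lift -/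
def lat2 : V3 := ⟨IQ.zero, IQ.hI, IQ.sub IQ.zero IQ.hI⟩
/-- third lift -/
def lat3 : V3 := ⟨IQ.zero, IQ.zero, ⟨4, 0, 0, 0, 0, 0, 0, 0⟩⟩

/-- combination of the basis with 0/1 coefficients -/
def comb : List Bool → List IQ → IQ
  | true :: es, b :: bs => IQ.add b (comb es bs)
  | false :: es, _ :: bs => comb es bs
  | _, _ => IQ.zero

def allBits : ℕ → List (List Bool)
  | 0 => [[]]
  | n + 1 => (allBits n).flatMap fun l => [true :: l, false :: l]

theorem mem_allBits : ∀ l : List Bool, l ∈ allBits l.length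
  | [] => by simp [allBits]
  | a :: l => by
    simp only [List.length_cons, allBits, List.mem_flatMap]
    exact ⟨l, mem_allBits l, by cases a <;> simp⟩

theorem parity_only_zero : ∀ es ∈ allBits 8,
    IQ.inH (comb es IQ.basis) = true → IQ.inHB (comb es IQ.basis) = true → comb es IQ.basis = IQ.zero := by
  decide +kernel

theorem two_mem_ideals {w : ℍ[ℝ]} (hw : w ∈ icosians) :
    (2 : ℝ) • w ∈ leftIdeal icoH ∧ (2 : ℝ) • w ∈ leftIdeal (star icoH) := by
  have hs : star icoH ∈ icosians := by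
    rw [← val_hI, ← val_conj]; exact val_mem (by decide +kernel)
  have hh : icoH ∈ icosians := by
    rw [← val_hI]; exact val_mem (by decide +kernel)
  refine ⟨⟨w * star icoH, mul_mem hw hs, ?_⟩, ⟨w * icoH, mul_mem hw hh, ?_⟩⟩
  · rw [mul_assoc, ← val_hI, hH', mul_two, two_smul]
  · rw [mul_assoc, ← val_hI, hH, mul_two, two_smul]

theorem span_bits {x : ℍ[ℝ]} : ∀ bs : List IQ, x ∈ Submodule.span ℤ {y | ∃ b ∈ bs, val b = y} →
    (∀ b ∈ bs, IQ.mem b = true) → ∃ es : List Bool, es.length = bs.length ∧ ∃ w ∈ icosians,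
      x = val (comb es bs) + (2 : ℝ) • w := by
  intro bs
  induction bs generalizing x with
  | nil =>
    intro h _
    refine ⟨[], rfl, 0, zero_mem _, ?_⟩
    simpa [comb, val_zero] using h
  | cons b bs ih =>
    intro h hm
    have e : {y | ∃ c ∈ b :: bs, val c = y} = insert (val b) {y | ∃ c ∈ bs, val c = y} := by
      ext y; simp [eq_comm]
    rw [e, Submodule.mem_span_insert] at h
    obtain ⟨k, z, hz, rfl⟩ := h
    obtain ⟨es, hl, w, hw, rfl⟩ := ih hz fun c hc => hm c (by simp [hc])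
    have hb := val_mem (hm b (by simp))
    rcases Int.even_or_odd k with ⟨m, rfl⟩ | ⟨m, rfl⟩
    · refine ⟨false :: es, by simp [hl], m • val b + w, add_mem (zsmul_mem hb m) hw, ?_⟩
      simp only [comb, ← Int.cast_smul_eq_zsmul ℝ]
      push_cast
      module
    · refine ⟨true :: es, by simp [hl], m • val b + w, add_mem (zsmul_mem hb m) hw, ?_⟩
      simp only [comb, val_add, ← Int.cast_smul_eq_zsmul ℝ]
      push_cast
      module

theorem inter_ideals {x : ℍ[ℝ]} (hx : x ∈ icosians) (h1 : x ∈ leftIdeal icoH)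
    (h2 : x ∈ leftIdeal (star icoH)) : ∃ w ∈ icosians, x = (2 : ℝ) • w := by
  obtain ⟨d, hd, rfl⟩ := icosians_iff.1 hx
  have hbas : ∀ b ∈ IQ.basis, IQ.mem b = true :=
    fun b hb => eight_cases (P := fun b => IQ.mem b = true) (by decide +kernel) b hb
  obtain ⟨es, hl, w, hw, e⟩ := span_bits IQ.basis (mem_span hd) hbas
  have hc : val (comb es IQ.basis) = val d + (2 : ℝ) • (-w) := by rw [e]; module
  have hm : val (comb es IQ.basis) ∈ icosians := by
    rw [hc, two_smul]; exact add_mem hx (add_mem (neg_mem hw) (neg_mem hw))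
  have hz := parity_only_zero es (by have := mem_allBits es; rwa [hl] at this)
    ((leftIdeal_iff).1.2 ⟨hm, hc ▸ leftIdeal_add h1 (two_mem_ideals (neg_mem hw)).1⟩)
    ((leftIdeal_iff).2.2 ⟨hm, hc ▸ leftIdeal_add h2 (two_mem_ideals (neg_mem hw)).2⟩)
  exact ⟨w, hw, by rw [e, hz, val_zero, zero_add]⟩

theorem leech_induction {P : Vec → Prop} (hadd : ∀ v w, P v → P w → P (v + w))
    (hsmul : ∀ c ∈ icosians, ∀ v, P v → P (c • v)) (h1 : P (vv lat1)) (h2 : P (vv lat2)) (h3 : P (vv lat3))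
    {v : Vec} (hv : v ∈ icoLeech) : P v := by
  have hl1 : vv lat1 ∈ icoLeech := (inL_iff _).1 (by decide +kernel)
  have hl2 : vv lat2 ∈ icoLeech := (inL_iff _).1 (by decide +kernel)
  have hw := leech_sub hv (leech_smul (hv.1 0) hl1)
  have h10 : val IQ.one = 1 := val_one
  have hy : v 1 - v 0 ∈ leftIdeal icoH := by
    have := leftIdeal_smul (neg_mem (one_mem icosians)) hv.2.1
    simpa using this
  obtain ⟨b, hb, hbe⟩ := hy
  have hw2 := leech_sub hw (leech_smul hb hl2)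
  set r := v - v 0 • vv lat1 - b • vv lat2 with hr
  have r0 : r 0 = 0 := by simp [r, lat1, lat2, val_one, val_zero]
  have r1 : r 1 = 0 := by
    simp [r, lat1, lat2, val_one, val_hI]
    rw [← hbe]; abel
  obtain ⟨w, hwm, he⟩ := inter_ideals (hw2.1 2)
    (by
      have := leftIdeal_smul (neg_mem (one_mem icosians)) hw2.2.2.1
      simpa [r1] using this)
    (by simpa [r0, r1] using hw2.2.2.2)
  have e4 : val ⟨4, 0, 0, 0, 0, 0, 0, 0⟩ = 2 := by
    apply Quaternion.ext <;> norm_num [val] <;> rfl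
  have hr3 : r = w • vv lat3 := by
    funext t
    fin_cases t
    · simpa [lat3, val_zero] using r0
    · simpa [lat3, val_zero] using r1
    · simpa [lat3, e4, mul_two, two_smul] using he
  have : v = v 0 • vv lat1 + b • vv lat2 + w • vv lat3 := by rw [← hr3, hr]; abel
  rw [this]
  exact hadd _ _ (hadd _ _ (hsmul _ (hv.1 0) _ h1) (hsmul _ hb _ h2)) (hsmul _ hwm _ h3)

theorem qip_self_vv (v : V3) :
    qip (vv v) (vv v) = ((((V3.norm4 v).1 : ℝ) + ((V3.norm4 v).2 : ℝ) * tau) / 4 : ℝ) := by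
  simp only [qip, Fin.sum_univ_three, vv_zero, vv_one, vv_two, self_mul_star, normSq_val, ← coe_add]
  congr 1
  simp only [V3.norm4]
  push_cast
  ring

theorem norm4_iff (v : V3) : qip (vv v) (vv v) = 4 ↔ V3.norm4 v = (16, 0) := by
  rw [qip_self_vv]
  have e : (4 : ℍ[ℝ]) = ((4 : ℝ) : ℍ[ℝ]) := rfl
  constructor
  · intro h
    rw [e] at h
    have h' := coe_injective h
    obtain ⟨a, b⟩ := coeff_inj (a := (V3.norm4 v).1) (b := (V3.norm4 v).2) (c := 16) (e := 0)
      (by push_cast; linarith)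
    exact Prod.ext a b
  · intro h
    rw [h, e]
    norm_num

/-- the reflection, as a linear map -/
def phi (r : Vec) : Vec →ₗ[ℍ[ℝ]] Vec where
  toFun := qrefl r
  map_add' x y := by
    funext t
    simp only [qrefl, qip, Fin.sum_univ_three, Pi.add_apply, add_mul, smul_add]
    abel
  map_smul' c x := by
    funext t
    simp only [qrefl, qip, Fin.sum_univ_three, Pi.smul_apply, smul_eq_mul, RingHom.id_apply, mul_sub,
      mul_add, ← mul_assoc, mul_smul_comm]

theorem phi_eq (r x : Vec) : phi r x = x - ((1 / 2 : ℝ) • qip x r) • r := rfl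

theorem qip_add_left (x y z : Vec) : qip (x + y) z = qip x z + qip y z := by
  simp [qip, Finset.sum_add_distrib, add_mul]

theorem qip_sub_left (x y z : Vec) : qip (x - y) z = qip x z - qip y z := by
  simp [qip, Finset.sum_sub_distrib, sub_mul]

theorem qip_smul_left (a : ℍ[ℝ]) (x z : Vec) : qip (a • x) z = a * qip x z := by
  simp [qip, Finset.mul_sum, mul_assoc]

theorem qip_star (x y : Vec) : star (qip x y) = qip y x := by
  simp [qip, star_sum]

theorem qip_sub_right (x y z : Vec) : qip x (y - z) = qip x y - qip x z := by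
  simp [qip, Finset.sum_sub_distrib, mul_sub]

theorem qip_smul_right (a : ℍ[ℝ]) (x z : Vec) : qip x (a • z) = qip x z * star a := by
  simp [qip, Finset.sum_mul, mul_assoc]

theorem mul_four (a : ℍ[ℝ]) : a * 4 = (4 : ℝ) • a := by
  rw [show (4 : ℍ[ℝ]) = ((4 : ℝ) : ℍ[ℝ]) from rfl, mul_coe_eq_smul]

theorem qip_phi_self {r : Vec} (hr : qip r r = 4) (x : Vec) : qip (phi r x) r = -qip x r := by
  rw [phi_eq, qip_sub_left, qip_smul_left, hr, mul_four]
  module

theorem phi_self {r : Vec} (hr : qip r r = 4) (x : Vec) : phi r (phi r x) = x := by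
  rw [phi_eq r (phi r x), qip_phi_self hr, phi_eq, smul_neg, neg_smul]
  abel

theorem qip_phi {r : Vec} (hr : qip r r = 4) (x y : Vec) : qip (phi r x) (phi r y) = qip x y := by
  have hs : star ((1 / 2 : ℝ) • qip y r) = (1 / 2 : ℝ) • qip r y := by rw [Quaternion.star_smul, qip_star]
  rw [phi_eq r y, qip_sub_right, qip_smul_right, qip_phi_self hr, hs, phi_eq, qip_sub_left, qip_smul_left,
    neg_mul, mul_smul_comm, smul_mul_assoc]
  abel

theorem phi_unit_smul {q : ℍ[ℝ]} (hq : star q * q = 1) (r : Vec) : phi (q • r) = phi r := by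
  refine LinearMap.ext fun x => ?_
  simp only [phi_eq, qip_smul_right, smul_mul_assoc, smul_smul, smul_eq_mul, ← mul_assoc]
  rw [mul_assoc (qip x r), hq, mul_one]

theorem phi_conj {g : Vec →ₗ[ℍ[ℝ]] Vec} (hg : ∀ x y, qip (g x) (g y) = qip x y) (r x : Vec) :
    phi (g r) (g x) = g (phi r x) := by
  simp only [phi_eq, hg, map_sub, LinearMap.map_smul]

/-- coordinates of a reflection -/
def reflI (r x : V3) : V3 :=
  let ip := IQ.add (IQ.add (IQ.mul x.x (IQ.conj r.x)) (IQ.mul x.y (IQ.conj r.y))) (IQ.mul x.z (IQ.conj r.z))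
  ⟨IQ.sub x.x (IQ.half (IQ.mul ip r.x)), IQ.sub x.y (IQ.half (IQ.mul ip r.y)),
    IQ.sub x.z (IQ.half (IQ.mul ip r.z))⟩

/-- no rounding occurs in `reflI` -/
def reflOK (r x : V3) : Bool :=
  let ip := IQ.add (IQ.add (IQ.mul x.x (IQ.conj r.x)) (IQ.mul x.y (IQ.conj r.y))) (IQ.mul x.z (IQ.conj r.z))
  decide (IQ.smul 2 (IQ.half (IQ.mul ip r.x)) = IQ.mul ip r.x) &&
    decide (IQ.smul 2 (IQ.half (IQ.mul ip r.y)) = IQ.mul ip r.y) &&
    decide (IQ.smul 2 (IQ.half (IQ.mul ip r.z)) = IQ.mul ip r.z) && V3.allMem r && V3.allMem x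

theorem vv_reflI {r x : V3} (h : reflOK r x = true) : vv (reflI r x) = phi (vv r) (vv x) := by
  simp only [reflOK, Bool.and_eq_true, decide_eq_true_eq, V3.allMem] at h
  obtain ⟨⟨⟨⟨h1, h2⟩, h3⟩, ⟨hrx, hry⟩, hrz⟩, ⟨hxx, hxy⟩, hxz⟩ := h
  obtain ⟨mx, ex⟩ := mem_mul hxx (mem_conj hrx)
  obtain ⟨my, ey⟩ := mem_mul hxy (mem_conj hry)
  obtain ⟨mz, ez⟩ := mem_mul hxz (mem_conj hrz)
  set ip := IQ.add (IQ.add (IQ.mul x.x (IQ.conj r.x)) (IQ.mul x.y (IQ.conj r.y))) (IQ.mul x.z (IQ.conj r.z))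
    with hip
  have hipm : val ip ∈ icosians := by
    rw [hip, val_add, val_add]; exact add_mem (add_mem (val_mem mx) (val_mem my)) (val_mem mz)
  have hipe : qip (vv x) (vv r) = val ip := by
    rw [hip, val_add, val_add, ex, ey, ez, val_conj, val_conj, val_conj]
    simp [qip, Fin.sum_univ_three]
  have key : ∀ s : IQ, IQ.mem s = true → IQ.smul 2 (IQ.half (IQ.mul ip s)) = IQ.mul ip s →
      val (IQ.half (IQ.mul ip s)) = ((1 / 2 : ℝ) • val ip) * val s := by
    intro s hs h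
    have h' := congrArg val h
    rw [val_smul, (mem_mul (mem_of_val hipm) hs).2, ← Int.cast_smul_eq_zsmul ℝ] at h'
    rw [smul_mul_assoc, ← h', smul_smul]
    norm_num
  funext t
  fin_cases t
  · simp [reflI, ← hip, phi_eq, hipe, val_sub, key _ hrx h1]
  · simp [reflI, ← hip, phi_eq, hipe, val_sub, key _ hry h2]
  · simp [reflI, ← hip, phi_eq, hipe, val_sub, key _ hrz h3]

theorem phi_stable {r : V3}
    (h : ∀ w ∈ [lat1, lat2, lat3], reflOK r w = true ∧ V3.inL (reflI r w) = true)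
    {v : Vec} (hv : v ∈ icoLeech) : phi (vv r) v ∈ icoLeech := by
  have h' : ∀ w ∈ [lat1, lat2, lat3], phi (vv r) (vv w) ∈ icoLeech := fun w hw => by
    rw [← vv_reflI (h w hw).1]; exact (inL_iff _).1 (h w hw).2
  refine leech_induction (P := fun v => phi (vv r) v ∈ icoLeech) ?_ ?_ (h' _ (by simp)) (h' _ (by simp))
    (h' _ (by simp)) hv
  · intro a b ha hb; rw [map_add]; exact leech_add ha hb
  · intro c hc a ha; rw [LinearMap.map_smul]; exact leech_smul hc ha

end Cfsg.Lib.J2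

end
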