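import Cfsg.Agent.Spor.J2.Data

/-!
The minimal vectors of the icosian Leech lattice are the unit multiples of 315 vectors.
-/

set_option autoImplicit false
set_option linter.style.haveILetI false
set_option maxRecDepth 100000
set_option maxHeartbeats 2000000

noncomputable section

namespace Cfsg.Lib.J2

open Quaternion Cfsg.Spor

/-- the `i`-th line -/
def line (i : ℕ) : V3 := lines.getD i ⟨IQ.zero, IQ.zero, IQ.zero⟩

/-- unit multiples of the lines -/
def Good (v : V3) : Prop := ∃ i, i < 315 ∧ ∃ u ∈ units, v = V3.lmul u (line i)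

def bucketOf (k : ℤ × ℤ) : List (ℤ × ℤ × ℤ × ℤ) :=
  ((buckets.find? fun b => b.1 == k).map (·.2)).getD []

def quadKey (t : ℤ × ℤ × ℤ × ℤ) : ℤ × ℤ :=
  (IQ.m0 t.1 t.2.1 t.1 t.2.1 + IQ.m0 t.2.2.1 t.2.2.2 t.2.2.1 t.2.2.2,
   IQ.m1 t.1 t.2.1 t.1 t.2.1 + IQ.m1 t.2.2.1 t.2.2.2 t.2.2.1 t.2.2.2)

def qT (a b : ℤ) : ℤ := 2 * a * a + 2 * a * b + 3 * b * b

def bucketsComplete : Bool :=
  smallPairs.all fun p => smallPairs.all fun r =>
    decide (16 < qT p.1 p.2 + qT r.1 r.2) || (bucketOf (quadKey (p.1, p.2, r.1, r.2))).elem (p.1, p.2, r.1, r.2)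

theorem bucketsComplete_ok : bucketsComplete = true := by decide +kernel

theorem qT_eq (a b : ℤ) : qT a b = 2 * IQ.m0 a b a b + IQ.m1 a b a b := by
  simp only [qT, IQ.m0, IQ.m1]; ring

theorem qT_nonneg (a b : ℤ) : 0 ≤ qT a b := by
  unfold qT; nlinarith [sq_nonneg (2 * a + b), sq_nonneg b]

theorem qT_eq_zero {a b : ℤ} (h : qT a b ≤ 0) : a = 0 ∧ b = 0 := by
  unfold qT at h
  have hb : b = 0 := by nlinarith [sq_nonneg (2 * a + b), sq_nonneg b]
  subst hb
  refine ⟨?_, rfl⟩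
  nlinarith [sq_nonneg a]

theorem small_mem {a b : ℤ} (h : qT a b ≤ 16) : (a, b) ∈ smallPairs := by
  unfold qT at h
  have hb1 : -2 ≤ b := by nlinarith [sq_nonneg (2 * a + b)]
  have hb2 : b ≤ 2 := by nlinarith [sq_nonneg (2 * a + b)]
  have ha1 : -4 ≤ a := by nlinarith [sq_nonneg (a + b), sq_nonneg b]
  have ha2 : a ≤ 4 := by nlinarith [sq_nonneg (a + b), sq_nonneg b]
  interval_cases b <;> interval_cases a <;> first | decide | (norm_num at h)

theorem quad_mem {a b c e : ℤ} (h : qT a b + qT c e ≤ 16) :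
    (a, b, c, e) ∈ bucketOf (quadKey (a, b, c, e)) := by
  have h1 := small_mem (a := a) (b := b) (by linarith [qT_nonneg c e])
  have h2 := small_mem (a := c) (b := e) (by linarith [qT_nonneg a b])
  have := bucketsComplete_ok
  simp only [bucketsComplete, List.all_eq_true, Bool.or_eq_true, decide_eq_true_eq] at this
  rcases this _ h1 _ h2 with h3 | h3
  · exact absurd h (not_le.2 h3)
  · exact List.elem_iff.1 h3

/-- check a property for all icosians of norm `n` -/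
def enumCheck (n : ℤ) (P : IQ → Bool) : Bool :=
  smallPairs.all fun p => smallPairs.all fun r =>
    decide (8 * n < qT p.1 p.2 + qT r.1 r.2) ||
      (bucketOf (4 * n - (quadKey (p.1, p.2, r.1, r.2)).1, -(quadKey (p.1, p.2, r.1, r.2)).2)).all fun t =>
        !(IQ.mem ⟨p.1, p.2, r.1, r.2, t.1, t.2.1, t.2.2.1, t.2.2.2⟩) ||
          P ⟨p.1, p.2, r.1, r.2, t.1, t.2.1, t.2.2.1, t.2.2.2⟩

theorem enum_sound {n : ℤ} {P : IQ → Bool} (hn : n ≤ 2) (hP : enumCheck n P = true) {d : IQ}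
    (hd : IQ.mem d = true) (hN : IQ.norm4 d = (4 * n, 0)) : P d = true := by
  obtain ⟨a, b, c, e, f, g, h, k⟩ := d
  simp only [IQ.norm4, Prod.mk.injEq] at hN
  have hs : qT a b + qT c e + qT f g + qT h k = 8 * n := by
    rw [qT_eq, qT_eq, qT_eq, qT_eq]; linarith [hN.1, hN.2]
  have n1 := qT_nonneg a b; have n2 := qT_nonneg c e; have n3 := qT_nonneg f g; have n4 := qT_nonneg h k
  have hkey : (4 * n - (quadKey (a, b, c, e)).1, -(quadKey (a, b, c, e)).2) = quadKey (f, g, h, k) := by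
    simp only [quadKey, Prod.mk.injEq]
    exact ⟨by linarith [hN.1], by linarith [hN.2]⟩
  simp only [enumCheck, List.all_eq_true, Bool.or_eq_true, decide_eq_true_eq, Bool.not_eq_true'] at hP
  rcases hP (a, b) (small_mem (by linarith)) (c, e) (small_mem (by linarith)) with h1 | h1
  · exact absurd h1 (by dsimp only; linarith)
  · rcases h1 (f, g, h, k) (hkey ▸ quad_mem (by linarith)) with h2 | h2
    · rw [hd] at h2; exact Bool.noConfusion h2
    · exact h2

theorem units_ok : ∀ u ∈ units, IQ.mem u = true ∧ IQ.norm4 u = (4, 0) := by decide +kernel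

theorem units_inv : ∀ u ∈ units, IQ.mul (IQ.conj u) u = IQ.one ∧ IQ.mul u (IQ.conj u) = IQ.one := by
  decide +kernel

theorem units_complete {d : IQ} (hd : IQ.mem d = true) (hN : IQ.norm4 d = (4, 0)) : d ∈ units :=
  List.elem_iff.1 (enum_sound (n := 1) (P := fun d => units.elem d) (by norm_num) (by decide +kernel) hd hN)

theorem mem_of_units {u : IQ} (hu : u ∈ units) : IQ.mem u = true := (units_ok u hu).1

theorem normSq_unit {u : IQ} (hu : u ∈ units) : normSq (val u) = 1 := by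
  rw [normSq_val, (units_ok u hu).2]; norm_num

theorem norm4_of_normSq {d : IQ} {a b : ℤ} (h : normSq (val d) = ((a : ℝ) + b * tau) / 4) :
    IQ.norm4 d = (a, b) := by
  rw [normSq_val] at h
  obtain ⟨h1, h2⟩ := coeff_inj ((div_left_inj' (by norm_num : (4 : ℝ) ≠ 0)).1 h)
  exact Prod.ext h1 h2

theorem units_mul {u w : IQ} (hu : u ∈ units) (hw : w ∈ units) : IQ.mul u w ∈ units := by
  obtain ⟨h1, h2⟩ := mem_mul (mem_of_units hu) (mem_of_units hw)
  refine units_complete h1 (norm4_of_normSq ?_)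
  rw [h2, map_mul, normSq_unit hu, normSq_unit hw]; norm_num

theorem units_conj {u : IQ} (hu : u ∈ units) : IQ.conj u ∈ units := by
  refine units_complete (mem_conj (mem_of_units hu)) (norm4_of_normSq ?_)
  rw [val_conj, normSq_star, normSq_unit hu]; norm_num

theorem lines_ok : ∀ i ∈ List.range 315, V3.inL (line i) = true ∧ V3.norm4 (line i) = (16, 0) := by
  decide +kernel

theorem line_allMem {i : ℕ} (hi : i < 315) : V3.allMem (line i) = true := by
  have := (lines_ok i (List.mem_range.2 hi)).1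
  simp only [V3.inL, Bool.and_eq_true] at this
  exact this.1.1.1

theorem good_allMem {v : V3} (h : Good v) : V3.allMem v = true := by
  obtain ⟨i, hi, u, hu, rfl⟩ := h
  exact (vv_lmul (mem_of_units hu) (line_allMem hi)).1

theorem good_lmul {u : IQ} (hu : u ∈ units) {v : V3} (h : Good v) : Good (V3.lmul u v) := by
  obtain ⟨i, hi, w, hw, rfl⟩ := h
  refine ⟨i, hi, _, units_mul hu hw, vv_inj ?_⟩
  have h1 := vv_lmul (mem_of_units hw) (line_allMem hi)
  rw [(vv_lmul (mem_of_units hu) h1.1).2, h1.2, (vv_lmul (mem_mul (mem_of_units hu) (mem_of_units hw)).1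
    (line_allMem hi)).2, (mem_mul (mem_of_units hu) (mem_of_units hw)).2, smul_smul]

theorem good_of_lmul {u : IQ} (hu : u ∈ units) {v : V3} (hv : V3.allMem v = true)
    (h : Good (V3.lmul (IQ.conj u) v)) : Good v := by
  have h' := good_lmul hu h
  suffices e : V3.lmul u (V3.lmul (IQ.conj u) v) = v by rwa [e] at h'
  have h1 := vv_lmul (mem_conj (mem_of_units hu)) hv
  have e : val u * star (val u) = 1 := by
    rw [← val_conj, ← (mem_mul (mem_of_units hu) (mem_conj (mem_of_units hu))).2, (units_inv u hu).2, val_one]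
  exact vv_inj (by rw [(vv_lmul (mem_of_units hu) h1.1).2, h1.2, smul_smul, val_conj, e, one_smul])

theorem swaps_ok : ∀ i ∈ List.range 315,
    ((swapXYData.getD i (0, IQ.zero)).1 < 315 ∧ (swapXYData.getD i (0, IQ.zero)).2 ∈ units ∧
      V3.swapXY (line i) = V3.lmul (swapXYData.getD i (0, IQ.zero)).2 (line (swapXYData.getD i (0, IQ.zero)).1)) ∧
    ((swapXZData.getD i (0, IQ.zero)).1 < 315 ∧ (swapXZData.getD i (0, IQ.zero)).2 ∈ units ∧
      V3.swapXZ (line i) = V3.lmul (swapXZData.getD i (0, IQ.zero)).2 (line (swapXZData.getD i (0, IQ.zero)).1)) := by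
  decide +kernel

theorem good_swapXY {v : V3} (h : Good v) : Good (V3.swapXY v) := by
  obtain ⟨i, hi, u, hu, rfl⟩ := h
  obtain ⟨⟨h1, h2, h3⟩, -⟩ := swaps_ok i (List.mem_range.2 hi)
  show Good (V3.lmul u (V3.swapXY (line i)))
  rw [h3]
  exact good_lmul hu ⟨_, h1, _, h2, rfl⟩

theorem good_swapXZ {v : V3} (h : Good v) : Good (V3.swapXZ v) := by
  obtain ⟨i, hi, u, hu, rfl⟩ := h
  obtain ⟨-, h1, h2, h3⟩ := swaps_ok i (List.mem_range.2 hi)
  show Good (V3.lmul u (V3.swapXZ (line i)))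
  rw [h3]
  exact good_lmul hu ⟨_, h1, _, h2, rfl⟩

/-- a minimal vector of the lattice -/
def IsMin (v : V3) : Prop := V3.inL v = true ∧ V3.norm4 v = (16, 0)

theorem isMin_swapXY {v : V3} (h : IsMin v) : IsMin (V3.swapXY v) := by
  refine ⟨(inL_iff _).2 ?_, by rw [← h.2]; simp only [V3.norm4, V3.swapXY]; ext <;> simp <;> ring⟩
  obtain ⟨hm, h1, h2, h3⟩ := (inL_iff _).1 h.1
  simp only [vv_zero, vv_one, vv_two] at h1 h2 h3
  have h1' := leftIdeal_smul (neg_mem (one_mem icosians)) h1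
  refine ⟨fun t => ?_, ?_, ?_, ?_⟩
  · fin_cases t
    · simpa [V3.swapXY] using hm 1
    · simpa [V3.swapXY] using hm 0
    · simpa [V3.swapXY] using hm 2
  · simpa [V3.swapXY] using h1'
  · simpa [V3.swapXY] using leftIdeal_add h1 h2
  · simpa [V3.swapXY, add_comm (val v.y)] using h3

theorem isMin_swapXZ {v : V3} (h : IsMin v) : IsMin (V3.swapXZ v) := by
  refine ⟨(inL_iff _).2 ?_, by rw [← h.2]; simp only [V3.norm4, V3.swapXZ]; ext <;> simp <;> ring⟩
  obtain ⟨hm, h1, h2, h3⟩ := (inL_iff _).1 h.1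
  simp only [vv_zero, vv_one, vv_two] at h1 h2 h3
  have h1' := leftIdeal_smul (neg_mem (one_mem icosians)) h1
  have h2' := leftIdeal_smul (neg_mem (one_mem icosians)) h2
  refine ⟨fun t => ?_, ?_, ?_, ?_⟩
  · fin_cases t
    · simpa [V3.swapXZ] using hm 2
    · simpa [V3.swapXZ] using hm 1
    · simpa [V3.swapXZ] using hm 0
  · simpa [V3.swapXZ] using h2'
  · simpa [V3.swapXZ] using h1'
  · simpa [V3.swapXZ, add_comm, add_left_comm, add_assoc] using h3

/-- the trace of a quarter norm -/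
def tr4 (d : IQ) : ℤ := 2 * (IQ.norm4 d).1 + (IQ.norm4 d).2

theorem tr4_eq (d : IQ) : tr4 d = qT d.w0 d.w1 + qT d.x0 d.x1 + qT d.y0 d.y1 + qT d.z0 d.z1 := by
  simp only [tr4, IQ.norm4, qT_eq]; ring

theorem tr4_zero {d : IQ} (h : tr4 d = 0) : d = IQ.zero := by
  rw [tr4_eq] at h
  have := qT_nonneg d.w0 d.w1; have := qT_nonneg d.x0 d.x1; have := qT_nonneg d.y0 d.y1
  have := qT_nonneg d.z0 d.z1
  obtain ⟨a1, b1⟩ := qT_eq_zero (a := d.w0) (b := d.w1) (by linarith)
  obtain ⟨a2, b2⟩ := qT_eq_zero (a := d.x0) (b := d.x1) (by linarith)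
  obtain ⟨a3, b3⟩ := qT_eq_zero (a := d.y0) (b := d.y1) (by linarith)
  obtain ⟨a4, b4⟩ := qT_eq_zero (a := d.z0) (b := d.z1) (by linarith)
  cases d
  simp only at a1 b1 a2 b2 a3 b3 a4 b4
  subst a1 b1 a2 b2 a3 b3 a4 b4
  rfl

theorem norm_shape {d : IQ} (hd : IQ.mem d = true) :
    ∃ a b : ℤ, IQ.norm4 d = (4 * a, 4 * b) ∧ 0 ≤ 2 * a + b ∧ 0 ≤ a * a + a * b - b * b := by
  obtain ⟨hm, he⟩ := mem_mul hd (mem_conj hd)
  rw [val_conj, self_mul_star, normSq_val] at he
  generalize IQ.mul d (IQ.conj d) = e at hm he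
  have h1 := congrArg QuaternionAlgebra.re he
  have h2 := congrArg QuaternionAlgebra.imI he
  have h3 := congrArg QuaternionAlgebra.imJ he
  have h4 := congrArg QuaternionAlgebra.imK he
  simp only [val_re, val_imI, val_imJ, val_imK, re_coe, imI_coe, imJ_coe, imK_coe] at h1 h2 h3 h4
  obtain ⟨a1, b1⟩ := coeff_inj (a := 2 * e.w0) (b := 2 * e.w1) (c := (IQ.norm4 d).1) (e := (IQ.norm4 d).2)
    (by push_cast; linarith)
  obtain ⟨a2, b2⟩ := coeff_inj (a := e.x0) (b := e.x1) (c := 0) (e := 0) (by push_cast; linarith)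
  obtain ⟨a3, b3⟩ := coeff_inj (a := e.y0) (b := e.y1) (c := 0) (e := 0) (by push_cast; linarith)
  obtain ⟨a4, b4⟩ := coeff_inj (a := e.z0) (b := e.z1) (c := 0) (e := 0) (by push_cast; linarith)
  simp only [IQ.mem, IQ.crd, List.all_cons, List.all_nil, Bool.and_eq_true, beq_iff_eq, a2, b2, a3, b3, a4,
    b4] at hm
  obtain ⟨m0, m1, -⟩ := hm
  obtain ⟨a, ha⟩ : 2 ∣ e.w0 := by omega
  obtain ⟨b, hb⟩ : 2 ∣ e.w1 := by omega
  refine ⟨a, b, Prod.ext (by omega) (by omega), ?_, ?_⟩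
  · have h := tr4_eq d
    have := qT_nonneg d.w0 d.w1; have := qT_nonneg d.x0 d.x1; have := qT_nonneg d.y0 d.y1
    have := qT_nonneg d.z0 d.z1
    simp only [tr4] at h
    omega
  · have ht := tau_sq
    have key : ∀ p q : ℤ, (IQ.m0 p q p q : ℝ) + (IQ.m1 p q p q : ℝ) * (1 - tau) = ((p : ℝ) + q * (1 - tau)) ^ 2 := by
      intro p q; simp only [IQ.m0, IQ.m1]; push_cast; linear_combination -((q : ℝ) ^ 2) * ht
    have hpos : (0 : ℝ) ≤ (IQ.norm4 d).1 + (IQ.norm4 d).2 * tau := by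
      have := normSq_nonneg (a := val d)
      rw [normSq_val] at this; linarith
    have hpos' : (0 : ℝ) ≤ (IQ.norm4 d).1 + (IQ.norm4 d).2 * (1 - tau) := by
      have := key d.w0 d.w1; have := key d.x0 d.x1; have := key d.y0 d.y1; have := key d.z0 d.z1
      have := sq_nonneg ((d.w0 : ℝ) + d.w1 * (1 - tau)); have := sq_nonneg ((d.x0 : ℝ) + d.x1 * (1 - tau))
      have := sq_nonneg ((d.y0 : ℝ) + d.y1 * (1 - tau)); have := sq_nonneg ((d.z0 : ℝ) + d.z1 * (1 - tau))
      simp only [IQ.norm4]; push_cast; linarith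
    have hmul := mul_nonneg hpos hpos'
    rw [← a1, ← b1, ha, hb] at hmul
    push_cast at hmul
    have h16 : (0 : ℝ) ≤ (16 : ℝ) * ((a * a + a * b - b * b : ℤ) : ℝ) := by
      push_cast; linear_combination hmul + (-16 * (b : ℝ) ^ 2) * ht
    exact_mod_cast (mul_nonneg_iff_of_pos_left (by norm_num : (0 : ℝ) < 16)).1 h16

theorem classify {a b : ℤ} (h0 : 0 ≤ a * a + a * b - b * b) :
    2 * a + b ≠ 1 ∧ (2 * a + b = 2 → (a, b) = (1, 0)) ∧ (2 * a + b = 3 → (a, b) = (1, 1) ∨ (a, b) = (2, -1)) ∧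
      (2 * a + b = 4 → (a, b) = (2, 0)) := by
  refine ⟨fun h => ?_, fun h => ?_, fun h => ?_, fun h => ?_⟩
  · have hb : b = 1 - 2 * a := by omega
    subst hb
    rcases le_or_gt a 0 with h1 | h1 <;> nlinarith
  · have hb : b = 2 - 2 * a := by omega
    subst hb
    have : a = 1 := by
      rcases lt_trichotomy a 1 with h1 | h1 | h1
      · nlinarith
      · exact h1
      · nlinarith
    simp [this]
  · have hb : b = 3 - 2 * a := by omega
    subst hb
    rcases lt_trichotomy a 1 with h1 | h1 | h1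
    · nlinarith
    · simp [h1]
    · rcases lt_trichotomy a 2 with h2 | h2 | h2
      · omega
      · simp [h2]
      · nlinarith
  · have hb : b = 4 - 2 * a := by omega
    subst hb
    have : a = 2 := by
      rcases lt_trichotomy a 2 with h1 | h1 | h1
      · nlinarith
      · exact h1
      · nlinarith
    simp [this]

theorem forms_ok : ∀ f ∈ forms, f.2.1 < 315 ∧ f.2.2 ∈ units ∧ f.1 = V3.lmul f.2.2 (line f.2.1) := by
  decide +kernel

/-- membership among the normal forms -/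
def inForms (v : V3) : Bool := forms.any fun f => f.1 == v

theorem good_of_inForms {v : V3} (h : inForms v = true) : Good v := by
  simp only [inForms, List.any_eq_true, beq_iff_eq] at h
  obtain ⟨f, hf, rfl⟩ := h
  obtain ⟨h1, h2, h3⟩ := forms_ok f hf
  exact ⟨_, h1, _, h2, h3⟩

/-- units congruent to one modulo the ideal -/
def units1 : List IQ := units.filter fun u => IQ.inH (IQ.sub IQ.one u)

/-- `τ` -/
def tauI : IQ := ⟨0, 2, 0, 0, 0, 0, 0, 0⟩

/-- `τ⁻¹` -/
def tauJ : IQ := ⟨-2, 2, 0, 0, 0, 0, 0, 0⟩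

theorem tauI_ok : IQ.mem tauI = true ∧ IQ.mem tauJ = true ∧ IQ.mul tauI tauJ = IQ.one ∧
    IQ.mul tauJ tauI = IQ.one ∧ IQ.norm4 tauI = (4, 4) ∧ IQ.norm4 tauJ = (8, -4) := by decide +kernel

theorem inH_sub_comm {a b : IQ} (ha : IQ.mem a = true) (hb : IQ.mem b = true)
    (h : val a - val b ∈ leftIdeal icoH) : IQ.inH (IQ.sub a b) = true :=
  (leftIdeal_iff).1.2 ⟨by rw [val_sub]; exact sub_mem (val_mem ha) (val_mem hb), by rwa [val_sub]⟩

theorem norm4_mul {a b : IQ} (ha : IQ.mem a = true) (hb : IQ.mem b = true) :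
    normSq (val (IQ.mul a b)) = normSq (val a) * normSq (val b) := by
  rw [(mem_mul ha hb).2, map_mul]

theorem scale_back {a b y : IQ} (ha : IQ.mem a = true) (hb : IQ.mem b = true) (hy : IQ.mem y = true)
    (h : IQ.mul a b = IQ.one) : IQ.mul a (IQ.mul b y) = y := by
  apply val_inj
  rw [(mem_mul ha (mem_mul hb hy).1).2, (mem_mul hb hy).2, ← mul_assoc, ← (mem_mul ha hb).2, h, val_one,
    one_mul]

/-- the check for vectors `(0, 0, b h)` -/
def checkA (b : IQ) : Bool := !(IQ.inHB (IQ.mul b IQ.hI)) ||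
  units.any fun u => decide (IQ.mul b IQ.hI = V3.z (V3.lmul u (line 2))) &&
    decide (V3.lmul u (line 2) = ⟨IQ.zero, IQ.zero, V3.z (V3.lmul u (line 2))⟩)

/-- the check for vectors `(1, u, z)` -/
def checkC (z : IQ) : Bool := !(IQ.inH (IQ.sub z IQ.one)) ||
  units1.all fun u => !(IQ.inHB (IQ.add (IQ.add IQ.one u) z)) || !(IQ.inH (IQ.sub u z)) || inForms ⟨IQ.one, u, z⟩

theorem checkA_ok : enumCheck 2 checkA = true := by decide +kernel

theorem checkC_ok : enumCheck 2 checkC = true := by decide +kernel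

theorem checkB_ok : ∀ u ∈ units, IQ.inHB (IQ.add IQ.hI (IQ.mul u IQ.hI)) = true →
    inForms ⟨IQ.zero, IQ.hI, IQ.mul u IQ.hI⟩ = true := by decide +kernel

theorem checkD_ok : ∀ v ∈ units.filter (fun v => IQ.inH (IQ.sub IQ.one (IQ.mul tauI v))),
    ∀ w ∈ units.filter (fun w => IQ.inH (IQ.sub IQ.one (IQ.mul tauJ w))),
      V3.inL ⟨IQ.one, IQ.mul tauI v, IQ.mul tauJ w⟩ = true →
        inForms ⟨IQ.one, IQ.mul tauI v, IQ.mul tauJ w⟩ = true := by decide +kernel

/-- the case `(0, 0, z)` -/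
theorem good_axis {b : IQ} (hb : IQ.mem b = true) (hn : IQ.norm4 b = (8, 0))
    (hv : IsMin ⟨IQ.zero, IQ.zero, IQ.mul b IQ.hI⟩) : Good ⟨IQ.zero, IQ.zero, IQ.mul b IQ.hI⟩ := by
  have h := enum_sound (n := 2) le_rfl checkA_ok hb hn
  have hB : IQ.inHB (IQ.mul b IQ.hI) = true := by
    have := ((inL_iff _).1 hv.1).2.2.2
    simp only [vv_zero, vv_one, vv_two, val_zero, zero_add] at this
    exact (leftIdeal_iff).2.2 ⟨val_mem (mem_mul hb (by decide +kernel)).1, this⟩
  simp only [checkA, hB, Bool.not_true, Bool.false_or, List.any_eq_true, Bool.and_eq_true,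
    decide_eq_true_eq] at h
  obtain ⟨u, hu, h1, h2⟩ := h
  exact ⟨2, by norm_num, u, hu, by rw [h2, ← h1]⟩

theorem ideal_coords {y : IQ} (hy : val y ∈ leftIdeal icoH) :
    ∃ a, IQ.mem a = true ∧ y = IQ.mul a IQ.hI := by
  obtain ⟨q, hq, he⟩ := hy
  obtain ⟨a, ha, rfl⟩ := icosians_iff.1 hq
  refine ⟨a, ha, val_inj ?_⟩
  rw [(mem_mul ha (by decide +kernel)).2, he, val_hI]

theorem norm4_mul_h {a : IQ} (ha : IQ.mem a = true) :
    IQ.norm4 (IQ.mul a IQ.hI) = (2 * (IQ.norm4 a).1, 2 * (IQ.norm4 a).2) := by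
  refine norm4_of_normSq ?_
  rw [norm4_mul ha (by decide +kernel), normSq_val, normSq_val, show IQ.norm4 IQ.hI = (8, 0) by decide +kernel]
  push_cast
  ring

theorem good_zero {v : V3} (hv : IsMin v) (hx : v.x = IQ.zero) : Good v := by
  obtain ⟨x, y, z⟩ := v
  simp only at hx
  subst hx
  obtain ⟨hm, h1, h2, h3⟩ := (inL_iff _).1 hv.1
  simp only [vv_zero, vv_one, vv_two, val_zero, zero_sub, zero_add] at h1 h2 h3
  have hy : val y ∈ leftIdeal icoH := by
    simpa using leftIdeal_smul (neg_mem (one_mem icosians)) h1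
  have hz : val z ∈ leftIdeal icoH := by
    simpa using leftIdeal_add hy (leftIdeal_smul (neg_mem (one_mem icosians)) h2)
  obtain ⟨a, ha, rfl⟩ := ideal_coords hy
  obtain ⟨b, hb, rfl⟩ := ideal_coords hz
  obtain ⟨a0, a1, ea, pa, qa⟩ := norm_shape ha
  obtain ⟨b0, b1, eb, pb, qb⟩ := norm_shape hb
  have hN := hv.2
  simp only [V3.norm4, norm4_mul_h ha, norm4_mul_h hb, ea, eb, Prod.mk.injEq,
    show IQ.norm4 IQ.zero = (0, 0) from rfl] at hN
  have hzero : ∀ c : IQ, ∀ c0 c1 : ℤ, IQ.norm4 c = (4 * c0, 4 * c1) → 2 * c0 + c1 = 0 → c = IQ.zero := by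
    intro c c0 c1 e h
    exact tr4_zero (by simp only [tr4, e]; omega)
  obtain ⟨ca1, ca2, -, ca4⟩ := classify qa
  obtain ⟨cb1, cb2, -, cb4⟩ := classify qb
  rcases (show 2 * a0 + a1 = 0 ∨ 2 * b0 + b1 = 0 ∨ (2 * a0 + a1 = 2 ∧ 2 * b0 + b1 = 2) by omega)
    with h | h | ⟨ha2, hb2⟩
  · have := hzero a a0 a1 ea h
    subst this
    have e : IQ.mul IQ.zero IQ.hI = IQ.zero := rfl
    rw [e] at hv ⊢
    obtain ⟨rfl, rfl⟩ := Prod.mk.injEq .. ▸ cb4 (by omega)
    exact good_axis hb eb hv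
  · have := hzero b b0 b1 eb h
    subst this
    have e : IQ.mul IQ.zero IQ.hI = IQ.zero := rfl
    rw [e] at hv ⊢
    obtain ⟨rfl, rfl⟩ := Prod.mk.injEq .. ▸ ca4 (by omega)
    have h' := isMin_swapXY (isMin_swapXZ (isMin_swapXY hv))
    exact good_swapXY (good_swapXZ (good_swapXY (good_axis ha ea h')))
  · obtain ⟨rfl, rfl⟩ := Prod.mk.injEq .. ▸ ca2 ha2
    obtain ⟨rfl, rfl⟩ := Prod.mk.injEq .. ▸ cb2 hb2
    have hau : a ∈ units := units_complete ha ea
    have hbu : b ∈ units := units_complete hb eb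
    have hh : IQ.mem IQ.hI = true := by decide +kernel
    have hall : V3.allMem ⟨IQ.zero, IQ.mul a IQ.hI, IQ.mul b IQ.hI⟩ = true := by
      simp [V3.allMem, (mem_mul ha hh).1, (mem_mul hb hh).1, show IQ.mem IQ.zero = true by decide +kernel]
    refine good_of_lmul hau hall ?_
    set w := IQ.mul (IQ.conj a) b with hw
    have hwu : w ∈ units := units_mul (units_conj hau) hbu
    have hwm := mem_of_units hwu
    have e : V3.lmul (IQ.conj a) ⟨IQ.zero, IQ.mul a IQ.hI, IQ.mul b IQ.hI⟩ =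
        ⟨IQ.zero, IQ.hI, IQ.mul w IQ.hI⟩ := by
      have e2 : IQ.mul (IQ.conj a) (IQ.mul a IQ.hI) = IQ.hI :=
        scale_back (mem_conj ha) ha hh (units_inv a hau).1
      have e3 : IQ.mul (IQ.conj a) (IQ.mul b IQ.hI) = IQ.mul w IQ.hI := val_inj (by
        rw [(mem_mul (mem_conj ha) (mem_mul hb hh).1).2, (mem_mul hb hh).2, (mem_mul hwm hh).2, hw,
          (mem_mul (mem_conj ha) hb).2, mul_assoc])
      have e1 : IQ.mul (IQ.conj a) IQ.zero = IQ.zero := val_inj (by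
        rw [(mem_mul (mem_conj ha) (by decide +kernel)).2, val_zero, mul_zero])
      simp only [V3.lmul, e1, e2, e3]
    rw [e]
    refine good_of_inForms (checkB_ok w hwu ((leftIdeal_iff).2.2 ⟨?_, ?_⟩))
    · rw [val_add]; exact add_mem (val_mem hh) (val_mem (mem_mul hwm hh).1)
    · have := leftIdeal_smul (val_mem (mem_conj ha)) h3
      rw [val_add, ← e2' ha hb hau]
      exact this
where
  e2' {a b : IQ} (ha : IQ.mem a = true) (hb : IQ.mem b = true) (hau : a ∈ units) :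
      val (IQ.conj a) * (val (IQ.mul a IQ.hI) + val (IQ.mul b IQ.hI)) =
        val IQ.hI + val (IQ.mul (IQ.mul (IQ.conj a) b) IQ.hI) := by
    have hh : IQ.mem IQ.hI = true := by decide +kernel
    rw [mul_add, (mem_mul (mem_mul (mem_conj ha) hb).1 hh).2, (mem_mul (mem_conj ha) hb).2,
      (mem_mul hb hh).2, (mem_mul ha hh).2, ← mul_assoc, ← (mem_mul (mem_conj ha) ha).2,
      (units_inv a hau).1, val_one, one_mul, mul_assoc]

theorem good_one {y z : IQ} (hv : IsMin ⟨IQ.one, y, z⟩) (hy0 : tr4 y ≠ 0) (hz0 : tr4 z ≠ 0) :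
    Good ⟨IQ.one, y, z⟩ := by
  obtain ⟨hmem, h1, h2, h3⟩ := (inL_iff _).1 hv.1
  simp only [vv_zero, vv_one, vv_two] at h1 h2 h3
  have hym := mem_of_val (hmem 1)
  have hzm := mem_of_val (hmem 2)
  simp only [vv_one, vv_two] at hym hzm
  obtain ⟨a0, a1, ea, pa, qa⟩ := norm_shape hym
  obtain ⟨b0, b1, eb, pb, qb⟩ := norm_shape hzm
  have hone : IQ.mem IQ.one = true := by decide +kernel
  have hN := hv.2
  simp only [V3.norm4, ea, eb, Prod.mk.injEq, show IQ.norm4 IQ.one = (4, 0) from rfl] at hN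
  simp only [tr4, ea] at hy0
  simp only [tr4, eb] at hz0
  obtain ⟨ca1, ca2, ca3, ca4⟩ := classify qa
  obtain ⟨cb1, cb2, cb3, cb4⟩ := classify qb
  have typeC : ∀ y z : IQ, IsMin ⟨IQ.one, y, z⟩ → IQ.norm4 y = (4, 0) → IQ.norm4 z = (8, 0) →
      Good ⟨IQ.one, y, z⟩ := by
    intro y z hv hy hz
    obtain ⟨hmem, h1, h2, h3⟩ := (inL_iff _).1 hv.1
    simp only [vv_zero, vv_one, vv_two] at h1 h2 h3
    have hym := mem_of_val (hmem 1)
    have hzm := mem_of_val (hmem 2)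
    simp only [vv_one, vv_two] at hym hzm
    have h := enum_sound (n := 2) le_rfl checkC_ok hzm hz
    have hzh : IQ.inH (IQ.sub z IQ.one) = true := inH_sub_comm hzm hone (by
      have := leftIdeal_smul (neg_mem (one_mem icosians)) (leftIdeal_add h1 h2)
      simpa using this)
    simp only [checkC, hzh, Bool.not_true, Bool.false_or, List.all_eq_true, Bool.or_eq_true] at h
    rcases h y (List.mem_filter.2 ⟨units_complete hym hy, inH_sub_comm hone hym h1⟩) with (h | h) | h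
    · rw [(leftIdeal_iff).2.2 ⟨by rw [val_add, val_add]; exact add_mem (add_mem (hmem 0) (hmem 1)) (hmem 2),
        by rw [val_add, val_add]; exact h3⟩] at h
      simp at h
    · rw [inH_sub_comm hym hzm h2] at h
      simp at h
    · exact good_of_inForms h
  have typeD : ∀ y z : IQ, IsMin ⟨IQ.one, y, z⟩ → IQ.norm4 y = (4, 4) → IQ.norm4 z = (8, -4) →
      Good ⟨IQ.one, y, z⟩ := by
    intro y z hv hy hz
    obtain ⟨hmem, h1, h2, h3⟩ := (inL_iff _).1 hv.1
    simp only [vv_zero, vv_one, vv_two] at h1 h2 h3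
    have hym := mem_of_val (hmem 1)
    have hzm := mem_of_val (hmem 2)
    simp only [vv_one, vv_two] at hym hzm
    obtain ⟨mI, mJ, eIJ, eJI, nI, nJ⟩ := tauI_ok
    have hv' : IQ.mul tauJ y ∈ units := units_complete (mem_mul mJ hym).1 (norm4_of_normSq (by
      rw [norm4_mul mJ hym, normSq_val, normSq_val, nJ, hy]; push_cast
      linear_combination (-1 : ℝ) * tau_sq))
    have hw' : IQ.mul tauI z ∈ units := units_complete (mem_mul mI hzm).1 (norm4_of_normSq (by
      rw [norm4_mul mI hzm, normSq_val, normSq_val, nI, hz]; push_cast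
      linear_combination (-1 : ℝ) * tau_sq))
    have ey := scale_back mI mJ hym eIJ
    have ez := scale_back mJ mI hzm eJI
    have hyz : val IQ.one - val z ∈ leftIdeal icoH := by simpa using leftIdeal_add h1 h2
    have h := checkD_ok (IQ.mul tauJ y) (List.mem_filter.2 ⟨hv', by rw [ey]; exact inH_sub_comm hone hym h1⟩)
      (IQ.mul tauI z) (List.mem_filter.2 ⟨hw', by rw [ez]; exact inH_sub_comm hone hzm hyz⟩)
    rw [ey, ez] at h
    exact good_of_inForms (h hv.1)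
  have swapYZ : ∀ y z : IQ, IsMin ⟨IQ.one, y, z⟩ → IsMin ⟨IQ.one, z, y⟩ :=
    fun y z h => isMin_swapXY (isMin_swapXZ (isMin_swapXY h))
  have backYZ : ∀ y z : IQ, Good ⟨IQ.one, z, y⟩ → Good ⟨IQ.one, y, z⟩ :=
    fun y z h => good_swapXY (good_swapXZ (good_swapXY h))
  rcases (show (2 * a0 + a1 = 2 ∧ 2 * b0 + b1 = 4) ∨ (2 * a0 + a1 = 3 ∧ 2 * b0 + b1 = 3) ∨
      (2 * a0 + a1 = 4 ∧ 2 * b0 + b1 = 2) by omega) with ⟨ta, tb⟩ | ⟨ta, tb⟩ | ⟨ta, tb⟩
  · obtain ⟨rfl, rfl⟩ := Prod.mk.injEq .. ▸ ca2 ta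
    obtain ⟨rfl, rfl⟩ := Prod.mk.injEq .. ▸ cb4 tb
    exact typeC y z hv ea eb
  · simp only [Prod.mk.injEq] at ca3 cb3
    rcases ca3 ta with ⟨rfl, rfl⟩ | ⟨rfl, rfl⟩
    · obtain ⟨rfl, rfl⟩ : b0 = 2 ∧ b1 = -1 := by omega
      exact typeD y z hv ea eb
    · obtain ⟨rfl, rfl⟩ : b0 = 1 ∧ b1 = 1 := by omega
      exact backYZ y z (typeD z y (swapYZ y z hv) eb ea)
  · obtain ⟨rfl, rfl⟩ := Prod.mk.injEq .. ▸ ca4 ta
    obtain ⟨rfl, rfl⟩ := Prod.mk.injEq .. ▸ cb2 tb
    exact backYZ y z (typeC z y (swapYZ y z hv) eb ea)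

/-- every minimal vector is a unit multiple of a line -/
theorem good_of_min {v : V3} (hv : IsMin v) : Good v := by
  have hall : V3.allMem v = true := by
    have := hv.1
    simp only [V3.inL, Bool.and_eq_true] at this
    exact this.1.1.1
  by_cases hx : tr4 v.x = 0
  · exact good_zero hv (tr4_zero hx)
  by_cases hy : tr4 v.y = 0
  · exact good_swapXY (good_zero (isMin_swapXY hv) (tr4_zero hy))
  by_cases hz : tr4 v.z = 0
  · exact good_swapXZ (good_zero (isMin_swapXZ hv) (tr4_zero hz))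
  have main : ∀ w : V3, IsMin w → V3.allMem w = true → tr4 w.y ≠ 0 → tr4 w.z ≠ 0 →
      IQ.norm4 w.x = (4, 0) → Good w := by
    intro w hw hwm hy hz hx
    simp only [V3.allMem, Bool.and_eq_true] at hwm
    have hu : w.x ∈ units := units_complete hwm.1.1 hx
    refine good_of_lmul hu (by simp [V3.allMem, hwm]) ?_
    have hc := units_conj hu
    have hl := vv_lmul (mem_of_units hc) (v := w) (by simp [V3.allMem, hwm])
    have hex : IQ.mul (IQ.conj w.x) w.x = IQ.one := (units_inv _ hu).1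
    have hnm : ∀ y, IQ.mem y = true → IQ.norm4 (IQ.mul (IQ.conj w.x) y) = IQ.norm4 y := fun y hy => by
      refine norm4_of_normSq ?_
      rw [norm4_mul (mem_of_units hc) hy, normSq_unit hc, one_mul, normSq_val]
      rfl
    have hmin : IsMin (V3.lmul (IQ.conj w.x) w) := by
      refine ⟨(inL_iff _).2 (hl.2 ▸ leech_smul (val_mem (mem_of_units hc)) ((inL_iff _).1 hw.1)), ?_⟩
      simp only [V3.norm4, V3.lmul, hnm _ hwm.1.1, hnm _ hwm.1.2, hnm _ hwm.2]
      exact hw.2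
    have := good_one (y := IQ.mul (IQ.conj w.x) w.y) (z := IQ.mul (IQ.conj w.x) w.z)
      (by simpa [V3.lmul, hex] using hmin) (by simpa [tr4, hnm _ hwm.1.2] using hy)
      (by simpa [tr4, hnm _ hwm.2] using hz)
    simpa [V3.lmul, hex] using this
  simp only [V3.allMem, Bool.and_eq_true] at hall
  obtain ⟨a0, a1, ea, pa, qa⟩ := norm_shape hall.1.1
  obtain ⟨b0, b1, eb, pb, qb⟩ := norm_shape hall.1.2
  obtain ⟨c0, c1, ec, pc, qc⟩ := norm_shape hall.2
  have hN := hv.2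
  simp only [V3.norm4, ea, eb, ec, Prod.mk.injEq] at hN
  simp only [tr4, ea] at hx
  simp only [tr4, eb] at hy
  simp only [tr4, ec] at hz
  obtain ⟨ca1, ca2, -, -⟩ := classify qa
  obtain ⟨cb1, cb2, -, -⟩ := classify qb
  obtain ⟨cc1, cc2, -, -⟩ := classify qc
  have hy' : tr4 v.y ≠ 0 := by simpa [tr4, eb] using hy
  have hz' : tr4 v.z ≠ 0 := by simpa [tr4, ec] using hz
  have hx' : tr4 v.x ≠ 0 := by simpa [tr4, ea] using hx
  rcases (show 2 * a0 + a1 = 2 ∨ 2 * b0 + b1 = 2 ∨ 2 * c0 + c1 = 2 by omega) with h | h | h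
  · obtain ⟨rfl, rfl⟩ := Prod.mk.injEq .. ▸ ca2 h
    exact main v hv (by simp [V3.allMem, hall]) hy' hz' ea
  · obtain ⟨rfl, rfl⟩ := Prod.mk.injEq .. ▸ cb2 h
    exact good_swapXY (main (V3.swapXY v) (isMin_swapXY hv) (by simp [V3.allMem, V3.swapXY, hall]) hx' hz' eb)
  · obtain ⟨rfl, rfl⟩ := Prod.mk.injEq .. ▸ cc2 h
    exact good_swapXZ (main (V3.swapXZ v) (isMin_swapXZ hv) (by simp [V3.allMem, V3.swapXZ, hall]) hy' hx' ec)

end Cfsg.Lib.J2

end
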