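import Cfsg.Agent.Spor.J2.Group
import Cfsg.Agent.Spor.J2.CoverData

/-!
Words in the four reflections, evaluated on the three axes of the icosian lattice.
-/

set_option autoImplicit false
set_option linter.style.haveILetI false
set_option maxRecDepth 100000
set_option maxHeartbeats 2000000
set_option Elab.async false

noncomputable section

namespace Cfsg.Lib.J2

open Quaternion Cfsg.Spor Cfsg.Lib.PermCert
open scoped Pointwise

/-- A unit by its number. -/
def unitAt (u : ℕ) : IQ := units.getD u IQ.zero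

/-- The product of two units. -/
def umul (a b : ℕ) : ℕ := (umulPack >>> (8 * (120 * a + b))) % 256

/-- The unit of a generator at a line. -/
def gunit (c : Fin 4) (i : ℕ) : ℕ := ((gunitPack.getD c 0) >>> (8 * i)) % 256

theorem umul_ok : ∀ a ∈ List.range 120, ∀ b ∈ List.range 120,
    umul a b < 120 ∧ IQ.mul (unitAt a) (unitAt b) = unitAt (umul a b) := by decide +kernel

theorem gunit_ok : ∀ c : Fin 4, ∀ i ∈ List.range 315,
    gunit c i < 120 ∧ gunit c i = (genUnits.getD c []).getD i 0 := by decide +kernel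

theorem units_misc : units.Nodup ∧ units.length = 120 ∧ unitOne < 120 ∧ unitAt unitOne = IQ.one := by
  decide +kernel

theorem unitAt_mem {u : ℕ} (hu : u < 120) : unitAt u ∈ units := by
  unfold unitAt
  rw [List.getD_eq_getElem _ _ (units_misc.2.1.symm ▸ hu)]
  exact List.getElem_mem _

/-- A generator on states: a unit multiple of a chosen vector, coded as one number. -/
def app (c s : ℕ) : ℕ :=
  umul (s / 512) (gunit ⟨c % 4, Nat.mod_lt _ (by omega)⟩ (s % 512)) * 512 +
    ap (genP ⟨c % 4, Nat.mod_lt _ (by omega)⟩).1 (s % 512)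

/-- A word on states. -/
def act (w : List ℕ) (s : ℕ) : ℕ := w.foldr app s

/-- The three axes. -/
abbrev Key : Type := ℕ × ℕ × ℕ

/-- A word on keys. -/
def actK (w : List ℕ) (k : Key) : Key := (act w k.1, act w k.2.1, act w k.2.2)

/-- The key of a word. -/
def key (w : List ℕ) : Key := actK w (unitOne * 512, unitOne * 512 + 1, unitOne * 512 + 2)

/-- A valid state. -/
def Ok (s : ℕ) : Prop := s / 512 < 120 ∧ s % 512 < 315

/-- The vector of a state. -/
def VV (s : ℕ) : Vec := val (unitAt (s / 512)) • LV ⟨s % 512 % 315, Nat.mod_lt _ (by omega)⟩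

theorem sC_twoJ2 (c : Fin 4) : sC c ∈ twoJ2 := by
  rw [twoJ2_eq]
  exact ⟨_, Subgroup.subset_closure ⟨c, rfl⟩, rfl⟩

/-- A generator. -/
def gS (c : ℕ) : twoJ2 := ⟨sC ⟨c % 4, Nat.mod_lt _ (by omega)⟩, sC_twoJ2 _⟩

/-- The value of a word. -/
def el (w : List ℕ) : twoJ2 := (w.map gS).prod

@[simp] theorem el_nil : el [] = 1 := rfl

theorem el_cons (c : ℕ) (w : List ℕ) : el (c :: w) = gS c * el w := by simp [el]

theorem el_append (a b : List ℕ) : el (a ++ b) = el a * el b := by simp [el]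

/-- A lattice automorphism as a function. -/
def fn (g : twoJ2) (x : icoLeech) : Vec := (((g : Equiv.Perm icoLeech) x : icoLeech) : Vec)

theorem phi_smul_gi (c : Fin 4) (q : ℍ[ℝ]) (v : Vec) :
    phi (LV (gi c)) (q • v) = q • phi (LV (gi c)) v := LinearMap.map_smul _ _ _

theorem app_spec (c : ℕ) {s : ℕ} (hs : Ok s) : Ok (app c s) ∧
    ∀ x : icoLeech, (x : Vec) = VV s → fn (gS c) x = VV (app c s) := by
  obtain ⟨hu, hi⟩ := hs
  set d : Fin 4 := ⟨c % 4, Nat.mod_lt _ (by omega)⟩ with hd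
  obtain ⟨hv, hall⟩ := gen_action d
  obtain ⟨h1, h2, h3⟩ := hall _ (List.mem_range.2 hi)
  obtain ⟨g1, g2⟩ := gunit_ok d _ (List.mem_range.2 hi)
  obtain ⟨m1, m2⟩ := umul_ok _ (List.mem_range.2 hu) _ (List.mem_range.2 g1)
  have hlt : ap (genP d).1 (s % 512) < 315 := valid_lt hv hi
  have e1 : app c s / 512 = umul (s / 512) (gunit d (s % 512)) := by
    simp only [app, ← hd]; omega
  have e2 : app c s % 512 = ap (genP d).1 (s % 512) := by
    simp only [app, ← hd]; omega
  refine ⟨⟨e1 ▸ m1, e2 ▸ hlt⟩, fun x hx => ?_⟩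
  show phi (LV (gi d)) (x : Vec) = _
  have ei : (⟨s % 512 % 315, Nat.mod_lt _ (by omega)⟩ : Fin 315) = ⟨s % 512, hi⟩ :=
    Fin.ext (Nat.mod_eq_of_lt hi)
  have ej : (⟨app c s % 512 % 315, Nat.mod_lt _ (by omega)⟩ : Fin 315) = ⟨ap (genP d).1 (s % 512), hlt⟩ :=
    Fin.ext (by show app c s % 512 % 315 = _; rw [e2, Nat.mod_eq_of_lt hlt])
  have hgu : unitAt (gunit d (s % 512)) = (genImg d (s % 512)).1 := by
    rw [g2]; rfl
  rw [hx, VV, VV, ei, ej, e1, ← m2, (mem_mul (mem_of_units (unitAt_mem hu))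
    (mem_of_units (unitAt_mem g1))).2, phi_smul_gi, mul_smul, hgu]
  congr 1
  rw [show phi (LV (gi d)) (LV ⟨s % 512, hi⟩) = vv (reflI (line (genIdx.getD d 0)) (line (s % 512))) from
    (vv_reflI h1).symm, h3, (vv_lmul (mem_of_units h2) (line_allMem (i := (genImg d (s % 512)).2) hlt)).2]
  rfl

theorem act_spec (w : List ℕ) {s : ℕ} (hs : Ok s) : Ok (act w s) ∧
    ∀ x : icoLeech, (x : Vec) = VV s → fn (el w) x = VV (act w s) := by
  induction w with
  | nil => exact ⟨hs, fun x hx => hx⟩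
  | cons c w ih =>
    obtain ⟨h1, h2⟩ := ih
    obtain ⟨h3, h4⟩ := app_spec c h1
    exact ⟨h3, fun x hx => h4 _ (h2 x hx)⟩

theorem start_spec (t : Fin 3) : Ok (unitOne * 512 + t) ∧
    (LL ⟨t, by omega⟩ : Vec) = VV (unitOne * 512 + t) := by
  have ht := t.2
  have e1 : (unitOne * 512 + t) / 512 = unitOne := by omega
  have e2 : (unitOne * 512 + (t : ℕ)) % 512 = t := by omega
  have ei : (⟨(unitOne * 512 + (t : ℕ)) % 512 % 315, Nat.mod_lt _ (by omega)⟩ : Fin 315) = ⟨t, by omega⟩ :=
    Fin.ext (by show (unitOne * 512 + (t : ℕ)) % 512 % 315 = (t : ℕ); omega)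
  refine ⟨⟨by rw [e1]; exact units_misc.2.2.1, by omega⟩, ?_⟩
  rw [VV, ei, e1, units_misc.2.2.2, val_one, one_smul]
  rfl

theorem eq_iff_axes {g h : twoJ2} :
    g = h ↔ ∀ t : Fin 3, fn g (LL ⟨t, by omega⟩) = fn h (LL ⟨t, by omega⟩) := by
  refine ⟨fun e => by simp [e], fun e => Subtype.ext (Equiv.ext fun x => Subtype.ext ?_)⟩
  obtain ⟨φ, -, hg⟩ := twoJ2_le g.2
  obtain ⟨ψ, -, hh⟩ := twoJ2_le h.2
  obtain ⟨a0, a1, a2⟩ := axis_vals
  have e0 : φ (LV 0) = ψ (LV 0) := (hg (LL 0)).symm.trans ((e 0).trans (hh (LL 0)))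
  have e1 : φ (LV 1) = ψ (LV 1) := (hg (LL 1)).symm.trans ((e 1).trans (hh (LL 1)))
  have e2 : φ (LV 2) = ψ (LV 2) := (hg (LL 2)).symm.trans ((e 2).trans (hh (LL 2)))
  have hd : (x : Vec) = ((1 / 2 : ℝ) • (x : Vec) 0) • LV 0 + ((1 / 2 : ℝ) • (x : Vec) 1) • LV 1
      + ((1 / 2 : ℝ) • (x : Vec) 2) • LV 2 := by
    rw [show LV 0 = _ from a0, show LV 1 = _ from a1, show LV 2 = _ from a2]
    funext t; fin_cases t <;> simp [mul_coe_eq_smul, smul_smul]
  rw [hg, hh, hd, map_add, map_add, map_add, map_add, LinearEquiv.map_smul, LinearEquiv.map_smul,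
    LinearEquiv.map_smul, LinearEquiv.map_smul, LinearEquiv.map_smul, LinearEquiv.map_smul, e0, e1, e2]

theorem VV_inj {a b : ℕ} (ha : Ok a) (hb : Ok b) (h : VV a = VV b) : a = b := by
  have hn : qip (VV a) (VV a) = 4 := by
    rw [VV, qip_smul_left, qip_smul_right, (LV_mem _).2, ← mul_assoc, mul_four, smul_mul_assoc, self_mul_star,
      normSq_unit (unitAt_mem ha.1), coe_one, ← mul_four, one_mul]
  have hij := scalar_unique hn rfl h
  have hi : a % 512 = b % 512 := by
    have := congrArg Fin.val hij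
    simpa [Nat.mod_eq_of_lt ha.2, Nat.mod_eq_of_lt hb.2] using this
  have h' : (val (unitAt (a / 512)) - val (unitAt (b / 512))) •
      LV ⟨b % 512 % 315, Nat.mod_lt _ (by omega)⟩ = 0 := by
    rw [sub_smul, sub_eq_zero]
    simp only [VV, hij] at h
    exact h
  have hu : a / 512 = b / 512 := by
    rcases smul_eq_zero.1 h' with h' | h'
    · have e := val_inj (sub_eq_zero.1 h')
      simp only [unitAt] at e
      rw [List.getD_eq_getElem _ _ (units_misc.2.1.symm ▸ ha.1),
        List.getD_eq_getElem _ _ (units_misc.2.1.symm ▸ hb.1)] at e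
      exact units_misc.1.getElem_inj_iff.1 e
    · have h4 := (LV_mem ⟨b % 512 % 315, Nat.mod_lt _ (by omega)⟩).2
      rw [h'] at h4
      have := congrArg QuaternionAlgebra.re h4
      rw [show (4 : ℍ[ℝ]) = ((4 : ℝ) : ℍ[ℝ]) from rfl] at this
      simp [qip] at this
  omega

theorem el_eq_iff {v w : List ℕ} : el v = el w ↔ key v = key w := by
  have S := start_spec
  rw [eq_iff_axes]
  constructor
  · intro h
    have hh : ∀ t : Fin 3, act v (unitOne * 512 + t) = act w (unitOne * 512 + t) := fun t => by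
      obtain ⟨a1, a2⟩ := act_spec v (S t).1
      obtain ⟨b1, b2⟩ := act_spec w (S t).1
      exact VV_inj a1 b1 (((a2 _ (S t).2).symm.trans (h t)).trans (b2 _ (S t).2))
    exact Prod.ext (hh 0) (Prod.ext (hh 1) (hh 2))
  · intro h t
    rw [(act_spec v (S t).1).2 _ (S t).2, (act_spec w (S t).1).2 _ (S t).2]
    simp only [key, actK, Prod.mk.injEq] at h
    fin_cases t
    exacts [congrArg VV h.1, congrArg VV h.2.1, congrArg VV h.2.2]

theorem key_append (a b : List ℕ) : key (a ++ b) = actK a (key b) := by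
  simp [key, actK, act]

/-- A product of chosen words. -/
def flat (ws : List (List ℕ)) (l : List ℕ) : List ℕ := l.flatMap fun j => ws.getD j []

theorem flat_cons (ws : List (List ℕ)) (j : ℕ) (l : List ℕ) :
    flat ws (j :: l) = ws.getD j [] ++ flat ws l := by simp [flat]

/-- The elements listed for a subgroup. -/
def closedOK (ws ps : List (List ℕ)) (K : List Key) : Bool :=
  (ps.map (fun l => key (flat ws l)) == K) && ps.contains [] && decide K.Nodup &&
    (ps.all fun l => l.all fun j => Nat.blt j ws.length) &&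
    (List.range ws.length).all fun j => K.all fun k => K.contains (actK (ws.getD j []) k)

theorem closure_card {ws ps : List (List ℕ)} {K : List Key} (h : closedOK ws ps K = true) :
    Nat.card (Subgroup.closure ((fun j => el (ws.getD j [])) '' {j | j < ws.length})) = ps.length := by
  classical
  simp only [closedOK, Bool.and_eq_true, beq_iff_eq, List.all_eq_true, decide_eq_true_eq,
    List.contains_iff_mem, List.mem_range, Nat.blt, Nat.ble_eq] at h
  obtain ⟨⟨⟨⟨hK, h0⟩, hnd⟩, hlt⟩, hcl⟩ := h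
  set H := Subgroup.closure ((fun j => el (ws.getD j [])) '' {j | j < ws.length}) with hH
  let S : Set twoJ2 := {g | ∃ l ∈ ps, g = el (flat ws l)}
  have hfin : S.Finite := (ps.map fun l => el (flat ws l)).finite_toSet.subset (by
    rintro g ⟨l, hl, rfl⟩
    exact List.mem_map.2 ⟨l, hl, rfl⟩)
  have hstab : ∀ j < ws.length, ∀ s ∈ S, el (ws.getD j []) * s ∈ S := by
    rintro j hj _ ⟨l, hl, rfl⟩
    have := hcl j hj (key (flat ws l)) (hK ▸ List.mem_map.2 ⟨l, hl, rfl⟩)
    rw [← key_append, ← hK, List.mem_map] at this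
    obtain ⟨l', hl', e⟩ := this
    exact ⟨l', hl', by rw [← el_append, el_eq_iff, e]⟩
  have hle : H ≤ MulAction.stabilizer twoJ2 S := by
    rw [hH, Subgroup.closure_le]
    rintro _ ⟨j, hj, rfl⟩
    refine MulAction.mem_stabilizer_iff.2 (Set.eq_of_subset_of_ncard_le ?_ ?_ hfin)
    · rintro _ ⟨s, hs, rfl⟩
      exact hstab j hj s hs
    · rw [Set.ncard_smul_set]
  have hsub : (H : Set twoJ2) = S := by
    refine Set.Subset.antisymm (fun g hg => ?_) ?_
    · have h1 : g • S = S := hle hg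
      have h2 : (1 : twoJ2) ∈ S := ⟨[], h0, by simp [flat]⟩
      have := Set.smul_mem_smul_set (a := g) h2
      rwa [h1, smul_eq_mul, mul_one] at this
    · rintro _ ⟨l, hl, rfl⟩
      have h1 := hlt l hl
      clear hl
      induction l with
      | nil => simp [flat]
      | cons j l ih =>
        rw [flat_cons, el_append]
        exact mul_mem (Subgroup.subset_closure ⟨j, h1 j List.mem_cons_self, rfl⟩)
          (ih fun i hi => h1 i (List.mem_cons_of_mem _ hi))
  rw [← SetLike.coe_sort_coe, Nat.card_coe_set_eq, hsub]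
  have hnd' : (ps.map fun l => el (flat ws l)).Nodup := by
    rw [← hK] at hnd
    rw [List.nodup_map_iff_inj_on hnd.of_map]
    intro a ha b hb e
    exact List.inj_on_of_nodup_map hnd ha hb (el_eq_iff.1 e)
  have e : S = ((ps.map fun l => el (flat ws l)).toFinset : Set twoJ2) := by
    ext g; simp [S, eq_comm]
  rw [e, Set.ncard_coe_finset, List.toFinset_card_of_nodup hnd', List.length_map]

end Cfsg.Lib.J2

end
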